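import Mathlib.AlgebraicGeometry.AffineTransitionLimit

/-!
# Clopen subsets of limits
-/

set_option autoImplicit false
set_option linter.unusedSectionVars false
set_option linter.unusedVariables false
universe u

open CategoryTheory CategoryTheory.Limits AlgebraicGeometry Opposite TopologicalSpace

namespace K990.CohProp

/-- Clopen subsets of a cofiltered limit come from a finite stage. -/
theorem exists_clopen_of_isLimit {I : Type u} [SmallCategory I] [IsCofiltered I] (D : I ⥤ Scheme.{u})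
    (c : Cone D) (hc : IsLimit c) [∀ {i j : I} (f : i ⟶ j), IsAffineHom (D.map f)]
    [∀ i, CompactSpace (D.obj i)] [∀ i, QuasiSeparatedSpace (D.obj i)] (O : Set c.pt) (hO : IsClopen O) :
    ∃ (i : I) (O' : Set (D.obj i)), IsClopen O' ∧ c.π.app i ⁻¹' O' = O := by
  have hcpt : CompactSpace c.pt := Scheme.compactSpace_of_isLimit D c hc
  obtain ⟨i₁, V₁, hV₁, h₁⟩ := exists_preimage_eq D c hc ⟨O, hO.2⟩ hO.1.isCompact
  obtain ⟨i₂, V₂, hV₂, h₂⟩ := exists_preimage_eq D c hc ⟨Oᶜ, hO.compl.2⟩ hO.compl.1.isCompact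
  obtain ⟨i, a, b, -⟩ := IsCofilteredOrEmpty.cone_objs i₁ i₂
  have hw : ∀ {i j : I} (f : i ⟶ j) (x : c.pt), D.map f (c.π.app i x) = c.π.app j x := by
    intro i j f x
    rw [← Scheme.Hom.comp_apply, c.w]
  have e₁ : ∀ x, D.map a (c.π.app i x) ∈ V₁ ↔ x ∈ O := by
    intro x
    rw [hw]
    exact congrArg (x ∈ ·) h₁ |>.to_iff
  have e₂ : ∀ x, D.map b (c.π.app i x) ∈ V₂ ↔ x ∉ O := by
    intro x
    rw [hw]
    exact congrArg (x ∈ ·) h₂ |>.to_iff
  -- disjointness
  obtain ⟨j, f, hj⟩ := exists_map_preimage_le_map_preimage D c hc (i := i)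
    (U := D.map a ⁻¹ᵁ V₁ ⊓ D.map b ⁻¹ᵁ V₂) (V := ⊥)
    (QuasiSeparatedSpace.inter_isCompact _ _ (V₁.2.preimage (D.map a).continuous)
      (QuasiCompact.isCompact_preimage _ V₁.2 hV₁) (V₂.2.preimage (D.map b).continuous)
      (QuasiCompact.isCompact_preimage _ V₂.2 hV₂))
    (fun x hx => absurd ((e₁ x).1 hx.1) ((e₂ x).1 hx.2))
  obtain ⟨k, g, hk⟩ := exists_map_preimage_le_map_preimage D c hc (i := i)
    (U := ⊤) (V := D.map a ⁻¹ᵁ V₁ ⊔ D.map b ⁻¹ᵁ V₂) isCompact_univ (by
      intro x _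
      by_cases hx : x ∈ O
      · exact Or.inl ((e₁ x).2 hx)
      · exact Or.inr ((e₂ x).2 hx))
  obtain ⟨l, s, t, hst⟩ := IsCofiltered.cospan f g
  refine ⟨l, D.map (s ≫ f) ⁻¹' (D.map a ⁻¹' V₁), ⟨?_, ?_⟩, ?_⟩
  · rw [← isOpen_compl_iff]
    have : (D.map (s ≫ f) ⁻¹' (D.map a ⁻¹' V₁))ᶜ = D.map (s ≫ f) ⁻¹' (D.map b ⁻¹' V₂) := by
      ext x
      constructor
      · intro hx
        have h1 := hk (x := D.map t x) trivial
        have h2 : D.map g (D.map t x) = D.map (s ≫ f) x := by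
          rw [← Scheme.Hom.comp_apply, ← D.map_comp, hst]
        rcases h1 with h1 | h1
        · exfalso
          apply hx
          change D.map a (D.map (s ≫ f) x) ∈ V₁
          rw [← h2]
          exact h1
        · change D.map b (D.map (s ≫ f) x) ∈ V₂
          rw [← h2]
          exact h1
      · intro hx hx'
        have h2 : D.map f (D.map s x) = D.map (s ≫ f) x := by
          rw [← Scheme.Hom.comp_apply, ← D.map_comp]
        refine (hj (x := D.map s x) ⟨?_, ?_⟩ : _)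
        · change D.map a (D.map f (D.map s x)) ∈ V₁
          rw [h2]; exact hx'
        · change D.map b (D.map f (D.map s x)) ∈ V₂
          rw [h2]; exact hx
    rw [this]
    exact (V₂.2.preimage (D.map b).continuous).preimage (D.map (s ≫ f)).continuous
  · exact (V₁.2.preimage (D.map a).continuous).preimage (D.map (s ≫ f)).continuous
  · ext x
    change D.map a (D.map (s ≫ f) (c.π.app l x)) ∈ V₁ ↔ x ∈ O
    rw [hw]
    exact e₁ x

end K990.CohProp
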