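import Groth.Agent.CohProp.K990.ClTop
import Groth.Agent.Sga1.HclHensel
import Groth.Agent.EtpbcA.SepClosedStrict
import Groth.Agent.Etrest.StrictLoc

/-!
# Clopen subsets of proper schemes over strictly henselian local rings
-/

set_option autoImplicit false
set_option linter.unusedSectionVars false
universe u

open CategoryTheory CategoryTheory.Limits AlgebraicGeometry Opposite IsLocalRing
open Groth.Agent.Etrest.StrictLoc Groth.Agent.Sga1.RankOne

namespace K990.CohProp

/-- Geometrically connected faithfully flat quasi-compact morphisms. -/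
theorem clBij_of_geometricallyConnected {X Y : Scheme.{u}} (f : X ⟶ Y) [GeometricallyConnected f]
    [Flat f] [QuasiCompact f] : ClBij f := by
  have : Surjective f := inferInstance
  exact ClBij.of_connected_fibres (Flat.isQuotientMap_of_surjective f)
    (fun y => (Scheme.Hom.isConnected_preimage_singleton f y).isPreconnected)

/-- Extension of separably closed fields. -/
theorem clBij_field {k k' : Type u} [Field k] [IsSepClosed k] [Field k'] (i : k →+* k')
    {X X' : Scheme.{u}} {x : X ⟶ Spec (CommRingCat.of k)} {a : X' ⟶ X}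
    {b : X' ⟶ Spec (CommRingCat.of k')} (h : IsPullback a b x (spm i)) : ClBij a := by
  let _ : Algebra k k' := i.toAlgebra
  have h1 : GeometricallyIrreducible (spm i) :=
    Groth.Agent.Flat2D.SepClosedGeom.geometricallyIrreducible_specMap_of_isSepClosed k k'
  have h2 : GeometricallyConnected (spm i) :=
    Groth.Agent.Sga67.DVRConn.geometricallyConnected _
  have h3 : Flat (spm i) := by
    rw [HasRingHomProperty.Spec_iff (P := @Flat)]
    exact inferInstanceAs (Module.Flat k k')
  have i1 : GeometricallyConnected a := MorphismProperty.of_isPullback h.flip h2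
  have i2 : Flat a := MorphismProperty.of_isPullback h.flip h3
  have i3 : QuasiCompact a := MorphismProperty.of_isPullback h.flip inferInstance
  exact clBij_of_geometricallyConnected a

/-- The closed fibre of a proper scheme over a henselian local ring. -/
theorem clBij_closedFibre {A : Type u} [CommRing A] [HenselianLocalRing A] {W W₀ : Scheme.{u}}
    {w : W ⟶ Spec (CommRingCat.of A)} [IsProper w] {a : W₀ ⟶ W}
    {b : W₀ ⟶ Spec (CommRingCat.of (ResidueField A))} (h : IsPullback a b w (resPt A)) :
    ClBij a := by
  constructor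
  · intro D hD e
    by_contra hne
    have h1 : (Dᶜ).Nonempty := by
      rw [Set.nonempty_compl]
      exact hne
    have h2 : IsClosed (w '' Dᶜ) := w.isClosedMap _ hD.compl.1
    obtain ⟨z, hz⟩ := h1
    have h3 : closedPoint A ∈ w '' Dᶜ := by
      have h4 : (w z : PrimeSpectrum A) ⤳ closedPoint A := specializes_closedPoint _
      exact h4.mem_closed h2 ⟨z, hz, rfl⟩
    obtain ⟨y, hy, hyc⟩ := h3
    have h5 : w y = resPt A (closedPoint (ResidueField A)) := by
      rw [hyc, resPt_closedPoint]
    obtain ⟨y₀, hy₀, -⟩ := Scheme.Pullback.exists_preimage_pullback (f := w) (g := resPt A) y _ h5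
    have h6 : a (h.isoPullback.inv y₀) = y := by
      rw [← Scheme.Hom.comp_apply, h.isoPullback_inv_fst, hy₀]
    have h7 : h.isoPullback.inv y₀ ∈ a ⁻¹' D := by rw [e]; trivial
    rw [Set.mem_preimage, h6] at h7
    exact hy h7
  · intro D hD
    let D' : (pullback w (cl A)).Opens := h.isoPullback.inv ⁻¹ᵁ ⟨D, hD.2⟩
    obtain ⟨V, hV, hV'⟩ := Groth.Agent.Sga1.HclHensel.clopenLifts w D'
      (hD.1.preimage h.isoPullback.inv.continuous)
    refine ⟨V, ⟨hV, V.2⟩, ?_⟩
    ext z
    have h1 : a z = pullback.fst w (cl A) (h.isoPullback.hom z) :=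
      (congrArg (fun k : W₀ ⟶ W => k z) (h.isoPullback_hom_fst).symm).trans
        (Scheme.Hom.comp_apply _ _ z)
    have h2 : h.isoPullback.hom z ∈ pullback.fst w (cl A) ⁻¹ᵁ V ↔ h.isoPullback.hom z ∈ D' := by
      rw [hV']
    have h3 : h.isoPullback.hom z ∈ D' ↔ z ∈ D := by
      change h.isoPullback.inv (h.isoPullback.hom z) ∈ D ↔ _
      rw [← Scheme.Hom.comp_apply, Iso.hom_inv_id]
      rfl
    rw [← h3, ← h2, Set.mem_preimage, h1]
    rfl

/-- **Proper base change for clopen subsets.** -/
theorem clBij_proper {A A' : Type u} [CommRing A] [HenselianLocalRing A] [IsSepClosed (ResidueField A)]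
    [CommRing A'] [HenselianLocalRing A'] (φ : A →+* A') [IsLocalHom φ]
    {W W' : Scheme.{u}} {w : W ⟶ Spec (CommRingCat.of A)} [IsProper w] {a : W' ⟶ W}
    {w' : W' ⟶ Spec (CommRingCat.of A')} (h : IsPullback a w' w (spm φ)) : ClBij a := by
  have i1 : IsProper w' := MorphismProperty.of_isPullback h inferInstance
  -- the closed fibres
  have h0 := IsPullback.of_hasPullback w (resPt A)
  have h0' := IsPullback.of_hasPullback w' (resPt A')
  have hc := h0'.paste_horiz h
  rw [resPt_spm φ] at hc
  let l : pullback w' (resPt A') ⟶ pullback w (resPt A) :=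
    h0.lift (pullback.fst w' (resPt A') ≫ a) (pullback.snd w' (resPt A') ≫ spm (ResidueField.map φ))
      (by rw [hc.w, Category.assoc])
  have hl1 : l ≫ pullback.fst w (resPt A) = pullback.fst w' (resPt A') ≫ a := h0.lift_fst _ _ _
  have hl2 : l ≫ pullback.snd w (resPt A) =
    pullback.snd w' (resPt A') ≫ spm (ResidueField.map φ) := h0.lift_snd _ _ _
  have hl : IsPullback l (pullback.snd w' (resPt A')) (pullback.snd w (resPt A))
      (spm (ResidueField.map φ)) := by
    refine IsPullback.of_right (h₁₂ := pullback.fst w (resPt A)) (v₁₃ := w) (h₂₂ := resPt A) ?_ hl2 h0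
    rw [hl1]
    exact hc
  have c1 : ClBij (pullback.fst w (resPt A)) := clBij_closedFibre h0
  have c2 : ClBij (pullback.fst w' (resPt A')) := clBij_closedFibre h0'
  have c3 : ClBij l := clBij_field _ hl
  have c4 : ClBij ((pullback.fst w (resPt A)) ∘ l) := c3.comp c1 (Scheme.Hom.continuous _)
  have e : (pullback.fst w (resPt A) : _ → _) ∘ l = a ∘ (pullback.fst w' (resPt A')) := by
    funext z
    exact (Scheme.Hom.comp_apply l (pullback.fst w (resPt A)) z).symm.trans
      ((congrArg (fun k : pullback w' (resPt A') ⟶ W => k z) hl1).trans (Scheme.Hom.comp_apply _ _ z))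
  rw [e] at c4
  exact c2.of_comp_right c4 (Scheme.Hom.continuous _) (Scheme.Hom.continuous _)

end K990.CohProp
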