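import Groth.Agent.CohProp.K990.Nice
import Groth.Agent.CohProp.K990.ClLimit
import Groth.Agent.CohProp.K990.ClProper

/-!
# Admissible tests

`Adm q P σ`: `σ : Spec A ⟶ Y` is a strict localization of a base change of `Y ⟶ S` along a morphism `T ⟶ S`
with image in `P`.
`clBij_ι_adm`: extension of clopen subsets over admissible tests.
-/

set_option autoImplicit false
set_option linter.unusedSectionVars false
set_option linter.unusedVariables false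
set_option backward.isDefEq.respectTransparency.types false
universe u

open CategoryTheory CategoryTheory.Limits AlgebraicGeometry Opposite IsLocalRing TopologicalSpace

namespace K990.CohProp

open Groth.Agent.EtpbcB.StrictLoc Groth.Agent.EtpbcB.Psi Groth.Agent.EtpbcB.OshHens
  Groth.Agent.EtpbcB
open Groth.Agent.Etbc.H192.ZeroAcyc (SepGeomConnected)
open Groth.Agent.Sga4A.EtStalk (exists_geomPoint)
open Groth.Agent.Etrest.StrictLoc (spm IsStrictLoc)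

/-- Admissible tests. -/
def Adm {Y S : Scheme.{u}} (q : Y ⟶ S) (P : Set S) {A : Type u} [CommRing A] [IsLocalRing A]
    (σ : Spec (CommRingCat.of A) ⟶ Y) : Prop :=
  ∃ (T Y' : Scheme.{u}) (p : T ⟶ S) (g : Y' ⟶ Y) (q' : Y' ⟶ T) (σ' : Spec (CommRingCat.of A) ⟶ Y'),
    Set.range p ⊆ P ∧ IsPullback g q' q p ∧ IsStrictLoc σ' ∧ σ' ≫ g = σ

theorem Adm.mono {Y S : Scheme.{u}} {q : Y ⟶ S} {P P' : Set S} {A : Type u} [CommRing A]
    [IsLocalRing A] {σ : Spec (CommRingCat.of A) ⟶ Y} (h : Adm q P σ) (hP : P ⊆ P') : Adm q P' σ := by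
  obtain ⟨T, Y', p, g, q', σ', h1, h2, h3, h4⟩ := h
  exact ⟨T, Y', p, g, q', σ', h1.trans hP, h2, h3, h4⟩

theorem exists_preimage_of_isPullback {P X Y Z : Scheme.{u}} {a : P ⟶ X} {b : P ⟶ Y} {f : X ⟶ Z}
    {g : Y ⟶ Z} (h : IsPullback a b f g) (x : X) (y : Y) (hxy : f x = g y) :
    ∃ p : P, a p = x ∧ b p = y := by
  obtain ⟨z, h1, h2⟩ := Scheme.Pullback.exists_preimage_pullback x y hxy
  refine ⟨h.isoPullback.inv z, ?_, ?_⟩
  · rw [← Scheme.Hom.comp_apply, h.isoPullback_inv_fst, h1]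
  · rw [← Scheme.Hom.comp_apply, h.isoPullback_inv_snd, h2]

section Ext

variable {Z Y S T' : Scheme.{u}} {q : Y ⟶ S} {w : Z ⟶ Y} {h : Z ⟶ T'} {t : T' ⟶ S}

/-- The base changed nice pair. -/
theorem exists_nice_bc (hw : w ≫ q = h ≫ t) {V : Z.Opens} (H : Nice h V) {T Y' : Scheme.{u}} {p : T ⟶ S}
    {g : Y' ⟶ Y} {q' : Y' ⟶ T} (hpb : IsPullback g q' q p) {Z' : Scheme.{u}} {c : Z' ⟶ Z}
    {z' : Z' ⟶ Y'} (hZ : IsPullback c z' w g) :
    ∃ (T₁ : Scheme.{u}) (h' : Z' ⟶ T₁), Nice h' (c ⁻¹ᵁ V) := by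
  have h1 : IsPullback c (z' ≫ q') (h ≫ t) p := by
    rw [← hw]
    exact hZ.paste_vert hpb
  have h0 : IsPullback (pullback.fst t p) (pullback.snd t p) t p := IsPullback.of_hasPullback _ _
  let h' : Z' ⟶ pullback t p := h0.lift (c ≫ h) (z' ≫ q') (by rw [Category.assoc, h1.w])
  have e1 : h' ≫ pullback.fst t p = c ≫ h := h0.lift_fst _ _ _
  have e2 : h' ≫ pullback.snd t p = z' ≫ q' := h0.lift_snd _ _ _
  refine ⟨_, h', H.of_isPullback (b' := c) (b := pullback.fst t p) ?_⟩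
  refine IsPullback.of_bot (v₂₁ := pullback.snd t p) (v₂₂ := t) (h₃₁ := p) ?_ e1.symm h0
  rw [e2]
  exact h1

/-- Base change to strict localizations. -/
theorem clExt_toBase {Z' Y' T₁ : Scheme.{u}} {h' : Z' ⟶ T₁} {V' : Z'.Opens} (H : Nice h' V')
    (z' : Z' ⟶ Y') [QuasiCompact (V'.ι ≫ z')] [QuasiSeparated (V'.ι ≫ z')]
    {Ω : Type u} [Field Ω] [IsSepClosed Ω] (ξ : Spec (CommRingCat.of Ω) ⟶ Y') {ZA : Scheme.{u}}
    {a : ZA ⟶ Z'} {zA : ZA ⟶ Spec (Osh ξ)} (hA : IsPullback a zA z' (toBase ξ)) :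
    ClBij ((a ⁻¹ᵁ V').ι) := by
  have hfa : Flat a := MorphismProperty.of_isPullback (P := @Flat) hA.flip (flat_toBase ξ)
  constructor
  · -- density
    apply ClInj.of_dense
    intro x
    have hx : a x ∈ Set.range (h'.fiberι (h' (a x))) := by
      rw [Scheme.Hom.range_fiberι]; rfl
    obtain ⟨z, hz⟩ := hx
    obtain ⟨y, hy, hyz⟩ := H.dense (T₁.fromSpecResidueField (h' (a x))) (h'.fiberι (h' (a x))) _
      (IsPullback.of_hasPullback _ _) z
    have h1 : h'.fiberι (h' (a x)) y ⤳ a x := by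
      conv_rhs => rw [← hz]
      exact hyz.map (Scheme.Hom.continuous _)
    obtain ⟨y', hy', hy''⟩ := Flat.generalizingMap a h1
    refine hy'.mem_closed isClosed_closure (subset_closure ?_)
    rw [Scheme.Opens.range_ι]
    change a y' ∈ V'
    rw [hy'']
    exact hy
  · intro D hD
    -- the open part
    let f : V'.toScheme ⟶ Y' := V'.ι ≫ z'
    have hP1 := isPullback_morphismRestrict a V'
    have hPf : IsPullback (a ∣_ V') ((a ⁻¹ᵁ V').ι ≫ zA) f (toBase ξ) := by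
      exact hP1.paste_vert hA
    obtain ⟨i, O, hO, hOD⟩ := exists_clopen_of_isLimit (DX ξ f) (coneX ξ f hPf) (isLimitConeX ξ f hPf) D hD
    let E := (StrictLoc.D ξ).obj i
    let Vi : Scheme.{u} := ((EtCoh.bc f).obj E).left
    let Zi : Scheme.{u} := ((EtCoh.bc z').obj E).left
    let hf : Vi ⟶ V'.toScheme := ((EtCoh.bc f).obj E).hom
    let hz : Zi ⟶ Z' := ((EtCoh.bc z').obj E).hom
    have hpf : IsPullback (BCCalc.pr f E) hf E.hom f := BCCalc.isPullback_pr f E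
    have hpz : IsPullback (BCCalc.pr z' E) hz E.hom z' := BCCalc.isPullback_pr z' E
    let κ : Vi ⟶ Zi :=
      hpz.lift (BCCalc.pr f E) (hf ≫ V'.ι) (by
        rw [hpf.w, Category.assoc])
    have hκ1 : κ ≫ BCCalc.pr z' E = BCCalc.pr f E := hpz.lift_fst _ _ _
    have hκ2 : κ ≫ hz = hf ≫ V'.ι := hpz.lift_snd _ _ _
    have hκ : IsPullback κ hf hz V'.ι := by
      refine IsPullback.of_right (h₁₂ := BCCalc.pr z' E) (v₁₃ := E.hom) (h₂₂ := z') ?_ hκ2 hpz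
      rw [hκ1]
      exact hpf
    have hκo : IsOpenImmersion κ :=
      MorphismProperty.of_isPullback (P := @IsOpenImmersion) hκ.flip inferInstance
    have het : Etale hz := ((EtCoh.bc z').obj E).prop
    have H' := H.comp_etale hz
    have hrange : Set.range κ = hz ⁻¹' V' := by
      ext x
      constructor
      · rintro ⟨y, rfl⟩
        change hz (κ y) ∈ V'
        rw [← Scheme.Hom.comp_apply, hκ2, Scheme.Hom.comp_apply]
        exact (hf y).2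
      · intro hx
        obtain ⟨y, hy, -⟩ := exists_preimage_of_isPullback hκ x ⟨hz x, hx⟩ rfl
        exact ⟨y, hy⟩
    obtain ⟨D', hD', hD''⟩ := H'.exists_clopen_ext (κ '' O) (by
        rintro _ ⟨y, -, rfl⟩
        have : κ y ∈ Set.range κ := ⟨y, rfl⟩
        rw [hrange] at this
        exact this) (κ.isOpenEmbedding.isOpenMap _ hO.2) (by
        have : ((hz ⁻¹ᵁ V' : Zi.Opens) : Set Zi) \ κ '' O = κ '' Oᶜ := by
          rw [Set.image_compl_eq_range_diff_image κ.isOpenEmbedding.injective, hrange]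
          rfl
        rw [this]
        exact κ.isOpenEmbedding.isOpenMap _ hO.compl.2)
    refine ⟨legX ξ z' hA i ⁻¹' D', hD'.preimage (legX ξ z' hA i).continuous, ?_⟩
    rw [← hOD]
    ext x
    have e1 : (a ⁻¹ᵁ V').ι ≫ legX ξ z' hA i = legX ξ f hPf i ≫ κ := by
      apply hpz.hom_ext
      · rw [Category.assoc, legX_pr, Category.assoc, hκ1, legX_pr, Category.assoc]
      · rw [Category.assoc, legX_hom, Category.assoc, hκ2, ← Category.assoc, legX_hom, hP1.w]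
    have e2 : legX ξ z' hA i ((a ⁻¹ᵁ V').ι x) = κ (legX ξ f hPf i x) := by
      rw [← Scheme.Hom.comp_apply, e1, Scheme.Hom.comp_apply]
    change legX ξ z' hA i ((a ⁻¹ᵁ V').ι x) ∈ D' ↔ legX ξ f hPf i x ∈ O
    rw [e2]
    constructor
    · intro hx
      have h3 : κ (legX ξ f hPf i x) ∈ κ '' O := by
        rw [← hD'']
        refine ⟨hx, ?_⟩
        have : κ (legX ξ f hPf i x) ∈ Set.range κ := ⟨_, rfl⟩
        rw [hrange] at this
        exact this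
      obtain ⟨y, hy, hy'⟩ := h3
      rwa [← κ.isOpenEmbedding.injective hy']
    · intro hx
      have h3 : κ (legX ξ f hPf i x) ∈ κ '' O := ⟨_, hx, rfl⟩
      rw [← hD''] at h3
      exact h3.1

theorem clBij_ι_adm (hw : w ≫ q = h ≫ t) {V : Z.Opens} (H : Nice h V) [QuasiCompact (V.ι ≫ w)]
    [QuasiSeparated (V.ι ≫ w)] {P : Set S} {A : Type u} [CommRing A] [IsLocalRing A]
    {σ : Spec (CommRingCat.of A) ⟶ Y} (hσ : Adm q P σ) {ZA : Scheme.{u}} {a : ZA ⟶ Z}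
    {zA : ZA ⟶ Spec (CommRingCat.of A)} (hA : IsPullback a zA w σ) : ClBij ((a ⁻¹ᵁ V).ι) := by
  obtain ⟨T, Y', p, g, q', σ', hp, hpb, hsl, rfl⟩ := hσ
  have hZ : IsPullback (pullback.fst w g) (pullback.snd w g) w g := IsPullback.of_hasPullback _ _
  obtain ⟨T₁, h', H'⟩ := exists_nice_bc hw H hpb hZ
  obtain ⟨Ω, _, _, ξ, hξ⟩ := exists_geomPoint Y' (σ' (closedPoint A))
  obtain ⟨e, he⟩ := Groth.Agent.Etbc.H199.StrictFib.exists_iso_toBase hsl ξ hξ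
  let a' : ZA ⟶ pullback w g := hZ.lift a (zA ≫ σ') (by rw [hA.w, Category.assoc])
  have ha'1 : a' ≫ pullback.fst w g = a := hZ.lift_fst _ _ _
  have ha'2 : a' ≫ pullback.snd w g = zA ≫ σ' := hZ.lift_snd _ _ _
  have hA' : IsPullback a' zA (pullback.snd w g) σ' := by
    refine IsPullback.of_right (h₁₂ := pullback.fst w g) (v₁₃ := w) (h₂₂ := g) ?_ ha'2 hZ
    rw [ha'1]
    exact hA
  have hA'' : IsPullback a' (zA ≫ e.hom) (pullback.snd w g) (toBase ξ) := by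
    refine hA'.of_iso (Iso.refl _) (Iso.refl _) e (Iso.refl _) ?_ ?_ ?_ ?_
    all_goals simp [he]
  have hVf : ((pullback.fst w g) ⁻¹ᵁ V).ι ≫ pullback.snd w g = ((pullback.fst w g) ⁻¹ᵁ V).ι ≫ pullback.snd w g := rfl
  have hP2 : IsPullback ((pullback.fst w g) ∣_ V) (((pullback.fst w g) ⁻¹ᵁ V).ι ≫ pullback.snd w g)
      (V.ι ≫ w) g := (isPullback_morphismRestrict _ V).paste_vert hZ
  have i1 : QuasiCompact (((pullback.fst w g) ⁻¹ᵁ V).ι ≫ pullback.snd w g) :=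
    MorphismProperty.of_isPullback (P := @QuasiCompact) hP2 inferInstance
  have i2 : QuasiSeparated (((pullback.fst w g) ⁻¹ᵁ V).ι ≫ pullback.snd w g) :=
    MorphismProperty.of_isPullback (P := @QuasiSeparated) hP2 inferInstance
  have key := clExt_toBase H' (pullback.snd w g) ξ hA''
  have e3 : a ⁻¹ᵁ V = a' ⁻¹ᵁ ((pullback.fst w g) ⁻¹ᵁ V) := by
    rw [← ha'1]
    rfl
  rw [e3]
  exact key

end Ext

theorem ClBij.of_arrow_iso {A A' B B' : Scheme.{u}} {a : A' ⟶ A} {b : B' ⟶ B} (hb : ClBij b)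
    (e : A ≅ B) (e' : A' ≅ B') (h : e'.hom ≫ b = a ≫ e.hom) : ClBij a := by
  have h1 : ClBij (e'.hom ≫ b) := by
    rw [Scheme.Hom.comp_base, TopCat.coe_comp]
    exact (ClBij.of_homeo (Scheme.homeoOfIso e')).comp hb b.continuous
  rw [h, Scheme.Hom.comp_base, TopCat.coe_comp] at h1
  exact (ClBij.of_homeo (Scheme.homeoOfIso e)).of_comp_left h1 e.hom.continuous

theorem ClInj.of_arrow_iso {A A' B B' : Scheme.{u}} {a : A' ⟶ A} {b : B' ⟶ B} (hb : ClInj b)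
    (e : A ≅ B) (e' : A' ≅ B') (h : e'.hom ≫ b = a ≫ e.hom) : ClInj a := by
  have h2 : a = e'.hom ≫ b ≫ e.inv := by
    rw [← Category.assoc, h, Category.assoc, e.hom_inv_id, Category.comp_id]
  rw [h2, Scheme.Hom.comp_base, TopCat.coe_comp, Scheme.Hom.comp_base, TopCat.coe_comp]
  have h3 : ClInj (e.inv : B → A) := (ClBij.of_homeo (Scheme.homeoOfIso e.symm)).1
  have h4 : ClInj (e'.hom : A' → B') := (ClBij.of_homeo (Scheme.homeoOfIso e')).1
  have h5 : ClInj ((e.inv : B → A) ∘ (b : B' → B)) := hb.comp h3 e.inv.continuous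
  exact h4.comp h5 (e.inv.continuous.comp b.continuous)

/-! ### Tests -/

/-- The pairs to be compared. -/
def IsTest {X Y S : Scheme.{u}} (q : Y ⟶ S) (P : Set S) (f : X ⟶ Y) {XA XA' : Scheme.{u}}
    (x : XA ⟶ X) (a : XA' ⟶ XA) : Prop :=
  ∃ (A A' : Type u) (_ : CommRing A) (_ : HenselianLocalRing A) (_ : IsSepClosed (ResidueField A))
    (_ : CommRing A') (_ : HenselianLocalRing A') (_ : IsSepClosed (ResidueField A'))
    (φ : A →+* A') (_ : IsLocalHom φ) (σ : Spec (CommRingCat.of A) ⟶ Y)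
    (xA : XA ⟶ Spec (CommRingCat.of A)) (xA' : XA' ⟶ Spec (CommRingCat.of A')),
    Adm q P σ ∧ Adm q P (spm φ ≫ σ) ∧ IsPullback x xA f σ ∧ IsPullback a xA' xA (spm φ)

/-- Clopen subsets are in bijection for all tests. -/
def ClBijOn {X Y S : Scheme.{u}} (q : Y ⟶ S) (P : Set S) (f : X ⟶ Y) : Prop :=
  ∀ ⦃XA XA' : Scheme.{u}⦄ (x : XA ⟶ X) (a : XA' ⟶ XA), IsTest q P f x a → ClBij a

/-- Inverse image of clopen subsets is injective for all tests. -/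
def ClInjOn {X Y S : Scheme.{u}} (q : Y ⟶ S) (P : Set S) (f : X ⟶ Y) : Prop :=
  ∀ ⦃XA XA' : Scheme.{u}⦄ (x : XA ⟶ X) (a : XA' ⟶ XA), IsTest q P f x a → ClInj a

theorem ClBijOn.inj {X Y S : Scheme.{u}} {q : Y ⟶ S} {P : Set S} {f : X ⟶ Y} (h : ClBijOn q P f) :
    ClInjOn q P f := fun _ _ x a hx => (h x a hx).1

theorem IsTest.mono {X Y S : Scheme.{u}} {q : Y ⟶ S} {P P' : Set S} {f : X ⟶ Y} {XA XA' : Scheme.{u}}
    {x : XA ⟶ X} {a : XA' ⟶ XA} (h : IsTest q P f x a) (hP : P ⊆ P') : IsTest q P' f x a := by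
  obtain ⟨A, A', i1, i2, i3, i4, i5, i6, φ, hφ, σ, xA, xA', h1, h2, h3, h4⟩ := h
  exact ⟨A, A', i1, i2, i3, i4, i5, i6, φ, hφ, σ, xA, xA', h1.mono hP, h2.mono hP, h3, h4⟩

theorem ClBijOn.mono {X Y S : Scheme.{u}} {q : Y ⟶ S} {P P' : Set S} {f : X ⟶ Y} (h : ClBijOn q P' f)
    (hP : P ⊆ P') : ClBijOn q P f := fun _ _ x a hx => h x a (hx.mono hP)

theorem ClInjOn.mono {X Y S : Scheme.{u}} {q : Y ⟶ S} {P P' : Set S} {f : X ⟶ Y} (h : ClInjOn q P' f)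
    (hP : P ⊆ P') : ClInjOn q P f := fun _ _ x a hx => h x a (hx.mono hP)

/-- Base change of tests. -/
theorem IsTest.pullback {W X Y S : Scheme.{u}} {q : Y ⟶ S} {P : Set S} {f : X ⟶ Y} {XA XA' : Scheme.{u}}
    {x : XA ⟶ X} {a : XA' ⟶ XA} (h : IsTest q P f x a) {r : W ⟶ X} {WA WA' : Scheme.{u}} {w : WA ⟶ W}
    {rA : WA ⟶ XA} {b : WA' ⟶ WA} {rA' : WA' ⟶ XA'} (h1 : IsPullback w rA r x)
    (h2 : IsPullback b rA' rA a) : IsTest q P (r ≫ f) w b := by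
  obtain ⟨A, A', i1, i2, i3, i4, i5, i6, φ, hφ, σ, xA, xA', h3, h4, h5, h6⟩ := h
  exact ⟨A, A', i1, i2, i3, i4, i5, i6, φ, hφ, σ, rA ≫ xA, rA' ≫ xA', h3, h4, h1.paste_vert h5,
    h2.paste_vert h6⟩

/-- The range of an admissible test lies over `P`. -/
theorem Adm.range_subset {Y S : Scheme.{u}} {q : Y ⟶ S} {P : Set S} {A : Type u} [CommRing A]
    [IsLocalRing A] {σ : Spec (CommRingCat.of A) ⟶ Y} (h : Adm q P σ) : Set.range σ ⊆ q ⁻¹' P := by
  obtain ⟨T, Y', p, g, q', σ', h1, h2, h3, rfl⟩ := h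
  rintro _ ⟨x, rfl⟩
  apply h1
  refine ⟨q' (σ' x), ?_⟩
  rw [Scheme.Hom.comp_apply, ← Scheme.Hom.comp_apply q', ← h2.w, Scheme.Hom.comp_apply]

/-- Base changes along admissible tests only see the part over `P`. -/
theorem isPullback_restrict {Z Y S : Scheme.{u}} {q : Y ⟶ S} {P : S.Opens} {w : Z ⟶ Y}
    {T ZT : Scheme.{u}} {σ : T ⟶ Y} (hσ : Set.range σ ⊆ (q ⁻¹ᵁ P : Y.Opens)) {a : ZT ⟶ Z} {zT : ZT ⟶ T}
    (h : IsPullback a zT w σ) : ∃ (a' : ZT ⟶ (w ⁻¹ᵁ q ⁻¹ᵁ P).toScheme) (σ' : T ⟶ (q ⁻¹ᵁ P).toScheme),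
      IsPullback a' zT (w ∣_ (q ⁻¹ᵁ P)) σ' ∧ a' ≫ (w ⁻¹ᵁ q ⁻¹ᵁ P).ι = a ∧ σ' ≫ (q ⁻¹ᵁ P).ι = σ := by
  have hσ' : Set.range σ ⊆ Set.range (q ⁻¹ᵁ P).ι := by
    rw [Scheme.Opens.range_ι]; exact hσ
  let σ' : T ⟶ (q ⁻¹ᵁ P).toScheme := IsOpenImmersion.lift (q ⁻¹ᵁ P).ι σ hσ'
  have h1 : σ' ≫ (q ⁻¹ᵁ P).ι = σ := IsOpenImmersion.lift_fac _ _ _
  have h0 := isPullback_morphismRestrict w (q ⁻¹ᵁ P)
  let a' : ZT ⟶ (w ⁻¹ᵁ q ⁻¹ᵁ P).toScheme := h0.lift (zT ≫ σ') a (by rw [Category.assoc, h1, h.w])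
  have h2 : a' ≫ (w ∣_ (q ⁻¹ᵁ P)) = zT ≫ σ' := h0.lift_fst _ _ _
  have h3 : a' ≫ (w ⁻¹ᵁ q ⁻¹ᵁ P).ι = a := h0.lift_snd _ _ _
  refine ⟨a', σ', ?_, h3, h1⟩
  refine IsPullback.of_right (h₁₂ := (w ⁻¹ᵁ q ⁻¹ᵁ P).ι) (v₁₃ := w) (h₂₂ := (q ⁻¹ᵁ P).ι) ?_ h2 h0.flip
  rw [h3, h1]
  exact h

/-- **The main case.** -/
theorem clBijOn_of_nice {Z Y S T' : Scheme.{u}} {q : Y ⟶ S} {w : Z ⟶ Y} {h : Z ⟶ T'} {t : T' ⟶ S}
    (hw : w ≫ q = h ≫ t) {V : Z.Opens} (H : Nice h V) [QuasiCompact (V.ι ≫ w)]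
    [QuasiSeparated (V.ι ≫ w)] (P : S.Opens) (hP : IsProper (w ∣_ (q ⁻¹ᵁ P))) :
    ClBijOn q P (V.ι ≫ w) := by
  intro WA WA' x a hx
  obtain ⟨A, A', i1, i2, i3, i4, i5, i6, φ, hφ, σ, xA, xA', h3, h4, h5, h6⟩ := hx
  have hZ : IsPullback (pullback.fst w σ) (pullback.snd w σ) w σ := IsPullback.of_hasPullback _ _
  have hZ' : IsPullback (pullback.fst (pullback.snd w σ) (spm φ)) (pullback.snd (pullback.snd w σ) (spm φ))
    (pullback.snd w σ) (spm φ) := IsPullback.of_hasPullback _ _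
  obtain ⟨a₁, σ₁, k1, k2, k3⟩ := isPullback_restrict (P := P) h3.range_subset hZ
  have hpr : IsProper (pullback.snd w σ) := MorphismProperty.of_isPullback (P := @IsProper) k1 hP
  have b1 : ClBij (pullback.fst (pullback.snd w σ) (spm φ)) := clBij_proper φ hZ'
  have b2 := clBij_ι_adm hw H h3 hZ
  have b3 := clBij_ι_adm hw H h4 (hZ'.paste_horiz hZ)
  let ZA := Limits.pullback w σ
  let α : ZA ⟶ Z := pullback.fst w σ
  let b : Limits.pullback (pullback.snd w σ) (spm φ) ⟶ ZA := pullback.fst _ _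
  let O : ZA.Opens := α ⁻¹ᵁ V
  have hO := isPullback_morphismRestrict b O
  have b4 : ClBij (b ∣_ O) := by
    have h1 : ClBij ((b ⁻¹ᵁ O).ι ≫ b) := by
      rw [Scheme.Hom.comp_base, TopCat.coe_comp]
      exact b3.comp b1 b.continuous
    rw [← hO.w, Scheme.Hom.comp_base, TopCat.coe_comp] at h1
    exact b2.of_comp_left h1 O.ι.continuous
  have k4 : IsPullback (α ∣_ V) (O.ι ≫ pullback.snd w σ) (V.ι ≫ w) σ :=
    (isPullback_morphismRestrict α V).paste_vert hZ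
  have k5 : IsPullback (b ∣_ O) ((b ⁻¹ᵁ O).ι ≫ pullback.snd (pullback.snd w σ) (spm φ))
      (O.ι ≫ pullback.snd w σ) (spm φ) := hO.paste_vert hZ'
  let e := h5.isoIsPullback _ _ k4
  have e1 : e.hom ≫ (O.ι ≫ pullback.snd w σ) = xA := h5.isoIsPullback_hom_snd _ _ k4
  have k6 : IsPullback (b ∣_ O ≫ e.inv) ((b ⁻¹ᵁ O).ι ≫ pullback.snd (pullback.snd w σ) (spm φ))
      xA (spm φ) := by
    refine k5.of_iso (Iso.refl _) e.symm (Iso.refl _) (Iso.refl _) ?_ ?_ ?_ ?_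
    · simp
    · simp
    · simp only [Iso.refl_hom, Category.comp_id, Iso.symm_hom]
      rw [← e1, e.inv_hom_id_assoc]
    · simp
  let e' := h6.isoIsPullback _ _ k6
  have e2 : e'.hom ≫ (b ∣_ O ≫ e.inv) = a := h6.isoIsPullback_hom_fst _ _ k6
  refine b4.of_arrow_iso e e' ?_
  rw [← e2, Category.assoc, Category.assoc, e.inv_hom_id, Category.comp_id]

end K990.CohProp
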