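import Groth.Agent.CohProp.K990.ClInd
import Groth.Agent.Ega1.ReducedSub
import Groth.Agent.Sga1.UlaSL

/-!
# Generic bijectivity on clopen subsets, from the geometric input
-/

set_option autoImplicit false
set_option linter.unusedSectionVars false
set_option linter.unusedVariables false
set_option backward.isDefEq.respectTransparency.types false
universe u

open CategoryTheory CategoryTheory.Limits AlgebraicGeometry Opposite IsLocalRing TopologicalSpace

namespace K990.CohProp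

open Groth.Agent.Etrest.StrictLoc (spm IsStrictLoc)

/-- The geometric input. -/
def GeoInput : Prop := ∀ {X Y S : Scheme.{u}} [AlgebraicGeometry.IsNoetherian S] (f : X ⟶ Y)
  (q : Y ⟶ S) [LocallyOfFiniteType f] [QuasiCompact f] [IsSeparated f] [LocallyOfFiniteType q]
  [QuasiCompact q] [IsIntegral X],
  (∀ s : S, s ⤳ q (f (genericPoint X)) → s = q (f (genericPoint X))) →
  ∃ (P : S.Opens) (W : Scheme.{u})
  (r₀ : W ⟶ (f ⁻¹ᵁ q ⁻¹ᵁ P).toScheme), q (f (genericPoint X)) ∈ P ∧ IsFinite r₀ ∧ Surjective r₀ ∧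
    ClBijOn q P ((r₀ ≫ (f ⁻¹ᵁ q ⁻¹ᵁ P).ι) ≫ f)

/-! ### Locality of tests on `S` -/

theorem Adm.of_mem {Y S : Scheme.{u}} {q : Y ⟶ S} {P P' : Set S} (hP' : IsOpen P') {A : Type u}
    [CommRing A] [IsLocalRing A] {σ : Spec (CommRingCat.of A) ⟶ Y} (h : Adm q P σ)
    (hm : q (σ (closedPoint A)) ∈ P') : Adm q P' σ := by
  obtain ⟨T, Y', p, g, q', σ', h1, h2, h3, rfl⟩ := h
  let O : T.Opens := p ⁻¹ᵁ ⟨P', hP'⟩
  have hmem : σ' (closedPoint A) ∈ q' ⁻¹ᵁ O := by
    change p (q' (σ' (closedPoint A))) ∈ P'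
    rw [← Scheme.Hom.comp_apply q', ← h2.w, Scheme.Hom.comp_apply]
    exact hm
  obtain ⟨σ'', hσ''⟩ := Groth.Agent.Etbc.H192.Glue.exists_lift (q' ⁻¹ᵁ O).ι σ' (by
    rw [Scheme.Opens.range_ι]; exact hmem)
  refine ⟨O, (q' ⁻¹ᵁ O), O.ι ≫ p, (q' ⁻¹ᵁ O).ι ≫ g, q' ∣_ O, σ'', ?_, ?_, ?_, ?_⟩
  · rintro _ ⟨x, rfl⟩
    exact x.2
  · have := (isPullback_morphismRestrict q' O).flip.paste_horiz h2
    exact this
  · exact IsStrictLoc.of_comp (q' ⁻¹ᵁ O).ι (by rw [hσ'']; exact h3)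
  · rw [← Category.assoc, hσ'']

theorem IsTest.exists_mem {X Y S : Scheme.{u}} {q : Y ⟶ S} {f : X ⟶ Y} {ι : Type*} (P : ι → S.Opens)
    {XA XA' : Scheme.{u}} {x : XA ⟶ X} {a : XA' ⟶ XA}
    (h : IsTest q (⋃ i, (P i : Set S)) f x a) : ∃ i, IsTest q (P i) f x a := by
  obtain ⟨A, A', i1, i2, i3, i4, i5, i6, φ, hφ, σ, xA, xA', h3, h4, h5, h6⟩ := h
  have h7 := h3.range_subset ⟨closedPoint A, rfl⟩
  obtain ⟨i, hi⟩ := Set.mem_iUnion.1 h7
  refine ⟨i, A, A', i1, i2, i3, i4, i5, i6, φ, hφ, σ, xA, xA', h3.of_mem (P i).2 hi, h4.of_mem (P i).2 ?_,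
    h5, h6⟩
  have h8 : (spm φ) (closedPoint A') = closedPoint A := IsLocalRing.comap_closedPoint φ
  rw [Scheme.Hom.comp_apply, h8]
  exact hi

/-! ### Reduced closed subschemes -/

theorem exists_reduced {X : Scheme.{u}} (Z : Closeds X) : ∃ (R : Scheme.{u}) (i : R ⟶ X)
    (_ : IsClosedImmersion i) (_ : IsReduced R), Set.range i = Z :=
  ⟨_, (Scheme.IdealSheafData.vanishingIdeal Z).subschemeι, inferInstance,
    Groth.Agent.Ega1.ReducedSub.isReduced_subscheme_vanishingIdeal Z, by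
      rw [Scheme.IdealSheafData.range_subschemeι]
      simp⟩

/-- An irreducible locally closed subset as an integral scheme. -/
theorem exists_integral {X : Scheme.{u}} (Z : Closeds X) (hZ : IsIrreducible (Z : Set X)) (U : X.Opens)
    (hU : ((Z : Set X) ∩ U).Nonempty) : ∃ (R : Scheme.{u}) (i : R ⟶ X) (_ : IsImmersion i) (_ : IsIntegral R),
      Set.range i = (Z : Set X) ∩ U ∧ closure {i (genericPoint R)} = (Z : Set X) ∧
        (IsAffineOpen U → IsAffine R) := by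
  obtain ⟨R, i, h1, h2, h3⟩ := exists_reduced Z
  let R₀ : R.Opens := i ⁻¹ᵁ U
  have hne : Nonempty R₀.toScheme := by
    obtain ⟨z, hz, hzU⟩ := hU
    rw [← h3] at hz
    obtain ⟨r, rfl⟩ := hz
    exact ⟨⟨r, hzU⟩⟩
  have hirr : IrreducibleSpace R := by
    have h4 : IsPreirreducible (Set.univ : Set R) := by
      intro u v hu hv hu' hv'
      obtain ⟨a, -, ha⟩ := hu'
      obtain ⟨b, -, hb⟩ := hv'
      obtain ⟨u, hu₀, rfl⟩ := (Scheme.Hom.isEmbedding i).isInducing.isOpen_iff.1 hu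
      obtain ⟨v, hv₀, rfl⟩ := (Scheme.Hom.isEmbedding i).isInducing.isOpen_iff.1 hv
      obtain ⟨z, hz, hz'⟩ := hZ.2 u v hu₀ hv₀ ⟨i a, by rw [← h3]; exact ⟨a, rfl⟩, ha⟩
        ⟨i b, by rw [← h3]; exact ⟨b, rfl⟩, hb⟩
      rw [← h3] at hz
      obtain ⟨r, rfl⟩ := hz
      exact ⟨r, trivial, hz'⟩
    exact { isPreirreducible_univ := h4, toNonempty := ⟨hne.some.1⟩ }
  have hint : IsIntegral R := isIntegral_of_irreducibleSpace_of_isReduced R
  have hint' : IsIntegral R₀.toScheme := inferInstance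
  have hrange : Set.range (R₀.ι ≫ i) = (Z : Set X) ∩ U := by
    ext x
    constructor
    · rintro ⟨r, rfl⟩
      refine ⟨?_, r.2⟩
      rw [← h3]
      exact ⟨_, rfl⟩
    · rintro ⟨hx, hxU⟩
      rw [← h3] at hx
      obtain ⟨r, rfl⟩ := hx
      exact ⟨⟨r, hxU⟩, rfl⟩
  refine ⟨R₀, R₀.ι ≫ i, inferInstance, hint', hrange, ?_, fun h => h.preimage i⟩
  apply Set.Subset.antisymm
  · refine closure_minimal ?_ Z.2
    rw [Set.singleton_subset_iff]
    have : (R₀.ι ≫ i) (genericPoint R₀) ∈ Set.range (R₀.ι ≫ i) := ⟨_, rfl⟩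
    rw [hrange] at this
    exact this.1
  · intro z hz
    rw [mem_closure_iff]
    intro o ho hzo
    obtain ⟨y, hy, hyo, hyU⟩ := hZ.2 o U ho U.2 ⟨z, hz, hzo⟩ hU
    have : y ∈ Set.range (R₀.ι ≫ i) := by rw [hrange]; exact ⟨hy, hyU⟩
    obtain ⟨r, rfl⟩ := this
    have h6 : (R₀.ι ≫ i) (genericPoint R₀) ⤳ (R₀.ι ≫ i) r :=
      (genericPoint_specializes r).map (R₀.ι ≫ i).continuous
    exact ⟨_, h6.mem_open ho hyo, rfl⟩

section Ind

variable {X Y S : Scheme.{u}} [AlgebraicGeometry.IsNoetherian S] (f : X ⟶ Y) (q : Y ⟶ S)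
  [LocallyOfFiniteType f] [QuasiCompact f] [LocallyOfFiniteType q] [QuasiCompact q]

theorem isNoetherian_of_ft {A B : Scheme.{u}} (g : A ⟶ B) [AlgebraicGeometry.IsNoetherian B]
    [LocallyOfFiniteType g] [QuasiCompact g] : AlgebraicGeometry.IsNoetherian A := by
  have h1 : IsLocallyNoetherian A := LocallyOfFiniteType.isLocallyNoetherian g
  have h2 : CompactSpace A := QuasiCompact.compactSpace_of_compactSpace g
  exact {}

/-- Strata over other points of the base. -/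
theorem exists_avoid {Z : Set X} {z : X} (hz : closure {z} = Z) {η : S} (hη : ∀ s : S, s ⤳ η → s = η)
    (hne : q (f z) ≠ η) : ∃ P : S.Opens, η ∈ P ∧ ∀ c ∈ Z, q (f c) ∉ P := by
  refine ⟨⟨(closure {q (f z)})ᶜ, isClosed_closure.isOpen_compl⟩, ?_, ?_⟩
  · intro h
    exact hne (hη _ (specializes_iff_mem_closure.2 h))
  · intro c hc h
    apply h
    rw [← hz] at hc
    have h1 : z ⤳ c := specializes_iff_mem_closure.2 hc
    have h2 : q (f z) ⤳ q (f c) := (h1.map f.continuous).map q.continuous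
    exact specializes_iff_mem_closure.1 h2

/-- Dévissage for injectivity. -/
theorem exists_qinj (G : GeoInput.{u}) {η : S} (hη : ∀ s : S, s ⤳ η → s = η) (U : X.Opens)
    (Z : Closeds X) : ∃ P : S.Opens, η ∈ P ∧ QInj q P f ((Z : Set X) ∩ U) := by
  have hY : AlgebraicGeometry.IsNoetherian Y := isNoetherian_of_ft q
  have hX : AlgebraicGeometry.IsNoetherian X := isNoetherian_of_ft f
  induction Z using WellFoundedLT.induction with
  | ind Z ih =>
  by_cases hne : ((Z : Set X) ∩ U).Nonempty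
  swap
  · refine ⟨⊤, trivial, QInj.of_disjoint fun c hc => absurd ⟨c, hc⟩ hne⟩
  by_cases hirr : IsIrreducible (Z : Set X)
  · obtain ⟨R, i, i1, i2, hr, hcl, -⟩ := exists_integral Z hirr U hne
    by_cases hgen : q (f (i (genericPoint R))) = η
    · -- an affine piece
      obtain ⟨O, hO, hzO, -⟩ := exists_isAffineOpen_mem_and_subset (X := R) (U := ⊤)
        (x := genericPoint R) trivial
      have hne' : Nonempty O.toScheme := ⟨⟨_, hzO⟩⟩
      have hO' : IsAffine O.toScheme := hO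
      have hint : IsIntegral O.toScheme := inferInstance
      let j : O.toScheme ⟶ X := O.ι ≫ i
      have hsep : IsSeparated (j ≫ f) := by
        have h1 : IsSeparated ((j ≫ f) ≫ terminal.from Y) := by
          have : (j ≫ f) ≫ terminal.from Y = terminal.from O.toScheme := Subsingleton.elim _ _
          rw [this]; infer_instance
        exact IsSeparated.of_comp (j ≫ f) (terminal.from Y)
      have hlft : LocallyOfFiniteType (j ≫ f) := inferInstance
      have hNR : AlgebraicGeometry.IsNoetherian O.toScheme :=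
        { toIsLocallyNoetherian := LocallyOfFiniteType.isLocallyNoetherian (j ≫ f)
          toCompactSpace := inferInstance }
      have hqc : QuasiCompact (j ≫ f) := inferInstance
      have hjη : q ((j ≫ f) (genericPoint O.toScheme)) = η := by
        have h1 : j (genericPoint O.toScheme) = i (genericPoint R) := by
          have : O.ι (genericPoint O.toScheme) = genericPoint R := genericPoint_eq_of_isOpenImmersion O.ι
          rw [← this]
          rfl
        rw [Scheme.Hom.comp_apply, h1, hgen]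
      obtain ⟨P, W, r₀, hP, hfin, hsurj, hcl'⟩ := G (j ≫ f) q (by rw [hjη]; exact hη)
      have hPη : η ∈ P := by
        rw [hjη] at hP
        exact hP
      obtain ⟨N, hN, hNO⟩ := (Scheme.Hom.isEmbedding i).isInducing.isOpen_iff.1 O.2
      have hj : Set.range j = (Z : Set X) ∩ U ∩ N := by
        rw [← hr]
        ext x
        constructor
        · rintro ⟨y, rfl⟩
          refine ⟨⟨_, rfl⟩, ?_⟩
          have : O.ι y ∈ i ⁻¹' N := by rw [hNO]; exact y.2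
          exact this
        · rintro ⟨⟨y, rfl⟩, hy⟩
          have : y ∈ O.carrier := by rw [← hNO]; exact hy
          exact ⟨⟨y, this⟩, rfl⟩
      let Z' : Closeds X := ⟨(Z : Set X) ∩ (N ∩ U)ᶜ, Z.2.inter (hN.inter U.2).isClosed_compl⟩
      have hZ' : Z' < Z := by
        refine lt_of_le_of_ne (fun x hx => hx.1) ?_
        intro e
        have h1 : i (genericPoint R) ∈ Set.range j := ⟨⟨_, hzO⟩, rfl⟩
        rw [hj] at h1
        have h2 : i (genericPoint R) ∈ (Z' : Set X) := by rw [e]; exact h1.1.1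
        exact h2.2 ⟨h1.2, h1.1.2⟩
      obtain ⟨P', hP', hQ'⟩ := ih Z' hZ'
      refine ⟨P ⊓ P', ⟨hPη, hP'⟩, ?_⟩
      have hU : (Z : Set X) ∩ U = Set.range j ∪ ((Z' : Set X) ∩ U) := by
        rw [hj]
        ext x
        constructor
        · intro hx
          by_cases hxN : x ∈ N
          · exact Or.inl ⟨hx, hxN⟩
          · exact Or.inr ⟨⟨hx.1, fun h => hxN h.1⟩, hx.2⟩
        · rintro (hx | hx)
          · exact hx.1
          · exact ⟨hx.1.1, hx.2⟩
      rw [hU]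
      refine QInj.union (QInj.mono ?_ (P' := (P : Set S)) fun x hx => hx.1)
        (hQ'.mono fun x hx => hx.2)
      let r : W ⟶ X := (r₀ ≫ ((j ≫ f) ⁻¹ᵁ q ⁻¹ᵁ P).ι) ≫ j
      refine QInj.of_cover (r := r) ?_ ?_ ?_
      · have h3 := hcl'.inj
        rw [← Category.assoc] at h3
        exact h3
      · rintro _ ⟨y, rfl⟩
        exact ⟨(r₀ ≫ ((j ≫ f) ⁻¹ᵁ q ⁻¹ᵁ P).ι) y, rfl⟩
      · rintro _ ⟨y, rfl⟩ hy
        obtain ⟨y', hy'⟩ := r₀.surjective (⟨y, hy⟩ : ((j ≫ f) ⁻¹ᵁ q ⁻¹ᵁ P).toScheme)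
        refine ⟨y', ?_⟩
        change j (((j ≫ f) ⁻¹ᵁ q ⁻¹ᵁ P).ι (r₀ y')) = j y
        rw [hy']
        rfl
    · obtain ⟨P, hP, hP'⟩ := exists_avoid f q hcl hη hgen
      exact ⟨P, hP, QInj.of_disjoint fun c hc => hP' c hc.1⟩
  · have hpre : ¬ IsPreirreducible (Z : Set X) := fun h => hirr ⟨hne.mono Set.inter_subset_left, h⟩
    rw [isPreirreducible_iff_isClosed_union_isClosed] at hpre
    push Not at hpre
    obtain ⟨z₁, z₂, h1, h2, h3, h4, h5⟩ := hpre
    let Z₁ : Closeds X := ⟨(Z : Set X) ∩ z₁, Z.2.inter h1⟩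
    let Z₂ : Closeds X := ⟨(Z : Set X) ∩ z₂, Z.2.inter h2⟩
    have hZ₁ : Z₁ < Z := lt_of_le_of_ne (fun x hx => hx.1) (fun e => h4 (fun x hx => by
      have : x ∈ (Z₁ : Set X) := by rw [e]; exact hx
      exact this.2))
    have hZ₂ : Z₂ < Z := lt_of_le_of_ne (fun x hx => hx.1) (fun e => h5 (fun x hx => by
      have : x ∈ (Z₂ : Set X) := by rw [e]; exact hx
      exact this.2))
    obtain ⟨P₁, hP₁, hQ₁⟩ := ih Z₁ hZ₁
    obtain ⟨P₂, hP₂, hQ₂⟩ := ih Z₂ hZ₂
    refine ⟨P₁ ⊓ P₂, ⟨hP₁, hP₂⟩, ?_⟩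
    have hU : (Z : Set X) ∩ U = ((Z₁ : Set X) ∩ U) ∪ ((Z₂ : Set X) ∩ U) := by
      ext x
      constructor
      · rintro ⟨hx, hxU⟩
        rcases h3 hx with h | h
        · exact Or.inl ⟨⟨hx, h⟩, hxU⟩
        · exact Or.inr ⟨⟨hx, h⟩, hxU⟩
      · rintro (hx | hx)
        · exact ⟨hx.1.1, hx.2⟩
        · exact ⟨hx.1.1, hx.2⟩
    rw [hU]
    exact (hQ₁.mono fun x hx => hx.1).union (hQ₂.mono fun x hx => hx.2)

/-- Dévissage for surjectivity, affine case. -/
theorem exists_qsurj (G : GeoInput.{u}) {η : S} (hη : ∀ s : S, s ⤳ η → s = η) (U : X.Opens)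
    (hUaff : IsAffineOpen U) (Z : Closeds X) :
    ∃ P : S.Opens, η ∈ P ∧ QSurj q P f ((Z : Set X) ∩ U) := by
  have hY : AlgebraicGeometry.IsNoetherian Y := isNoetherian_of_ft q
  have hX : AlgebraicGeometry.IsNoetherian X := isNoetherian_of_ft f
  induction Z using WellFoundedLT.induction with
  | ind Z ih =>
  by_cases hne : ((Z : Set X) ∩ U).Nonempty
  swap
  · refine ⟨⊤, trivial, QSurj.of_disjoint fun c hc => absurd ⟨c, hc⟩ hne⟩
  by_cases hirr : IsIrreducible (Z : Set X)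
  · obtain ⟨R, j, i1, i2, hr, hcl, haff⟩ := exists_integral Z hirr U hne
    have hRaff : IsAffine R := haff hUaff
    by_cases hgen : q (f (j (genericPoint R))) = η
    · have hsep : IsSeparated (j ≫ f) := by
        have h1 : IsSeparated ((j ≫ f) ≫ terminal.from Y) := by
          have : (j ≫ f) ≫ terminal.from Y = terminal.from R := Subsingleton.elim _ _
          rw [this]; infer_instance
        exact IsSeparated.of_comp (j ≫ f) (terminal.from Y)
      have hlft : LocallyOfFiniteType (j ≫ f) := inferInstance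
      have hNR : AlgebraicGeometry.IsNoetherian R :=
        { toIsLocallyNoetherian := LocallyOfFiniteType.isLocallyNoetherian (j ≫ f)
          toCompactSpace := inferInstance }
      have hqc : QuasiCompact (j ≫ f) := inferInstance
      obtain ⟨P, W, r₀, hP, hfin, hsurj, hcl'⟩ := G (j ≫ f) q (by
        rw [Scheme.Hom.comp_apply, hgen]; exact hη)
      have hPη : η ∈ P := by
        rw [Scheme.Hom.comp_apply, hgen] at hP
        exact hP
      let j' : ((j ≫ f) ⁻¹ᵁ q ⁻¹ᵁ P).toScheme ⟶ X := ((j ≫ f) ⁻¹ᵁ q ⁻¹ᵁ P).ι ≫ j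
      -- the fibre product
      have hW : AlgebraicGeometry.IsNoetherian W := by
        have : LocallyOfFiniteType (r₀ ≫ ((j ≫ f) ⁻¹ᵁ q ⁻¹ᵁ P).ι) := inferInstance
        exact isNoetherian_of_ft (r₀ ≫ ((j ≫ f) ⁻¹ᵁ q ⁻¹ᵁ P).ι)
      let g : pullback (r₀ ≫ j') (r₀ ≫ j') ⟶ Y := pullback.fst (r₀ ≫ j') (r₀ ≫ j') ≫ (r₀ ≫ j') ≫ f
      have hlj : LocallyOfFiniteType (r₀ ≫ j') := inferInstance
      have hqj : QuasiCompact (r₀ ≫ j') := inferInstance
      have hg1 : LocallyOfFiniteType g := inferInstance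
      have hg2 : QuasiCompact g := inferInstance
      obtain ⟨P', hP', hQ'⟩ := exists_qinj g q G hη ⊤ ⊤
      have hQ'' : ClInjOn q P' g := by
        apply QInj.univ_clInjOn
        have e : ((⊤ : Closeds ↥(pullback (r₀ ≫ j') (r₀ ≫ j'))) : Set ↥(pullback (r₀ ≫ j') (r₀ ≫ j'))) ∩
          ((⊤ : (pullback (r₀ ≫ j') (r₀ ≫ j')).Opens) : Set ↥(pullback (r₀ ≫ j') (r₀ ≫ j'))) = Set.univ :=
          Set.inter_self Set.univ
        rw [← e]
        exact hQ'
      refine ⟨P ⊓ P', ⟨hPη, hP'⟩, ?_⟩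
      refine QSurj.of_finite (j := j') (r₀ := r₀) ?_ ?_ ?_ ?_
      · rw [← hr]
        rintro _ ⟨y, rfl⟩
        exact ⟨_, rfl⟩
      · intro c hc hcP
        rw [← hr] at hc
        obtain ⟨y, rfl⟩ := hc
        exact ⟨(⟨y, hcP.1⟩ : ((j ≫ f) ⁻¹ᵁ q ⁻¹ᵁ P).toScheme), rfl⟩
      · have h3 := hcl'.mono (P := ((P ⊓ P' : S.Opens) : Set S)) (fun x hx => hx.1)
        rw [← Category.assoc] at h3
        exact h3
      · exact hQ''.mono fun x hx => hx.2
    · obtain ⟨P, hP, hP'⟩ := exists_avoid f q hcl hη hgen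
      exact ⟨P, hP, QSurj.of_disjoint fun c hc => hP' c hc.1⟩
  · have hpre : ¬ IsPreirreducible (Z : Set X) := fun h => hirr ⟨hne.mono Set.inter_subset_left, h⟩
    rw [isPreirreducible_iff_isClosed_union_isClosed] at hpre
    push Not at hpre
    obtain ⟨z₁, z₂, h1, h2, h3, h4, h5⟩ := hpre
    let Z₁ : Closeds X := ⟨(Z : Set X) ∩ z₁, Z.2.inter h1⟩
    let Z₂ : Closeds X := ⟨(Z : Set X) ∩ z₂, Z.2.inter h2⟩
    have hZ₁ : Z₁ < Z := lt_of_le_of_ne (fun x hx => hx.1) (fun e => h4 (fun x hx => by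
      have : x ∈ (Z₁ : Set X) := by rw [e]; exact hx
      exact this.2))
    have hZ₂ : Z₂ < Z := lt_of_le_of_ne (fun x hx => hx.1) (fun e => h5 (fun x hx => by
      have : x ∈ (Z₂ : Set X) := by rw [e]; exact hx
      exact this.2))
    obtain ⟨P₁, hP₁, hQ₁⟩ := ih Z₁ hZ₁
    obtain ⟨P₂, hP₂, hQ₂⟩ := ih Z₂ hZ₂
    obtain ⟨P₃, hP₃, hQ₃⟩ := exists_qinj f q G hη U (Z₁ ⊓ Z₂)
    refine ⟨P₁ ⊓ P₂ ⊓ P₃, ⟨⟨hP₁, hP₂⟩, hP₃⟩, ?_⟩
    have hU : (Z : Set X) ∩ U = ((Z₁ : Set X) ∩ U) ∪ ((Z₂ : Set X) ∩ U) := by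
      ext x
      constructor
      · rintro ⟨hx, hxU⟩
        rcases h3 hx with h | h
        · exact Or.inl ⟨⟨hx, h⟩, hxU⟩
        · exact Or.inr ⟨⟨hx, h⟩, hxU⟩
      · rintro (hx | hx)
        · exact ⟨hx.1.1, hx.2⟩
        · exact ⟨hx.1.1, hx.2⟩
    rw [hU]
    refine QSurj.union_closed (hQ₁.mono fun x hx => hx.1.1) (hQ₂.mono fun x hx => hx.1.2) ?_
      Z₁.2 Z₂.2 ?_ ?_
    · have e : ((Z₁ : Set X) ∩ U) ∩ ((Z₂ : Set X) ∩ U) = ((Z₁ ⊓ Z₂ : Closeds X) : Set X) ∩ U := by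
        ext x
        constructor
        · rintro ⟨hx, hx'⟩; exact ⟨⟨hx.1, hx'.1⟩, hx.2⟩
        · rintro ⟨hx, hx'⟩; exact ⟨⟨hx.1, hx'⟩, ⟨hx.2, hx'⟩⟩
      rw [e]
      exact hQ₃.mono fun x hx => hx.2
    · rw [← hU]
      ext x
      constructor
      · rintro ⟨hx, hxU⟩; exact ⟨hx, hx.1, hxU⟩
      · rintro ⟨hx, hx', hxU⟩; exact ⟨hx, hxU⟩
    · rw [← hU]
      ext x
      constructor
      · rintro ⟨hx, hxU⟩; exact ⟨hx, hx.1, hxU⟩
      · rintro ⟨hx, hx', hxU⟩; exact ⟨hx, hxU⟩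

/-- Surjectivity in general. -/
theorem exists_qsurj_open (G : GeoInput.{u}) {η : S} (hη : ∀ s : S, s ⤳ η → s = η) (U : X.Opens) :
    ∃ P : S.Opens, η ∈ P ∧ QSurj q P f U := by
  have hY : AlgebraicGeometry.IsNoetherian Y := isNoetherian_of_ft q
  have hX : AlgebraicGeometry.IsNoetherian X := isNoetherian_of_ft f
  refine compact_open_induction_on (P := fun U => ∃ P : S.Opens, η ∈ P ∧ QSurj q P f (U : Set X)) U
    (NoetherianSpace.isCompact _) ?_ ?_
  · exact ⟨⊤, trivial, QSurj.of_disjoint fun c hc => absurd hc (fun h => h)⟩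
  · rintro V hV O ⟨P₁, hP₁, hQ₁⟩
    obtain ⟨P₂, hP₂, hQ₂⟩ := exists_qsurj f q G hη O.1 O.2 ⊤
    obtain ⟨P₃, hP₃, hQ₃⟩ := exists_qinj f q G hη (V ⊓ O.1) ⊤
    refine ⟨P₁ ⊓ P₂ ⊓ P₃, ⟨⟨hP₁, hP₂⟩, hP₃⟩, ?_⟩
    have e₂ : ((⊤ : Closeds X) : Set X) ∩ (O.1 : Set X) = (O.1 : Set X) := by
      ext x; simp
    have e₃ : ((⊤ : Closeds X) : Set X) ∩ ((V ⊓ O.1 : X.Opens) : Set X) = (V : Set X) ∩ (O.1 : Set X) := by
      ext x; simp
    rw [e₂] at hQ₂
    rw [e₃] at hQ₃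
    have := QSurj.union_open (hQ₁.mono (P := ((P₁ ⊓ P₂ ⊓ P₃ : S.Opens) : Set S)) fun x hx => hx.1.1)
      (hQ₂.mono fun x hx => hx.1.2) (hQ₃.mono fun x hx => hx.2) ?_ ?_
    · exact this
    · refine ⟨V, V.2, ?_⟩
      ext x
      constructor
      · intro hx; exact ⟨hx, Or.inl hx⟩
      · intro hx; exact hx.1
    · refine ⟨O.1, O.1.2, ?_⟩
      ext x
      constructor
      · intro hx; exact ⟨hx, Or.inr hx⟩
      · intro hx; exact hx.1

theorem exists_clBijOn_max (G : GeoInput.{u}) {η : S} (hη : ∀ s : S, s ⤳ η → s = η) :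
    ∃ P : S.Opens, η ∈ P ∧ ClBijOn q P f := by
  obtain ⟨P₁, hP₁, hQ₁⟩ := exists_qsurj_open f q G hη ⊤
  obtain ⟨P₂, hP₂, hQ₂⟩ := exists_qinj f q G hη ⊤ ⊤
  have e₁ : ((⊤ : X.Opens) : Set X) = Set.univ := rfl
  have e₂ : ((⊤ : Closeds X) : Set X) ∩ ((⊤ : X.Opens) : Set X) = Set.univ := by
    ext x; simp
  rw [e₁] at hQ₁
  rw [e₂] at hQ₂
  exact ⟨P₁ ⊓ P₂, ⟨hP₁, hP₂⟩, clBijOn_of_univ (hQ₂.mono fun x hx => hx.2) (hQ₁.mono fun x hx => hx.1)⟩

/-- **Generic bijectivity on clopen subsets.** -/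
theorem exists_dense_clBijOn (G : GeoInput.{u}) : ∃ P : S.Opens, Dense (P : Set S) ∧ ClBijOn q P f := by
  let PP : Type u := {P : S.Opens // ClBijOn q P f}
  refine ⟨⨆ i : PP, i.1, ?_, ?_⟩
  · rw [dense_iff_inter_open]
    rintro O hO ⟨s, hs⟩
    obtain ⟨η, hη, hηs⟩ : ∃ η : S, (∀ s : S, s ⤳ η → s = η) ∧ η ⤳ s := by
      obtain ⟨η, hη⟩ := QuasiSober.sober (isIrreducible_irreducibleComponent (x := s))
        isClosed_irreducibleComponent
      refine ⟨η, ?_, ?_⟩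
      · intro s' hs'
        have h1 : closure {η} ⊆ closure {s'} := hs'.closure_subset
        have h2 : closure {s'} = closure {η} := by
          have h3 := irreducibleComponent_mem_irreducibleComponents s
          rw [← hη.def] at h3
          exact Set.Subset.antisymm (h3.2 isIrreducible_singleton.closure h1) h1
        exact (inseparable_iff_closure_eq.2 h2).eq
      · rw [specializes_iff_mem_closure, hη.def]
        exact mem_irreducibleComponent
    obtain ⟨P, hP, hQ⟩ := exists_clBijOn_max f q G hη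
    refine ⟨η, hηs.mem_open hO hs, ?_⟩
    rw [TopologicalSpace.Opens.coe_iSup]
    exact Set.mem_iUnion.2 ⟨⟨P, hQ⟩, hP⟩
  · intro XA XA' x a hx
    rw [TopologicalSpace.Opens.coe_iSup] at hx
    obtain ⟨i, hi⟩ := IsTest.exists_mem (fun i : PP => i.1) hx
    exact i.2 x a hi

end Ind

end K990.CohProp
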