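import Groth.Agent.CohProp.K990.ClTop
import Groth.Agent.Etbc.H184.FamSh

/-!
# Charts of local families; injectivity and surjectivity of restriction of local families

* `FInj F m r`, `FSurj F m r`: restriction of local families of germs of `F` along `m : P' ⟶ P` is
  injective, surjective.
* `FCh F r I`: sections `φ i` (`i : I`) of the inverse image of `F` along `r : P ⟶ X` which induce an
  isomorphism from the constant sheaf `I`.
-/

set_option autoImplicit false
set_option linter.unusedSectionVars false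
set_option linter.unusedVariables false
set_option backward.isDefEq.respectTransparency.types false
universe u

open CategoryTheory CategoryTheory.Limits AlgebraicGeometry Opposite

namespace K990.CohProp

open EtDesc Groth.Agent.Etbc.H184.FamSh
open Groth.Agent.Sga4A.EtStalk (Stk germ exists_geomPoint EtSubmersive)
open Groth.Agent.EtpbcB.Big (exists_lift)

variable {X : Scheme.{u}} {F : Sh X}

/-- Injectivity of restriction of local families. -/
def FInj (F : Sh X) {P P' : Scheme.{u}} (m : P' ⟶ P) (r : P ⟶ X) : Prop :=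
  ∀ v v' : Fam F r, IsLoc v → IsLoc v' → v.res m rfl = v'.res m rfl → v = v'

/-- Surjectivity of restriction of local families. -/
def FSurj (F : Sh X) {P P' : Scheme.{u}} (m : P' ⟶ P) (r : P ⟶ X) : Prop :=
  ∀ w : Fam F (m ≫ r), IsLoc w → ∃ v : Fam F r, IsLoc v ∧ v.res m rfl = w

/-- Locality is étale local on the source. -/
theorem isLoc_of_etale {P : Scheme.{u}} {r : P ⟶ X} {v : Fam F r}
    (h : ∀ z : P, ∃ (W : Scheme.{u}) (a : W ⟶ P) (_ : Etale a) (w : W), a w = z ∧
      IsLoc (v.res a rfl)) : IsLoc v := by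
  intro z
  obtain ⟨W, a, ha, w, hw, hl⟩ := h z
  obtain ⟨W', a', ha', w', V, b, hb, σ, hw', hσ⟩ := hl w
  refine ⟨W', a' ≫ a, inferInstance, w', V, b, by rw [hb, Category.assoc], σ, ?_, ?_⟩
  · rw [Scheme.Hom.comp_apply, hw', hw]
  · rw [← show (v.res a rfl).res a' (show a' ≫ a ≫ r = (a' ≫ a) ≫ r by rw [Category.assoc]) =
        v.res (a' ≫ a) rfl from Fam.res_res _ _ _ _ _]
    ext Ω _ _ l ξ hl'
    exact Fam.congr_fun hσ l (ξ := ξ) (by rw [← hl']; simp only [Category.assoc])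

/-- Local families agreeing after restriction to a jointly surjective family are equal. -/
theorem eq_of_jointly_surjective {P : Scheme.{u}} {r : P ⟶ X} {v v' : Fam F r} (hv : IsLoc v)
    (hv' : IsLoc v') (h : ∀ z : P, ∃ (W : Scheme.{u}) (a : W ⟶ P) (w : W), a w = z ∧
      v.res a rfl = v'.res a rfl) : v = v' := by
  refine eq_of_agree fun z => ?_
  obtain ⟨W, a, w, rfl, e⟩ := h z
  have h1 := hv.agree_res hv' a rfl
  have h2 : w ∈ agree (v.res a rfl) (v'.res a rfl) := by
    rw [e]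
    intro Ω _ _ l ξ hl _
    rfl
  rw [h1] at h2
  exact h2

theorem mem_agree_self {P : Scheme.{u}} {r : P ⟶ X} (v : Fam F r) (z : P) : z ∈ agree v v :=
  fun _ _ _ _ _ _ _ => rfl

/-- A chart: sections inducing an isomorphism with a constant sheaf. -/
structure FCh (F : Sh X) {P : Scheme.{u}} (r : P ⟶ X) (I : Type) where
  /-- the sections -/
  φ : I → Fam F r
  loc : ∀ i, IsLoc (φ i)
  bij : ∀ (Ω : Type u) [Field Ω] [IsSepClosed Ω] (l : Spec (.of Ω) ⟶ P) (ξ : Spec (.of Ω) ⟶ X)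
    (h : l ≫ r = ξ), Function.Bijective (fun i => φ i Ω l ξ h)

namespace FCh

variable {P P' : Scheme.{u}} {r : P ⟶ X} {I : Type}

/-- Restriction of a chart. -/
noncomputable def res (c : FCh F r I) (m : P' ⟶ P) {r' : P' ⟶ X} (h : m ≫ r = r') : FCh F r' I where
  φ i := (c.φ i).res m h
  loc i := (c.loc i).res m h
  bij Ω _ _ l ξ hl := c.bij Ω (l ≫ m) ξ (by rw [Category.assoc, h, hl])

theorem exists_mem_agree (c : FCh F r I) {v : Fam F r} (hv : IsLoc v) (z : P) :
    ∃ i, z ∈ agree v (c.φ i) := by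
  obtain ⟨Ω, _, _, l, rfl⟩ := exists_geomPoint P z
  obtain ⟨i, hi⟩ := (c.bij Ω l _ rfl).2 (v Ω l _ rfl)
  exact ⟨i, hv.mem_agree (c.loc i) l rfl hi.symm⟩

theorem agree_unique (c : FCh F r I) {v : Fam F r} {z : P} {i j : I}
    (hi : z ∈ agree v (c.φ i)) (hj : z ∈ agree v (c.φ j)) : i = j := by
  obtain ⟨Ω, _, _, l, rfl⟩ := exists_geomPoint P z
  exact (c.bij Ω l _ rfl).1 ((hi Ω l _ rfl rfl).symm.trans (hj Ω l _ rfl rfl))

/-- The index function of a local family. -/
noncomputable def idxFun (c : FCh F r I) {v : Fam F r} (hv : IsLoc v) (z : P) : I :=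
  (c.exists_mem_agree hv z).choose

theorem idxFun_eq_iff (c : FCh F r I) {v : Fam F r} (hv : IsLoc v) (z : P) (i : I) :
    c.idxFun hv z = i ↔ z ∈ agree v (c.φ i) := by
  constructor
  · rintro rfl
    exact (c.exists_mem_agree hv z).choose_spec
  · exact fun h => c.agree_unique (c.exists_mem_agree hv z).choose_spec h

/-- The locally constant index function of a local family. -/
noncomputable def idx (c : FCh F r I) {v : Fam F r} (hv : IsLoc v) : LocallyConstant P I where
  toFun := c.idxFun hv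
  isLocallyConstant := by
    rw [IsLocallyConstant.iff_exists_open]
    intro z
    exact ⟨agree v (c.φ (c.idxFun hv z)), hv.isOpen_agree (c.loc _), (c.idxFun_eq_iff hv z _).1 rfl,
      fun y hy => (c.idxFun_eq_iff hv y _).2 hy⟩

theorem idx_eq_iff (c : FCh F r I) {v : Fam F r} (hv : IsLoc v) (z : P) (i : I) :
    c.idx hv z = i ↔ z ∈ agree v (c.φ i) := c.idxFun_eq_iff hv z i

theorem val_eq (c : FCh F r I) {v : Fam F r} (hv : IsLoc v) {Ω : Type u} [Field Ω] [IsSepClosed Ω]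
    (l : Spec (.of Ω) ⟶ P) (ξ : Spec (.of Ω) ⟶ X) (h : l ≫ r = ξ) :
    v Ω l ξ h = c.φ (c.idx hv (l default)) Ω l ξ h :=
  (c.idx_eq_iff hv (l default) _).1 rfl Ω l ξ h rfl

theorem idx_eq_of_val (c : FCh F r I) {v : Fam F r} (hv : IsLoc v) {Ω : Type u} [Field Ω]
    [IsSepClosed Ω] (l : Spec (.of Ω) ⟶ P) {ξ : Spec (.of Ω) ⟶ X} (h : l ≫ r = ξ) {i : I}
    (hi : v Ω l ξ h = c.φ i Ω l ξ h) : c.idx hv (l default) = i :=
  (c.idx_eq_iff hv _ _).2 (hv.mem_agree (c.loc i) l h hi)

theorem mem_agree_iff (c : FCh F r I) {v v' : Fam F r} (hv : IsLoc v) (hv' : IsLoc v') (z : P) :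
    z ∈ agree v v' ↔ c.idx hv z = c.idx hv' z := by
  obtain ⟨Ω, _, _, l, rfl⟩ := exists_geomPoint P z
  constructor
  · intro h
    refine c.idx_eq_of_val hv l rfl ?_
    rw [h Ω l _ rfl rfl, c.val_eq hv' l _ rfl]
  · intro h
    refine hv.mem_agree hv' l rfl ?_
    rw [c.val_eq hv l _ rfl, h, ← c.val_eq hv' l _ rfl]

theorem idx_res (c : FCh F r I) {v : Fam F r} (hv : IsLoc v) (m : P' ⟶ P) {r' : P' ⟶ X}
    (h : m ≫ r = r') (z : P') : (c.res m h).idx (hv.res m h) z = c.idx hv (m z) := by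
  rw [idx_eq_iff]
  have := (c.idx_eq_iff hv (m z) _).1 rfl
  have h1 := hv.agree_res (c.loc (c.idx hv (m z))) m h
  have h2 : z ∈ m ⁻¹' agree v (c.φ (c.idx hv (m z))) := this
  rw [← h1] at h2
  exact h2

/-- A version of `idx_res` for a family given independently. -/
theorem idx_res' (c : FCh F r I) {v : Fam F r} (hv : IsLoc v) (m : P' ⟶ P) {r' : P' ⟶ X}
    (h : m ≫ r = r') {w : Fam F r'} (hw : IsLoc w) (e : w = v.res m h) (z : P') :
    (c.res m h).idx hw z = c.idx hv (m z) := by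
  subst e
  exact c.idx_res hv m h z

/-- The family of a locally constant function. -/
noncomputable def ofLC (c : FCh F r I) (k : LocallyConstant P I) : Fam F r :=
  fun Ω _ _ l ξ h => c.φ (k (l default)) Ω l ξ h

theorem ofLC_val (c : FCh F r I) (k : LocallyConstant P I) {Ω : Type u} [Field Ω]
    [IsSepClosed Ω] (l : Spec (.of Ω) ⟶ P) (ξ : Spec (.of Ω) ⟶ X) (h : l ≫ r = ξ) :
    c.ofLC k Ω l ξ h = c.φ (k (l default)) Ω l ξ h := rfl

theorem isLoc_ofLC (c : FCh F r I) (k : LocallyConstant P I) : IsLoc (c.ofLC k) := by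
  refine isLoc_of_etale fun z => ?_
  let D : P.Opens := ⟨k ⁻¹' {k z}, k.isLocallyConstant.isOpen_fiber _⟩
  refine ⟨D.toScheme, D.ι, inferInstance, ⟨z, rfl⟩, rfl, ?_⟩
  have e : (c.ofLC k).res D.ι rfl = (c.φ (k z)).res D.ι rfl := by
    ext Ω _ _ l ξ h
    change c.φ (k ((l ≫ D.ι) default)) Ω (l ≫ D.ι) ξ _ = c.φ (k z) Ω (l ≫ D.ι) ξ _
    have : (l ≫ D.ι) default ∈ D := (l default).2
    have h1 : k ((l ≫ D.ι) default) = k z := this
    rw [h1]
  rw [e]
  exact (c.loc _).res _ _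

theorem idx_ofLC (c : FCh F r I) (k : LocallyConstant P I) (h : IsLoc (c.ofLC k)) (z : P) :
    c.idx h z = k z := by
  obtain ⟨Ω, _, _, l, rfl⟩ := exists_geomPoint P z
  exact c.idx_eq_of_val h l rfl rfl

theorem ofLC_idx (c : FCh F r I) {v : Fam F r} (hv : IsLoc v) : c.ofLC (c.idx hv) = v := by
  ext Ω _ _ l ξ h
  exact (c.val_eq hv l ξ h).symm

theorem fInj (c : FCh F r I) {m : P' ⟶ P} (h : ClInj m) : FInj F m r := by
  intro v v' hv hv' e
  have h1 : c.idx hv = c.idx hv' := by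
    refine h.lc_eq _ _ fun x => ?_
    rw [← c.idx_res hv m rfl, ← c.idx_res hv' m rfl]
    congr 1
    congr 1
  rw [← c.ofLC_idx hv, ← c.ofLC_idx hv', h1]

theorem fSurj [Finite I] (c : FCh F r I) {m : P' ⟶ P} (h : ClBij m) : FSurj F m r := by
  intro w hw
  obtain ⟨k, hk⟩ := h.exists_lc m.continuous ((c.res m rfl).idx hw)
  refine ⟨c.ofLC k, c.isLoc_ofLC k, ?_⟩
  ext Ω _ _ l ξ hl
  have h1 := (c.res m rfl).val_eq hw l ξ hl
  rw [h1, ← hk]
  rfl

end FCh

end K990.CohProp
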