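import Groth.Agent.CohProp.K990.LiftLoc
import Groth.Agent.CohProp.K990.CritP

/-!
# Restriction of bundled families of germs

* `BInj F m r`, `BSurj F m r`: bundled versions of `FInj`, `FSurj`.
* `bInj_of_jInj`, `bSurj_of_lift`: the case of a subsheaf.
* `FinGen F r`, `CA G r`, `isClosed_liftSet`.
-/

set_option autoImplicit false
set_option linter.unusedSectionVars false
set_option linter.unusedVariables false
set_option backward.isDefEq.respectTransparency.types false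
universe u

open CategoryTheory CategoryTheory.Limits AlgebraicGeometry Opposite

namespace K990.CohProp

open EtDesc Groth.Agent.Sga4A.EtStalk Groth.Agent K548.SetULA
open Groth.Agent.Etbc.H184 (FamSh.IsLoc FamSh.toFam FamSh.ofFam FamSh.isLoc_ofFam)

section Bundled

variable {X Z Z' : Scheme.{u}}

/-- Injectivity of restriction of families of germs. -/
def BInj (F : Sh X) (m : Z' ⟶ Z) (r : Z ⟶ X) : Prop :=
  ∀ γ δ : Fam F r, (∀ y, m y ∈ Fam.Agree γ δ) → ∀ z, z ∈ Fam.Agree γ δ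

/-- Surjectivity of restriction of families of germs. -/
def BSurj (F : Sh X) (m : Z' ⟶ Z) (r : Z ⟶ X) : Prop :=
  ∀ w : Fam F (m ≫ r), ∃ δ : Fam F r, ∀ y, y ∈ Fam.Agree (δ.pull m) w

variable {F : Sh X} {m : Z' ⟶ Z} {r : Z ⟶ X}

theorem fInj_of_bInj (h : BInj F m r) : FInj F m r := by
  intro v v' hv hv' e
  have h1 := h (FamSh.toFam v hv) (FamSh.toFam v' hv') (by
    intro y
    obtain ⟨Ω, _, _, η, rfl⟩ := exists_geomPoint Z' y
    rw [← Scheme.Hom.comp_apply, Fam.mem_agree_iff _ _ (η ≫ m) (η ≫ m ≫ r) (Category.assoc _ _ _)]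
    exact Groth.Agent.Etbc.H184.FamSh.Fam.congr_fun e η rfl)
  ext Ω _ _ l ξ hl
  exact (Fam.mem_agree_iff _ _ l ξ hl).1 (h1 _)

theorem bInj_of_fInj (h : FInj F m r) : BInj F m r := by
  intro γ δ hγ
  have h1 := h (FamSh.ofFam γ) (FamSh.ofFam δ) (FamSh.isLoc_ofFam γ) (FamSh.isLoc_ofFam δ) (by
    ext Ω _ _ l ξ hl
    have h2 := hγ (l default)
    rw [← Scheme.Hom.comp_apply, Fam.mem_agree_iff _ _ (l ≫ m) ξ (by rw [Category.assoc, hl])] at h2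
    exact h2)
  intro z
  obtain ⟨Ω, _, _, η, rfl⟩ := exists_geomPoint Z z
  rw [Fam.mem_agree_iff _ _ η _ rfl]
  exact Groth.Agent.Etbc.H184.FamSh.Fam.congr_fun h1 η rfl

theorem fSurj_of_bSurj (h : BSurj F m r) : FSurj F m r := by
  intro w hw
  obtain ⟨δ, hδ⟩ := h (FamSh.toFam w hw)
  refine ⟨FamSh.ofFam δ, FamSh.isLoc_ofFam δ, ?_⟩
  ext Ω _ _ l ξ hl
  exact (Fam.mem_agree_iff _ _ l ξ hl).1 (hδ _)

theorem bSurj_of_fSurj (h : FSurj F m r) : BSurj F m r := by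
  intro w
  obtain ⟨v, hv, e⟩ := h (FamSh.ofFam w) (FamSh.isLoc_ofFam w)
  refine ⟨FamSh.toFam v hv, fun y => ?_⟩
  obtain ⟨Ω, _, _, η, rfl⟩ := exists_geomPoint Z' y
  rw [Fam.mem_agree_iff _ _ η _ rfl]
  exact Groth.Agent.Etbc.H184.FamSh.Fam.congr_fun e η rfl

/-! ### Inverse images -/

theorem mem_agree_fromPull {Y W : Scheme.{u}} {g : Y ⟶ X} {h : W ⟶ Y}
    (γ δ : Fam ((pullSh g).obj F) h) (z : W) :
    z ∈ Fam.Agree γ.fromPull δ.fromPull ↔ z ∈ Fam.Agree γ δ := by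
  obtain ⟨Ω, _, _, ζ, rfl⟩ := exists_geomPoint W z
  have e : ζ ≫ h ≫ g = (ζ ≫ h) ≫ g := (Category.assoc _ _ _).symm
  rw [Fam.mem_agree_iff _ _ ζ _ e, Fam.mem_agree_iff γ δ ζ _ rfl,
    Fam.fromPull_val γ ζ _ _ rfl rfl e, Fam.fromPull_val δ ζ _ _ rfl rfl e]
  exact (pullStk' g F (ζ ≫ h) ((ζ ≫ h) ≫ g) rfl).symm.injective.eq_iff

theorem bInj_pullSh {Y : Scheme.{u}} {g : Y ⟶ X} {r : Z ⟶ Y} (h : BInj F m (r ≫ g)) :
    BInj ((pullSh g).obj F) m r := by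
  intro γ δ hγ z
  rw [← mem_agree_fromPull]
  refine h _ _ (fun y => ?_) z
  rw [mem_agree_fromPull]
  exact hγ y

theorem bSurj_pullSh {Y : Scheme.{u}} {g : Y ⟶ X} {r : Z ⟶ Y} (h : BSurj F m (r ≫ g)) :
    BSurj ((pullSh g).obj F) m r := by
  intro w
  obtain ⟨δ, hδ⟩ := h (w.fromPull.congr (Category.assoc _ _ _))
  refine ⟨δ.toPull, fun y => ?_⟩
  have h1 := hδ y
  obtain ⟨Ω, _, _, ζ, rfl⟩ := exists_geomPoint Z' y
  have e1 : ζ ≫ m ≫ r ≫ g = (ζ ≫ m ≫ r) ≫ g := by simp only [Category.assoc]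
  have e2 : (ζ ≫ m) ≫ r ≫ g = (ζ ≫ m ≫ r) ≫ g := by simp only [Category.assoc]
  have e3 : ζ ≫ (m ≫ r) ≫ g = (ζ ≫ m ≫ r) ≫ g := by simp only [Category.assoc]
  rw [Fam.mem_agree_iff _ _ ζ _ e1, Fam.congr_val,
    Fam.fromPull_val w ζ _ _ rfl rfl e3] at h1
  rw [Fam.mem_agree_iff _ _ ζ _ rfl]
  have h2 : (δ.toPull.pull m).val ζ (ζ ≫ m ≫ r) rfl = pullStk' g F (ζ ≫ m ≫ r) _ rfl
      (δ.val (ζ ≫ m) _ e2) :=
    Fam.toPull_val δ (ζ ≫ m) (ζ ≫ m ≫ r) _ (Category.assoc _ _ _) rfl e2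
  have h3 : δ.val (ζ ≫ m) _ e2 = (pullStk' g F (ζ ≫ m ≫ r) _ rfl).symm (w.val ζ _ rfl) := h1
  rw [h2, h3, Equiv.apply_symm_apply]

/-! ### Subsheaves -/

variable {ι : Type*} {G : ι → Sh X} {a : ∀ i, F ⟶ G i}

theorem bInj_of_jInj (ha : JInj a) (h : ∀ i, BInj (G i) m r) : BInj F m r := by
  intro γ δ hγ z
  obtain ⟨Ω, _, _, η, rfl⟩ := exists_geomPoint Z z
  rw [Fam.mem_agree_iff _ _ η _ rfl]
  apply ha
  intro i
  have h1 := h i (γ.map (a i)) (δ.map (a i)) (by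
    intro y
    have h2 := hγ y
    obtain ⟨Ω', _, _, ζ, rfl⟩ := exists_geomPoint Z' y
    rw [← Scheme.Hom.comp_apply, Fam.mem_agree_iff _ _ (ζ ≫ m) _ rfl] at h2 ⊢
    rw [Fam.map_val, Fam.map_val, h2]) (η default)
  rw [Fam.mem_agree_iff _ _ η _ rfl] at h1
  exact h1

theorem bSurj_of_lift [Finite ι] (ha : JInj a) (h : ∀ i, BSurj (G i) m r)
    (hl : ∀ δ : ∀ i, Fam (G i) r, (∀ y, m y ∈ LiftSet a δ) → ∀ t, t ∈ LiftSet a δ) :
    BSurj F m r := by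
  intro w
  choose δ hδ using fun i => h i (w.map (a i))
  have h1 : ∀ (i : ι) (Ω : Type u) [Field Ω] [IsSepClosed Ω] (ζ : Spec (.of Ω) ⟶ Z')
      (ξ : Spec (.of Ω) ⟶ X) (e : ζ ≫ m ≫ r = ξ),
      (δ i).val (ζ ≫ m) ξ (by rw [Category.assoc, e]) = mapStk (a i) ξ (w.val ζ ξ e) := by
    intro i Ω _ _ ζ ξ e
    exact (Fam.mem_agree_iff _ _ ζ ξ e).1 (hδ i _)
  obtain ⟨γ, hγ⟩ := LiftSet.exists_fam ha (hl δ (by
    intro y
    obtain ⟨Ω, _, _, ζ, rfl⟩ := exists_geomPoint Z' y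
    have := LiftSet.of_val (a := a) (δ := δ) (η := ζ ≫ m) (Category.assoc _ _ _) (w.val ζ _ rfl)
      fun i => (h1 i Ω ζ _ rfl).symm
    exact this))
  refine ⟨γ, fun y => ?_⟩
  obtain ⟨Ω, _, _, ζ, rfl⟩ := exists_geomPoint Z' y
  rw [Fam.mem_agree_iff _ _ ζ _ rfl]
  apply ha
  intro i
  rw [← h1 i Ω ζ _ rfl]
  exact hγ i Ω (ζ ≫ m) _ _

end Bundled

/-! ### Closedness of lifting loci -/

section Closed

variable {X Y Y' : Scheme.{u}}

/-- Étale locally the germs of `F` along `r : Y ⟶ X` come from finitely many sections. -/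
def FinGen (F : Sh X) (r : Y ⟶ X) : Prop :=
  ∀ t : Y, ∃ (V : Scheme.{u}) (j : V ⟶ Y) (_ : Etale j) (v : V) (_ : j v = t) (M : Type (u + 1))
    (_ : Finite M) (e : M → Fam F (j ≫ r)), ∀ (Ω : Type u) [Field Ω] [IsSepClosed Ω]
      (η : Spec (.of Ω) ⟶ V) (ξ : Spec (.of Ω) ⟶ X) (h : η ≫ j ≫ r = ξ) (σ : Stk F ξ),
      ∃ m, (e m).val η ξ h = σ

/-- Agreement loci are closed, universally. -/
def CA (G : Sh X) (r : Y ⟶ X) : Prop :=
  ∀ ⦃Y' : Scheme.{u}⦄ (h : Y' ⟶ Y) (γ δ : Fam G (h ≫ r)), IsClosed (Fam.Agree γ δ)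

theorem CA.comp {G : Sh X} {r : Y ⟶ X} (hG : CA G r) (h : Y' ⟶ Y) : CA G (h ≫ r) := by
  intro W k γ δ
  have h1 := hG (k ≫ h) (γ.congr (Category.assoc _ _ _).symm) (δ.congr (Category.assoc _ _ _).symm)
  have h2 : Fam.Agree (γ.congr (Category.assoc k h r).symm) (δ.congr (Category.assoc k h r).symm) =
      Fam.Agree γ δ := by
    ext y
    exact mem_agree_congr γ δ _ y
  rwa [h2] at h1

theorem FinGen.comp {F : Sh X} {r : Y ⟶ X} (hF : FinGen F r) (h : Y' ⟶ Y) : FinGen F (h ≫ r) := by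
  intro t
  obtain ⟨V, j, hj, v, hv, M, hM, e, he⟩ := hF (h t)
  obtain ⟨w, hw1, hw2⟩ := Scheme.Pullback.exists_preimage_pullback (f := h) (g := j) t v hv.symm
  have h1 : pullback.snd h j ≫ j ≫ r = pullback.fst h j ≫ h ≫ r := by
    rw [← Category.assoc, ← pullback.condition, Category.assoc]
  refine ⟨pullback h j, pullback.fst h j, inferInstance, w, hw1, M, hM,
    fun m => ((e m).pull (pullback.snd h j)).congr h1, ?_⟩
  intro Ω _ _ η ξ h2 σ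
  obtain ⟨m, hm⟩ := he Ω (η ≫ pullback.snd h j) ξ (by rw [Category.assoc, h1, h2]) σ
  refine ⟨m, ?_⟩
  rw [Fam.congr_val]
  exact hm

theorem isClosed_liftSet {F : Sh X} {ι : Type*} [Finite ι] {G : ι → Sh X} {a : ∀ i, F ⟶ G i}
    {r : Y ⟶ X} (hF : FinGen F r) (hG : ∀ i, CA (G i) r) (δ : ∀ i, Fam (G i) r) :
    IsClosed (LiftSet a δ) := by
  rw [← isOpen_compl_iff, isOpen_iff_forall_mem_open]
  intro t ht
  obtain ⟨V, j, hj, v, hv, M, hM, e, he⟩ := hF t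
  let D : Set V := ⋃ m, ⋂ i, Fam.Agree ((e m).map (a i)) ((δ i).pull j)
  have hD : IsClosed D := by
    refine isClosed_iUnion_of_finite fun m => isClosed_iInter fun i => ?_
    exact hG i j _ _
  have key : ∀ w : V, j w ∈ LiftSet a δ → w ∈ D := by
    intro w hw
    obtain ⟨Ω, _, _, ζ, rfl⟩ := exists_geomPoint V w
    have hw' : (ζ ≫ j) default ∈ LiftSet a δ := hw
    obtain ⟨σ, hσ⟩ := LiftSet.exists_lift hw' (ζ ≫ j ≫ r) (Category.assoc _ _ _)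
    obtain ⟨m, hm⟩ := he Ω ζ _ rfl σ
    refine Set.mem_iUnion.2 ⟨m, Set.mem_iInter.2 fun i => ?_⟩
    rw [Fam.mem_agree_iff _ _ ζ _ rfl, Fam.map_val, hm]
    exact hσ i
  have key' : ∀ w : V, w ∈ D → j w ∈ LiftSet a δ := by
    intro w hw
    obtain ⟨m, hm⟩ := Set.mem_iUnion.1 hw
    obtain ⟨Ω, _, _, ζ, rfl⟩ := exists_geomPoint V w
    have := LiftSet.of_val (a := a) (δ := δ) (η := ζ ≫ j) (ξ := ζ ≫ j ≫ r) (Category.assoc _ _ _)
      ((e m).val ζ _ rfl) fun i => (Fam.mem_agree_iff _ _ ζ _ rfl).1 (Set.mem_iInter.1 hm i)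
    exact this
  refine ⟨j '' Dᶜ, ?_, j.isOpenMap _ hD.isOpen_compl, ⟨v, ?_, hv⟩⟩
  · rintro _ ⟨w, hw, rfl⟩ h
    exact hw (key w h)
  · intro h
    apply ht
    rw [← hv]
    exact key' v h

end Closed

end K990.CohProp
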