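import Groth.Prelude.Def_CohProp
import Groth.Prelude.Def_EtOpen
import Groth.Agent.Etbase.EtSite
import Mathlib.CategoryTheory.Sites.LocallyBijective

/-!
# Charts of étale sheaves of sets

`Chart F U M`: a map `φ : M → F(U)` inducing (elementwise) an isomorphism `M_U → F|U` of sheaves of
sets; `nonempty_iso_iff`: such a chart exists iff `F.over U ≅ (constSh X M).over U`.
-/

set_option autoImplicit false
universe u

open CategoryTheory CategoryTheory.Limits AlgebraicGeometry Opposite

namespace K990.CohProp

open EtDesc Groth.Agent.Etbase.EtSite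

variable {X : Scheme.{u}}

/-- A map `φ : M → F(U)` which induces an isomorphism from the constant sheaf `M` on `U` to `F|U`. -/
structure Chart (F : Sh X) (U : X.Etale) (M : Type (u + 1)) where
  /-- the sections -/
  φ : M → F.obj.obj (op U)
  inj : ∀ (T : X.Etale) (x : T ⟶ U) (_ : T.left) (m m' : M),
    F.obj.map x.op (φ m) = F.obj.map x.op (φ m') → m = m'
  surj : ∀ (T : X.Etale) (x : T ⟶ U) (t : T.left) (s : F.obj.obj (op T)),
    ∃ (m : M) (V : X.Etale) (f : V ⟶ T) (t' : V.left), f.left t' = t ∧
      F.obj.map f.op s = F.obj.map (f ≫ x).op (φ m)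

namespace Chart

variable {F : Sh X} {U : X.Etale} {M : Type (u + 1)}

/-- Restriction of a chart. -/
def res (c : Chart F U M) {V : X.Etale} (g : V ⟶ U) : Chart F V M where
  φ m := F.obj.map g.op (c.φ m)
  inj T x t m m' h := by
    refine c.inj T (x ≫ g) t m m' ?_
    rw [op_comp, Functor.map_comp_apply, Functor.map_comp_apply]
    exact h
  surj T x t s := by
    obtain ⟨m, V, f, t', ht', h⟩ := c.surj T (x ≫ g) t s
    refine ⟨m, V, f, t', ht', ?_⟩
    rw [h, ← Functor.map_comp_apply, ← op_comp, Category.assoc]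

/-- Reindexing a chart. -/
def congr (c : Chart F U M) {N : Type (u + 1)} (e : N ≃ M) : Chart F U N where
  φ n := c.φ (e n)
  inj T x t m m' h := e.injective (c.inj T x t _ _ h)
  surj T x t s := by
    obtain ⟨m, V, f, t', ht', h⟩ := c.surj T x t s
    exact ⟨e.symm m, V, f, t', ht', by rw [h, e.apply_symm_apply]⟩

/-- Transport of a chart along an isomorphism of the restrictions. -/
noncomputable def ofOverIso {G : Sh X} (c : Chart F U M) (e : F.over U ≅ G.over U) : Chart G U M where
  φ m := e.hom.hom.app (op (Over.mk (𝟙 U))) (c.φ m)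
  inj T x t m m' h := by
    refine c.inj T x t m m' ?_
    let k : Over.mk x ⟶ Over.mk (𝟙 U) := Over.homMk x (by simp)
    have h1 := ConcreteCategory.congr_hom (e.hom.hom.naturality k.op) (c.φ m)
    have h2 := ConcreteCategory.congr_hom (e.hom.hom.naturality k.op) (c.φ m')
    have h3 : e.hom.hom.app (op (Over.mk x)) (F.obj.map x.op (c.φ m)) =
        e.hom.hom.app (op (Over.mk x)) (F.obj.map x.op (c.φ m')) :=
      h1.trans (h.trans h2.symm)
    have h4 := congrArg (e.inv.hom.app (op (Over.mk x))) h3
    have h5 : e.hom.hom ≫ e.inv.hom = 𝟙 _ := congrArg (fun k => k.hom) e.hom_inv_id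
    have h6 : ∀ z, e.inv.hom.app (op (Over.mk x)) (e.hom.hom.app (op (Over.mk x)) z) = z := fun z =>
      ConcreteCategory.congr_hom (NatTrans.congr_app h5 (op (Over.mk x))) z
    exact (h6 _).symm.trans (h4.trans (h6 _))
  surj T x t s := by
    obtain ⟨m, V, f, t', ht', h⟩ := c.surj T x t (e.inv.hom.app (op (Over.mk x)) s)
    refine ⟨m, V, f, t', ht', ?_⟩
    let k : Over.mk (f ≫ x) ⟶ Over.mk x := Over.homMk f rfl
    let k' : Over.mk (f ≫ x) ⟶ Over.mk (𝟙 U) := Over.homMk (f ≫ x) (by simp)
    have h1 := ConcreteCategory.congr_hom (e.inv.hom.naturality k.op) s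
    have h2 := ConcreteCategory.congr_hom (e.hom.hom.naturality k'.op) (c.φ m)
    have h5 : e.inv.hom ≫ e.hom.hom = 𝟙 _ := congrArg (fun k => k.hom) e.inv_hom_id
    have h6 : ∀ z, e.hom.hom.app (op (Over.mk (f ≫ x))) (e.inv.hom.app (op (Over.mk (f ≫ x))) z) = z :=
      fun z => ConcreteCategory.congr_hom (NatTrans.congr_app h5 (op (Over.mk (f ≫ x)))) z
    have h7 : e.inv.hom.app (op (Over.mk (f ≫ x))) (G.obj.map f.op s) =
        F.obj.map (f ≫ x).op (c.φ m) := h1.trans h
    exact (h6 _).symm.trans ((congrArg (e.hom.hom.app (op (Over.mk (f ≫ x)))) h7).trans h2)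

end Chart

section Const

variable (X) (M : Type (u + 1))

/-- The constant presheaf. -/
abbrev cPre : (X.Etale)ᵒᵖ ⥤ Type (u + 1) := (Functor.const (X.Etale)ᵒᵖ).obj M

/-- The sheafification map. -/
noncomputable def cMap : cPre X M ⟶ (_root_.CohProp.constSh X M).obj :=
  toSheafify X.smallEtaleTopology (cPre X M)

instance : Presheaf.IsLocallyInjective X.smallEtaleTopology (cMap X M) :=
  Presheaf.isLocallyInjective_toSheafify' _ _

instance : Presheaf.IsLocallySurjective X.smallEtaleTopology (cMap X M) :=
  Presheaf.isLocallySurjective_toSheafify' _ _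

/-- The tautological chart of the constant sheaf. -/
noncomputable def constChart (U : X.Etale) : Chart (_root_.CohProp.constSh X M) U M where
  φ m := (cMap X M).app (op U) m
  inj T x t m m' h := by
    have h1 := ConcreteCategory.congr_hom ((cMap X M).naturality x.op) (m : (cPre X M).obj (op U))
    have h2 := ConcreteCategory.congr_hom ((cMap X M).naturality x.op) (m' : (cPre X M).obj (op U))
    have h3 : (cMap X M).app (op T) (m : (cPre X M).obj (op T)) =
        (cMap X M).app (op T) (m' : (cPre X M).obj (op T)) := h1.trans (h.trans h2.symm)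
    have h4 := Presheaf.equalizerSieve_mem X.smallEtaleTopology (cMap X M) (X := op T)
      (m : (cPre X M).obj (op T)) (m' : (cPre X M).obj (op T)) h3
    rw [mem_iff] at h4
    obtain ⟨V, g, v, e, -⟩ := h4 t
    exact e
  surj T x t s := by
    have h : Presheaf.imageSieve (cMap X M) s ∈ X.smallEtaleTopology T :=
      Presheaf.imageSieve_mem _ _ _
    rw [mem_iff] at h
    obtain ⟨V, g, v, ⟨m, hm⟩, hv⟩ := h t
    refine ⟨m, V, g, v, hv, hm.symm.trans ?_⟩
    exact ConcreteCategory.congr_hom ((cMap X M).naturality (g ≫ x).op)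
      (m : (cPre X M).obj (op U))

end Const

section Iso

variable {F : Sh X} {U : X.Etale} {M : Type (u + 1)}

theorem nonempty_chart_of_iso (e : F.over U ≅ (_root_.CohProp.constSh X M).over U) :
    Nonempty (Chart F U M) := ⟨(constChart X M U).ofOverIso e.symm⟩

/-- The constant presheaf on the site over `U`. -/
abbrev oPre (U : X.Etale) (M : Type (u + 1)) : (Over U)ᵒᵖ ⥤ Type (u + 1) :=
  (Functor.const (Over U)ᵒᵖ).obj M

/-- The map of presheaves of a chart. -/
def Chart.toOver (c : Chart F U M) : oPre U M ⟶ (F.over U).obj where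
  app W := TypeCat.ofHom fun m => F.obj.map W.unop.hom.op (c.φ m)
  naturality W W' k := by
    ext m
    change F.obj.map W'.unop.hom.op (c.φ m) =
      F.obj.map k.unop.left.op (F.obj.map W.unop.hom.op (c.φ m))
    rw [← Functor.map_comp_apply, ← op_comp, Over.w]

theorem Chart.isLocallyInjective (c : Chart F U M) :
    Presheaf.IsLocallyInjective (X.smallEtaleTopology.over U) c.toOver where
  equalizerSieve_mem {W} m m' h := by
    rw [GrothendieckTopology.mem_over_iff, mem_iff]
    intro x
    refine ⟨W.unop.left, 𝟙 _, x, ?_, rfl⟩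
    rw [Sieve.overEquiv_iff]
    exact c.inj W.unop.left W.unop.hom x m m' h

theorem Chart.isLocallySurjective (c : Chart F U M) :
    Presheaf.IsLocallySurjective (X.smallEtaleTopology.over U) c.toOver where
  imageSieve_mem {W} s := by
    rw [GrothendieckTopology.mem_over_iff, mem_iff]
    intro x
    obtain ⟨m, V, f, t', ht', h⟩ := c.surj W.left W.hom x s
    refine ⟨V, f, t', ?_, ht'⟩
    rw [Sieve.overEquiv_iff]
    exact ⟨m, h.symm⟩

/-- Two sheaves receiving locally bijective maps from the same presheaf are isomorphic. -/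
theorem nonempty_iso_of_locBij {C : Type (u + 1)} [Category.{u} C] (J : GrothendieckTopology C)
    {P : Cᵒᵖ ⥤ Type (u + 1)} {F G : Sheaf J (Type (u + 1))} (a : P ⟶ F.obj) (b : P ⟶ G.obj)
    (ha : Presheaf.IsLocallyInjective J a) (ha' : Presheaf.IsLocallySurjective J a)
    (hb : Presheaf.IsLocallyInjective J b) (hb' : Presheaf.IsLocallySurjective J b) :
    Nonempty (F ≅ G) := by
  have h1 : IsIso ((presheafToSheaf J (Type (u + 1))).map a) :=
    (J.W_iff a).1 (J.W_of_isLocallyBijective a)
  have h2 : IsIso ((presheafToSheaf J (Type (u + 1))).map b) :=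
    (J.W_iff b).1 (J.W_of_isLocallyBijective b)
  let adj := sheafificationAdjunction J (Type (u + 1))
  exact ⟨(asIso (adj.counit.app F)).symm ≪≫ (asIso ((presheafToSheaf J _).map a)).symm ≪≫
    asIso ((presheafToSheaf J _).map b) ≪≫ asIso (adj.counit.app G)⟩

theorem Chart.nonempty_iso (c : Chart F U M) :
    Nonempty (F.over U ≅ (_root_.CohProp.constSh X M).over U) :=
  nonempty_iso_of_locBij _ c.toOver (constChart X M U).toOver c.isLocallyInjective
    c.isLocallySurjective (constChart X M U).isLocallyInjective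
    (constChart X M U).isLocallySurjective

end Iso

end K990.CohProp
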