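import Mathlib.Topology.Clopen
import Mathlib.Topology.Maps.Basic

/-!
# Relatively clopen subsets
-/

set_option autoImplicit false

open Set

namespace K990.CohProp

variable {α β : Type*} [TopologicalSpace α] [TopologicalSpace β]

/-- Relatively open subsets of `B`. -/
def RO (B D : Set α) : Prop := ∃ O : Set α, IsOpen O ∧ D = O ∩ B

/-- Relatively clopen subsets of `B`. -/
def RC (B D : Set α) : Prop := RO B D ∧ RO B (B \ D)

theorem RO.subset {B D : Set α} (h : RO B D) : D ⊆ B := by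
  obtain ⟨O, -, rfl⟩ := h
  exact inter_subset_right

theorem RC.subset {B D : Set α} (h : RC B D) : D ⊆ B := h.1.subset

theorem RO.inter {B D E : Set α} (h : RO B D) (h' : RO B E) : RO B (D ∩ E) := by
  obtain ⟨O, hO, rfl⟩ := h
  obtain ⟨O', hO', rfl⟩ := h'
  refine ⟨O ∩ O', hO.inter hO', ?_⟩
  ext x; simp only [mem_inter_iff]; tauto

theorem RO.union {B D E : Set α} (h : RO B D) (h' : RO B E) : RO B (D ∪ E) := by
  obtain ⟨O, hO, rfl⟩ := h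
  obtain ⟨O', hO', rfl⟩ := h'
  refine ⟨O ∪ O', hO.union hO', ?_⟩
  ext x; simp only [mem_inter_iff, mem_union]; tauto

theorem RO.restrict {B D B' : Set α} (h : RO B D) (hB : B' ⊆ B) : RO B' (D ∩ B') := by
  obtain ⟨O, hO, rfl⟩ := h
  refine ⟨O, hO, ?_⟩
  ext x; simp only [mem_inter_iff]
  exact ⟨fun h => ⟨h.1.1, h.2⟩, fun h => ⟨⟨h.1, hB h.2⟩, h.2⟩⟩

theorem RO.preimage {B D : Set β} (h : RO B D) {g : α → β} (hg : Continuous g) :
    RO (g ⁻¹' B) (g ⁻¹' D) := by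
  obtain ⟨O, hO, rfl⟩ := h
  exact ⟨g ⁻¹' O, hO.preimage hg, rfl⟩

theorem RC.compl {B D : Set α} (h : RC B D) : RC B (B \ D) := by
  refine ⟨h.2, ?_⟩
  rw [diff_diff_cancel_left h.subset]
  exact h.1

theorem RC.inter {B D E : Set α} (h : RC B D) (h' : RC B E) : RC B (D ∩ E) := by
  refine ⟨h.1.inter h'.1, ?_⟩
  rw [diff_inter]
  exact h.2.union h'.2

theorem RC.union {B D E : Set α} (h : RC B D) (h' : RC B E) : RC B (D ∪ E) := by
  refine ⟨h.1.union h'.1, ?_⟩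
  rw [← diff_inter_diff]
  exact h.2.inter h'.2

theorem RC.restrict {B D B' : Set α} (h : RC B D) (hB : B' ⊆ B) : RC B' (D ∩ B') := by
  refine ⟨h.1.restrict hB, ?_⟩
  have h2 := h.2.restrict hB
  have : B' \ (D ∩ B') = (B \ D) ∩ B' := by
    ext x; simp only [mem_diff, mem_inter_iff]
    constructor
    · rintro ⟨h1, h2⟩; exact ⟨⟨hB h1, fun h => h2 ⟨h, h1⟩⟩, h1⟩
    · rintro ⟨⟨h1, h2⟩, h3⟩; exact ⟨h3, fun h => h2 h.1⟩
  rw [this]; exact h2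

theorem RC.preimage {B D : Set β} (h : RC B D) {g : α → β} (hg : Continuous g) :
    RC (g ⁻¹' B) (g ⁻¹' D) := ⟨h.1.preimage hg, h.2.preimage hg⟩

theorem RC_univ {D : Set α} : RC univ D ↔ IsClopen D := by
  constructor
  · rintro ⟨⟨O, hO, rfl⟩, ⟨O', hO', h⟩⟩
    rw [inter_univ] at h ⊢
    refine ⟨?_, hO⟩
    rw [← isOpen_compl_iff]
    have : Oᶜ = O' := by
      rw [inter_univ, ← compl_eq_univ_diff] at h
      exact h
    rw [this]; exact hO'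
  · intro h
    refine ⟨⟨D, h.2, by simp⟩, ⟨Dᶜ, h.compl.2, by simp [compl_eq_univ_diff]⟩⟩

/-- Relatively clopen subsets from closed subsets. -/
theorem RC.of_closed {B D F F' : Set α} (hF : IsClosed F) (hF' : IsClosed F') (h : D = F ∩ B)
    (h' : B \ D = F' ∩ B) : RC B D := by
  have hD : D ⊆ B := by rw [h]; exact inter_subset_right
  refine ⟨⟨F'ᶜ, hF'.isOpen_compl, ?_⟩, ⟨Fᶜ, hF.isOpen_compl, ?_⟩⟩
  · ext x
    constructor
    · intro hx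
      refine ⟨fun hx' => ?_, hD hx⟩
      have : x ∈ B \ D := by rw [h']; exact ⟨hx', hD hx⟩
      exact this.2 hx
    · rintro ⟨hx, hxB⟩
      by_contra hxD
      have : x ∈ B \ D := ⟨hxB, hxD⟩
      rw [h'] at this
      exact hx this.1
  · ext x
    constructor
    · rintro ⟨hx, hxD⟩
      refine ⟨fun hxF => hxD ?_, hx⟩
      rw [h]; exact ⟨hxF, hx⟩
    · rintro ⟨hx, hxB⟩
      refine ⟨hxB, fun hxD => hx ?_⟩
      rw [h] at hxD
      exact hxD.1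

theorem RC.exists_closed {B D : Set α} (h : RC B D) : ∃ F : Set α, IsClosed F ∧ D = F ∩ B := by
  obtain ⟨h1, O, hO, h⟩ := h
  refine ⟨Oᶜ, hO.isClosed_compl, ?_⟩
  ext x
  constructor
  · intro hx
    refine ⟨fun hx' => ?_, h1.subset hx⟩
    have : x ∈ B \ D := by rw [h]; exact ⟨hx', h1.subset hx⟩
    exact this.2 hx
  · rintro ⟨hx, hxB⟩
    by_contra hxD
    have : x ∈ B \ D := ⟨hxB, hxD⟩
    rw [h] at this
    exact hx this.1

/-- Gluing of relatively open subsets along an open covering. -/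
theorem RO.glue {B B₁ B₂ D : Set α} (hB : B = B₁ ∪ B₂) (hD : D ⊆ B) (h₁ : RO B B₁) (h₂ : RO B B₂)
    (k₁ : RO B₁ (D ∩ B₁)) (k₂ : RO B₂ (D ∩ B₂)) : RO B D := by
  obtain ⟨U₁, hU₁, e₁⟩ := h₁
  obtain ⟨U₂, hU₂, e₂⟩ := h₂
  obtain ⟨O₁, hO₁, d₁⟩ := k₁
  obtain ⟨O₂, hO₂, d₂⟩ := k₂
  refine ⟨O₁ ∩ U₁ ∪ O₂ ∩ U₂, (hO₁.inter hU₁).union (hO₂.inter hU₂), ?_⟩
  ext x
  constructor
  · intro hx
    refine ⟨?_, hD hx⟩
    have hxB := hD hx
    rw [hB] at hxB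
    rcases hxB with hx' | hx'
    · left
      refine ⟨?_, ?_⟩
      · have : x ∈ D ∩ B₁ := ⟨hx, hx'⟩
        rw [d₁] at this; exact this.1
      · rw [e₁] at hx'; exact hx'.1
    · right
      refine ⟨?_, ?_⟩
      · have : x ∈ D ∩ B₂ := ⟨hx, hx'⟩
        rw [d₂] at this; exact this.1
      · rw [e₂] at hx'; exact hx'.1
  · rintro ⟨⟨h1, h2⟩ | ⟨h1, h2⟩, hxB⟩
    · have h3 : x ∈ B₁ := by rw [e₁]; exact ⟨h2, hxB⟩
      have h4 : x ∈ D ∩ B₁ := by rw [d₁]; exact ⟨h1, h3⟩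
      exact h4.1
    · have h3 : x ∈ B₂ := by rw [e₂]; exact ⟨h2, hxB⟩
      have h4 : x ∈ D ∩ B₂ := by rw [d₂]; exact ⟨h1, h3⟩
      exact h4.1

theorem RC.glue_open {B B₁ B₂ D : Set α} (hB : B = B₁ ∪ B₂) (hD : D ⊆ B) (h₁ : RO B B₁) (h₂ : RO B B₂)
    (k₁ : RC B₁ (D ∩ B₁)) (k₂ : RC B₂ (D ∩ B₂)) : RC B D := by
  refine ⟨RO.glue hB hD h₁ h₂ k₁.1 k₂.1, RO.glue hB diff_subset h₁ h₂ ?_ ?_⟩
  · have : (B \ D) ∩ B₁ = B₁ \ (D ∩ B₁) := by
      ext x; simp only [mem_diff, mem_inter_iff]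
      constructor
      · rintro ⟨⟨h1, h2⟩, h3⟩; exact ⟨h3, fun h => h2 h.1⟩
      · rintro ⟨h1, h2⟩; exact ⟨⟨h₁.subset h1, fun h => h2 ⟨h, h1⟩⟩, h1⟩
    rw [this]; exact k₁.2
  · have : (B \ D) ∩ B₂ = B₂ \ (D ∩ B₂) := by
      ext x; simp only [mem_diff, mem_inter_iff]
      constructor
      · rintro ⟨⟨h1, h2⟩, h3⟩; exact ⟨h3, fun h => h2 h.1⟩
      · rintro ⟨h1, h2⟩; exact ⟨⟨h₂.subset h1, fun h => h2 ⟨h, h1⟩⟩, h1⟩
    rw [this]; exact k₂.2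

theorem RC.glue_closed {B B₁ B₂ D U₁ U₂ : Set α} (hB : B = B₁ ∪ B₂) (hD : D ⊆ B)
    (h₁ : IsClosed U₁) (h₂ : IsClosed U₂) (e₁ : B₁ = U₁ ∩ B) (e₂ : B₂ = U₂ ∩ B)
    (k₁ : RC B₁ (D ∩ B₁)) (k₂ : RC B₂ (D ∩ B₂)) : RC B D := by
  have key : ∀ D : Set α, D ⊆ B → RC B₁ (D ∩ B₁) → RC B₂ (D ∩ B₂) → ∃ F, IsClosed F ∧ D = F ∩ B := by
    intro D hD k₁ k₂
    obtain ⟨O₁, hO₁, d₁⟩ := k₁.exists_closed
    obtain ⟨O₂, hO₂, d₂⟩ := k₂.exists_closed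
    refine ⟨O₁ ∩ U₁ ∪ O₂ ∩ U₂, (hO₁.inter h₁).union (hO₂.inter h₂), ?_⟩
    ext x
    constructor
    · intro hx
      refine ⟨?_, hD hx⟩
      have hxB := hD hx
      rw [hB] at hxB
      rcases hxB with hx' | hx'
      · left
        refine ⟨?_, ?_⟩
        · have : x ∈ D ∩ B₁ := ⟨hx, hx'⟩
          rw [d₁] at this; exact this.1
        · rw [e₁] at hx'; exact hx'.1
      · right
        refine ⟨?_, ?_⟩
        · have : x ∈ D ∩ B₂ := ⟨hx, hx'⟩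
          rw [d₂] at this; exact this.1
        · rw [e₂] at hx'; exact hx'.1
    · rintro ⟨⟨h1, h2⟩ | ⟨h1, h2⟩, hxB⟩
      · have h3 : x ∈ B₁ := by rw [e₁]; exact ⟨h2, hxB⟩
        have h4 : x ∈ D ∩ B₁ := by rw [d₁]; exact ⟨h1, h3⟩
        exact h4.1
      · have h3 : x ∈ B₂ := by rw [e₂]; exact ⟨h2, hxB⟩
        have h4 : x ∈ D ∩ B₂ := by rw [d₂]; exact ⟨h1, h3⟩
        exact h4.1
  have hc : ∀ B' : Set α, B' ⊆ B → (B \ D) ∩ B' = B' \ (D ∩ B') := by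
    intro B' hB'
    ext x; simp only [mem_diff, mem_inter_iff]
    constructor
    · rintro ⟨⟨h1, h2⟩, h3⟩; exact ⟨h3, fun h => h2 h.1⟩
    · rintro ⟨h1, h2⟩; exact ⟨⟨hB' h1, fun h => h2 ⟨h, h1⟩⟩, h1⟩
  obtain ⟨F, hF, e⟩ := key D hD k₁ k₂
  obtain ⟨F', hF', e'⟩ := key (B \ D) diff_subset
    (by rw [hc B₁ (by rw [hB]; exact subset_union_left)]; exact k₁.compl)
    (by rw [hc B₂ (by rw [hB]; exact subset_union_right)]; exact k₂.compl)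
  exact RC.of_closed hF hF' e e'

end K990.CohProp
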