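import Groth.Agent.CohProp.K990.Adm
import Groth.Agent.CohProp.K990.RelClopen
import Mathlib.AlgebraicGeometry.Morphisms.Immersion
import Mathlib.AlgebraicGeometry.Noetherian

/-!
# Relative clopen subsets in tests: dévissage
-/

set_option autoImplicit false
set_option linter.unusedSectionVars false
set_option linter.unusedVariables false
set_option backward.isDefEq.respectTransparency.types false
universe u

open CategoryTheory CategoryTheory.Limits AlgebraicGeometry Opposite IsLocalRing TopologicalSpace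

namespace K990.CohProp

variable {X Y S : Scheme.{u}}

/-- Relatively clopen subsets of the inverse image of `C` are detected by tests. -/
def QInj (q : Y ⟶ S) (P : Set S) (f : X ⟶ Y) (C : Set X) : Prop :=
  ∀ ⦃XA XA' : Scheme.{u}⦄ (x : XA ⟶ X) (a : XA' ⟶ XA), IsTest q P f x a →
    ∀ D : Set XA, RC (x ⁻¹' C) D → (∀ y : XA', x (a y) ∈ C → a y ∈ D) → x ⁻¹' C ⊆ D

/-- Relatively clopen subsets of the inverse image of `C` descend in tests. -/
def QSurj (q : Y ⟶ S) (P : Set S) (f : X ⟶ Y) (C : Set X) : Prop :=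
  ∀ ⦃XA XA' : Scheme.{u}⦄ (x : XA ⟶ X) (a : XA' ⟶ XA), IsTest q P f x a →
    ∀ D' : Set XA', RC (a ⁻¹' (x ⁻¹' C)) D' → ∃ D : Set XA, RC (x ⁻¹' C) D ∧ a ⁻¹' D = D'

variable {q : Y ⟶ S} {P P' : Set S} {f : X ⟶ Y} {C C₁ C₂ : Set X}

theorem QInj.mono (h : QInj q P' f C) (hP : P ⊆ P') : QInj q P f C :=
  fun _ _ x a hx => h x a (hx.mono hP)

theorem QSurj.mono (h : QSurj q P' f C) (hP : P ⊆ P') : QSurj q P f C :=
  fun _ _ x a hx => h x a (hx.mono hP)

theorem IsTest.mem {XA XA' : Scheme.{u}} {x : XA ⟶ X} {a : XA' ⟶ XA} (h : IsTest q P f x a) (z : XA) :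
    q (f (x z)) ∈ P := by
  obtain ⟨A, A', i1, i2, i3, i4, i5, i6, φ, hφ, σ, xA, xA', h3, h4, h5, h6⟩ := h
  rw [← Scheme.Hom.comp_apply x, h5.w, Scheme.Hom.comp_apply]
  exact h3.range_subset ⟨_, rfl⟩

theorem QInj.eq (h : QInj q P f C) {XA XA' : Scheme.{u}} {x : XA ⟶ X} {a : XA' ⟶ XA}
    (hx : IsTest q P f x a) {D E : Set XA} (hD : RC (x ⁻¹' C) D) (hE : RC (x ⁻¹' C) E)
    (e : a ⁻¹' D = a ⁻¹' E) : D = E := by
  have h1 := (hD.inter hE).union (hD.compl.inter hE.compl)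
  have h2 := h x a hx _ h1 (by
    intro y hy
    have he : a y ∈ D ↔ a y ∈ E := by
      change y ∈ a ⁻¹' D ↔ y ∈ a ⁻¹' E
      rw [e]
    by_cases hyD : a y ∈ D
    · exact Or.inl ⟨hyD, he.1 hyD⟩
    · exact Or.inr ⟨⟨hy, hyD⟩, ⟨hy, fun h => hyD (he.2 h)⟩⟩)
  ext z
  constructor
  · intro hz
    rcases h2 (hD.subset hz) with h3 | h3
    · exact h3.2
    · exact absurd hz h3.1.2
  · intro hz
    rcases h2 (hE.subset hz) with h3 | h3
    · exact h3.1
    · exact absurd hz h3.2.2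

theorem QInj.union (h₁ : QInj q P f C₁) (h₂ : QInj q P f C₂) : QInj q P f (C₁ ∪ C₂) := by
  intro XA XA' x a hx D hD hy z hz
  rcases hz with hz | hz
  · exact (h₁ x a hx _ (hD.restrict (B' := x ⁻¹' C₁) (fun _ h => Or.inl h))
      (fun y hy' => ⟨hy y (Or.inl hy'), hy'⟩) hz).1
  · exact (h₂ x a hx _ (hD.restrict (B' := x ⁻¹' C₂) (fun _ h => Or.inr h))
      (fun y hy' => ⟨hy y (Or.inr hy'), hy'⟩) hz).1

theorem QInj.of_disjoint (h : ∀ c ∈ C, q (f c) ∉ P) : QInj q P f C := by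
  intro XA XA' x a hx D hD hy z hz
  exact absurd (hx.mem z) (h _ hz)

theorem QSurj.of_disjoint (h : ∀ c ∈ C, q (f c) ∉ P) : QSurj q P f C := by
  intro XA XA' x a hx D' hD'
  have h1 : x ⁻¹' C = ∅ := by
    ext z
    simp only [Set.mem_preimage, Set.mem_empty_iff_false, iff_false]
    exact fun hz => absurd (hx.mem z) (h _ hz)
  refine ⟨∅, ?_, ?_⟩
  · rw [h1]
    exact ⟨⟨∅, isOpen_empty, by simp⟩, ⟨∅, isOpen_empty, by simp⟩⟩
  · have h2 := hD'.subset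
    rw [h1, Set.preimage_empty] at h2
    rw [Set.preimage_empty]
    exact (Set.subset_empty_iff.1 h2).symm

/-- Gluing along coverings. -/
theorem QSurj.union_open (h₁ : QSurj q P f C₁) (h₂ : QSurj q P f C₂) (h₁₂ : QInj q P f (C₁ ∩ C₂))
    (k₁ : RO (C₁ ∪ C₂) C₁) (k₂ : RO (C₁ ∪ C₂) C₂) : QSurj q P f (C₁ ∪ C₂) := by
  intro XA XA' x a hx D' hD'
  obtain ⟨D₁, hD₁, e₁⟩ := h₁ x a hx _ (hD'.restrict (B' := a ⁻¹' (x ⁻¹' C₁)) fun _ h => Or.inl h)
  obtain ⟨D₂, hD₂, e₂⟩ := h₂ x a hx _ (hD'.restrict (B' := a ⁻¹' (x ⁻¹' C₂)) fun _ h => Or.inr h)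
  have e := h₁₂.eq hx (hD₁.restrict (B' := x ⁻¹' (C₁ ∩ C₂)) fun _ h => h.1)
    (hD₂.restrict (B' := x ⁻¹' (C₁ ∩ C₂)) fun _ h => h.2) (by
      change a ⁻¹' D₁ ∩ a ⁻¹' (x ⁻¹' (C₁ ∩ C₂)) = a ⁻¹' D₂ ∩ a ⁻¹' (x ⁻¹' (C₁ ∩ C₂))
      rw [e₁, e₂]
      ext y
      constructor
      · rintro ⟨⟨h1, h2⟩, h3⟩; exact ⟨⟨h1, h3.2⟩, h3⟩
      · rintro ⟨⟨h1, h2⟩, h3⟩; exact ⟨⟨h1, h3.1⟩, h3⟩)
  have g₁ : (D₁ ∪ D₂) ∩ x ⁻¹' C₁ = D₁ := by
    ext z
    constructor
    · rintro ⟨h | h, h'⟩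
      · exact h
      · have : z ∈ D₂ ∩ x ⁻¹' (C₁ ∩ C₂) := ⟨h, h', hD₂.subset h⟩
        rw [← e] at this
        exact this.1
    · exact fun h => ⟨Or.inl h, hD₁.subset h⟩
  have g₂ : (D₁ ∪ D₂) ∩ x ⁻¹' C₂ = D₂ := by
    ext z
    constructor
    · rintro ⟨h | h, h'⟩
      · have : z ∈ D₁ ∩ x ⁻¹' (C₁ ∩ C₂) := ⟨h, hD₁.subset h, h'⟩
        rw [e] at this
        exact this.1
      · exact h
    · exact fun h => ⟨Or.inr h, hD₂.subset h⟩
  refine ⟨D₁ ∪ D₂, ?_, ?_⟩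
  · refine RC.glue_open (B₁ := x ⁻¹' C₁) (B₂ := x ⁻¹' C₂) rfl ?_ (k₁.preimage x.continuous)
      (k₂.preimage x.continuous) ?_ ?_
    · rintro z (h | h)
      · exact Or.inl (hD₁.subset h)
      · exact Or.inr (hD₂.subset h)
    · rw [g₁]; exact hD₁
    · rw [g₂]; exact hD₂
  · rw [Set.preimage_union, e₁, e₂]
    ext y
    constructor
    · rintro (h | h) <;> exact h.1
    · intro h
      rcases hD'.subset h with h' | h'
      · exact Or.inl ⟨h, h'⟩
      · exact Or.inr ⟨h, h'⟩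

theorem QSurj.union_closed (h₁ : QSurj q P f C₁) (h₂ : QSurj q P f C₂) (h₁₂ : QInj q P f (C₁ ∩ C₂))
    {F₁ F₂ : Set X} (hF₁ : IsClosed F₁) (hF₂ : IsClosed F₂)
    (k₁ : C₁ = F₁ ∩ (C₁ ∪ C₂)) (k₂ : C₂ = F₂ ∩ (C₁ ∪ C₂)) : QSurj q P f (C₁ ∪ C₂) := by
  intro XA XA' x a hx D' hD'
  obtain ⟨D₁, hD₁, e₁⟩ := h₁ x a hx _ (hD'.restrict (B' := a ⁻¹' (x ⁻¹' C₁)) fun _ h => Or.inl h)
  obtain ⟨D₂, hD₂, e₂⟩ := h₂ x a hx _ (hD'.restrict (B' := a ⁻¹' (x ⁻¹' C₂)) fun _ h => Or.inr h)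
  have e := h₁₂.eq hx (hD₁.restrict (B' := x ⁻¹' (C₁ ∩ C₂)) fun _ h => h.1)
    (hD₂.restrict (B' := x ⁻¹' (C₁ ∩ C₂)) fun _ h => h.2) (by
      change a ⁻¹' D₁ ∩ a ⁻¹' (x ⁻¹' (C₁ ∩ C₂)) = a ⁻¹' D₂ ∩ a ⁻¹' (x ⁻¹' (C₁ ∩ C₂))
      rw [e₁, e₂]
      ext y
      constructor
      · rintro ⟨⟨h1, h2⟩, h3⟩; exact ⟨⟨h1, h3.2⟩, h3⟩
      · rintro ⟨⟨h1, h2⟩, h3⟩; exact ⟨⟨h1, h3.1⟩, h3⟩)
  have g₁ : (D₁ ∪ D₂) ∩ x ⁻¹' C₁ = D₁ := by
    ext z
    constructor
    · rintro ⟨h | h, h'⟩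
      · exact h
      · have : z ∈ D₂ ∩ x ⁻¹' (C₁ ∩ C₂) := ⟨h, h', hD₂.subset h⟩
        rw [← e] at this
        exact this.1
    · exact fun h => ⟨Or.inl h, hD₁.subset h⟩
  have g₂ : (D₁ ∪ D₂) ∩ x ⁻¹' C₂ = D₂ := by
    ext z
    constructor
    · rintro ⟨h | h, h'⟩
      · have : z ∈ D₁ ∩ x ⁻¹' (C₁ ∩ C₂) := ⟨h, hD₁.subset h, h'⟩
        rw [e] at this
        exact this.1
      · exact h
    · exact fun h => ⟨Or.inr h, hD₂.subset h⟩
  refine ⟨D₁ ∪ D₂, ?_, ?_⟩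
  · refine RC.glue_closed (B₁ := x ⁻¹' C₁) (B₂ := x ⁻¹' C₂) rfl ?_ (hF₁.preimage x.continuous)
      (hF₂.preimage x.continuous) ?_ ?_ ?_ ?_
    · rintro z (h | h)
      · exact Or.inl (hD₁.subset h)
      · exact Or.inr (hD₂.subset h)
    · change x ⁻¹' C₁ = x ⁻¹' (F₁ ∩ (C₁ ∪ C₂))
      rw [← k₁]
    · change x ⁻¹' C₂ = x ⁻¹' (F₂ ∩ (C₁ ∪ C₂))
      rw [← k₂]
    · rw [g₁]; exact hD₁
    · rw [g₂]; exact hD₂
  · rw [Set.preimage_union, e₁, e₂]
    ext y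
    constructor
    · rintro (h | h) <;> exact h.1
    · intro h
      rcases hD'.subset h with h' | h'
      · exact Or.inl ⟨h, h'⟩
      · exact Or.inr ⟨h, h'⟩

theorem QInj.univ_clInjOn (h : QInj q P f Set.univ) : ClInjOn q P f := by
  intro XA XA' x a hx D hD e
  refine Set.eq_univ_of_univ_subset (h x a hx D (RC_univ.2 hD) fun y _ => ?_)
  have : y ∈ a ⁻¹' D := by rw [e]; trivial
  exact this

theorem clBijOn_of_univ (h : QInj q P f Set.univ) (h' : QSurj q P f Set.univ) : ClBijOn q P f := by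
  intro XA XA' x a hx
  refine ⟨h.univ_clInjOn x a hx, fun D' hD' => ?_⟩
  obtain ⟨D, hD, e⟩ := h' x a hx D' (RC_univ.2 hD')
  exact ⟨D, RC_univ.1 hD, e⟩

/-- Coverings detect. -/
theorem QInj.of_cover {W : Scheme.{u}} {r : W ⟶ X} (H : ClInjOn q P (r ≫ f)) (h1 : Set.range r ⊆ C)
    (h2 : ∀ c ∈ C, q (f c) ∈ P → c ∈ Set.range r) : QInj q P f C := by
  intro XA XA' x a hx D hD hy z hz
  have hW : IsPullback (pullback.fst r x) (pullback.snd r x) r x := IsPullback.of_hasPullback _ _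
  have hW' : IsPullback (pullback.fst (pullback.snd r x) a) (pullback.snd (pullback.snd r x) a)
    (pullback.snd r x) a := IsPullback.of_hasPullback _ _
  have hT := hx.pullback hW hW'
  have hpre : (pullback.snd r x) ⁻¹' (x ⁻¹' C) = Set.univ := by
    ext w
    simp only [Set.mem_preimage, Set.mem_univ, iff_true]
    apply h1
    rw [← Scheme.Hom.comp_apply, ← hW.w, Scheme.Hom.comp_apply]
    exact ⟨_, rfl⟩
  have hD1 : IsClopen ((pullback.snd r x) ⁻¹' D) := by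
    rw [← RC_univ, ← hpre]
    exact hD.preimage (pullback.snd r x).continuous
  have h3 := H _ _ hT _ hD1 (by
    ext y
    simp only [Set.mem_preimage, Set.mem_univ, iff_true]
    have e : (pullback.snd r x) ((pullback.fst (pullback.snd r x) a) y) =
        a ((pullback.snd (pullback.snd r x) a) y) := by
      rw [← Scheme.Hom.comp_apply, hW'.w, Scheme.Hom.comp_apply]
    rw [e]
    apply hy
    rw [← e]
    have : (pullback.fst (pullback.snd r x) a) y ∈ (pullback.snd r x) ⁻¹' (x ⁻¹' C) := by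
      rw [hpre]; trivial
    exact this)
  obtain ⟨w, hw⟩ := h2 (x z) hz (hx.mem z)
  obtain ⟨w', -, hw'⟩ := exists_preimage_of_isPullback hW w z hw
  have : w' ∈ (pullback.snd r x) ⁻¹' D := by rw [h3]; trivial
  rw [← hw']
  exact this

/-- Descent along finite surjective morphisms. -/
theorem QSurj.of_finite {W Z : Scheme.{u}} {j : Z ⟶ X} [IsImmersion j] {r₀ : W ⟶ Z} [IsFinite r₀]
    [Surjective r₀] (h1 : Set.range j ⊆ C) (h2 : ∀ c ∈ C, q (f c) ∈ P → c ∈ Set.range j)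
    (H : ClBijOn q P ((r₀ ≫ j) ≫ f))
    (H' : ClInjOn q P (pullback.fst (r₀ ≫ j) (r₀ ≫ j) ≫ (r₀ ≫ j) ≫ f)) : QSurj q P f C := by
  intro XA XA' x a hx D' hD'
  let r : W ⟶ X := r₀ ≫ j
  have hWA : IsPullback (pullback.fst r x) (pullback.snd r x) r x := IsPullback.of_hasPullback _ _
  let w : pullback r x ⟶ W := pullback.fst r x
  let rA : pullback r x ⟶ XA := pullback.snd r x
  have hWA' : IsPullback (pullback.fst rA a) (pullback.snd rA a) rA a := IsPullback.of_hasPullback _ _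
  let b : pullback rA a ⟶ pullback r x := pullback.fst rA a
  let rA' : pullback rA a ⟶ XA' := pullback.snd rA a
  have hT : IsTest q P (r ≫ f) w b := hx.pullback hWA hWA'
  -- the factorization through `Z`
  have hZA : IsPullback (pullback.fst j x) (pullback.snd j x) j x := IsPullback.of_hasPullback _ _
  let jA : pullback j x ⟶ XA := pullback.snd j x
  let kA : pullback r x ⟶ pullback j x := hZA.lift (w ≫ r₀) rA (by
    rw [Category.assoc]; exact hWA.w)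
  have hkA1 : kA ≫ pullback.fst j x = w ≫ r₀ := hZA.lift_fst _ _ _
  have hkA2 : kA ≫ jA = rA := hZA.lift_snd _ _ _
  have hkA : IsPullback w kA r₀ (pullback.fst j x) := by
    refine IsPullback.of_bot (v₂₁ := jA) (v₂₂ := j) (h₃₁ := x) ?_ hkA1.symm hZA
    rw [hkA2]
    exact hWA
  have i1 : IsFinite kA := MorphismProperty.of_isPullback (P := @IsFinite) hkA inferInstance
  have i2 : Surjective kA := MorphismProperty.of_isPullback (P := @Surjective) hkA inferInstance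
  have i3 : IsImmersion jA := inferInstance
  have hjA : Set.range jA = x ⁻¹' C := by
    ext z
    constructor
    · rintro ⟨z, rfl⟩
      apply h1
      refine ⟨pullback.fst j x z, ?_⟩
      rw [← Scheme.Hom.comp_apply, hZA.w, Scheme.Hom.comp_apply]
    · intro hz
      obtain ⟨y, hy⟩ := h2 (x z) hz (hx.mem z)
      obtain ⟨y', -, hy'⟩ := exists_preimage_of_isPullback hZA y z hy
      exact ⟨y', hy'⟩
  have hrA : ∀ z : XA, x z ∈ C → ∃ w₁, rA w₁ = z := by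
    intro z hz
    have : z ∈ Set.range jA := by rw [hjA]; exact hz
    obtain ⟨y, rfl⟩ := this
    obtain ⟨w₁, rfl⟩ := kA.surjective y
    exact ⟨w₁, by rw [← hkA2]; rfl⟩
  have hrA' : ∀ w₁, x (rA w₁) ∈ C := by
    intro w₁
    have : rA w₁ ∈ Set.range jA := ⟨kA w₁, by rw [← hkA2]; rfl⟩
    rw [hjA] at this
    exact this
  have hbr : ∀ y, rA (b y) = a (rA' y) := by
    intro y
    rw [← Scheme.Hom.comp_apply, hWA'.w, Scheme.Hom.comp_apply]
  -- lift to `W`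
  have hD1 : IsClopen (rA' ⁻¹' D') := by
    rw [← RC_univ]
    have : rA' ⁻¹' (a ⁻¹' (x ⁻¹' C)) = Set.univ := by
      ext y
      simp only [Set.mem_preimage, Set.mem_univ, iff_true]
      rw [← hbr]
      exact hrA' _
    rw [← this]
    exact hD'.preimage rA'.continuous
  obtain ⟨DW, hDW, eDW⟩ := (H w b hT).2 _ hD1
  have hDWiff : ∀ y, b y ∈ DW ↔ rA' y ∈ D' := by
    intro y
    change y ∈ b ⁻¹' DW ↔ y ∈ rA' ⁻¹' D'
    rw [eDW]
  -- descent datum
  have key : ∀ w₁ w₂, rA w₁ = rA w₂ → w₁ ∈ DW → w₂ ∈ DW := by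
    have hR : IsPullback (pullback.fst r r) (pullback.snd r r) r r := IsPullback.of_hasPullback _ _
    have hRA : IsPullback (pullback.fst rA rA) (pullback.snd rA rA) rA rA := IsPullback.of_hasPullback _ _
    have hpaste : IsPullback (pullback.snd rA rA ≫ w) (pullback.fst rA rA) r (rA ≫ x) :=
      (hRA.flip.paste_horiz hWA)
    let ρ : pullback rA rA ⟶ pullback r r := hR.lift (pullback.fst rA rA ≫ w) (pullback.snd rA rA ≫ w)
      (by rw [Category.assoc, hWA.w, Category.assoc, hWA.w, ← Category.assoc, hRA.w, Category.assoc])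
    have hρ1 : ρ ≫ pullback.fst r r = pullback.fst rA rA ≫ w := hR.lift_fst _ _ _
    have hρ2 : ρ ≫ pullback.snd r r = pullback.snd rA rA ≫ w := hR.lift_snd _ _ _
    have hρ : IsPullback ρ (pullback.fst rA rA) (pullback.fst r r) w := by
      refine IsPullback.of_right (h₁₂ := pullback.snd r r) (v₁₃ := r) (h₂₂ := r) ?_ hρ1 hR.flip
      rw [hρ2, hWA.w]
      exact hpaste
    have hRA' : IsPullback (pullback.fst (pullback.fst rA rA) b) (pullback.snd (pullback.fst rA rA) b)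
      (pullback.fst rA rA) b := IsPullback.of_hasPullback _ _
    let c := pullback.fst (pullback.fst rA rA) b
    let d := pullback.snd (pullback.fst rA rA) b
    have hTR : IsTest q P (pullback.fst r r ≫ (r ≫ f)) ρ c := hT.pullback hρ hRA'
    have hcinj := H' ρ c hTR
    let d₂ : pullback (pullback.fst rA rA) b ⟶ pullback rA a :=
      hWA'.lift (c ≫ pullback.snd rA rA) (d ≫ rA') (by
        rw [Category.assoc, ← hRA.w, ← Category.assoc, hRA'.w, Category.assoc, Category.assoc, hWA'.w])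
    have hd₂1 : d₂ ≫ b = c ≫ pullback.snd rA rA := hWA'.lift_fst _ _ _
    have hd₂2 : d₂ ≫ rA' = d ≫ rA' := hWA'.lift_snd _ _ _
    have hE := hcinj.eq (hDW.preimage (pullback.fst rA rA).continuous)
      (hDW.preimage (pullback.snd rA rA).continuous) (by
        ext y
        simp only [Set.mem_preimage]
        have e1 : (pullback.fst rA rA) (c y) = b (d y) := by
          rw [← Scheme.Hom.comp_apply, hRA'.w, Scheme.Hom.comp_apply]
        have e2 : (pullback.snd rA rA) (c y) = b (d₂ y) := by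
          rw [← Scheme.Hom.comp_apply, ← hd₂1, Scheme.Hom.comp_apply]
        rw [e1, e2, hDWiff, hDWiff, ← Scheme.Hom.comp_apply, ← Scheme.Hom.comp_apply, hd₂2])
    intro w₁ w₂ hw hw₁
    obtain ⟨v, hv₁, hv₂⟩ := exists_preimage_of_isPullback hRA w₁ w₂ hw
    have h3 : v ∈ (pullback.fst rA rA) ⁻¹' DW := by
      change (pullback.fst rA rA) v ∈ DW
      rw [hv₁]; exact hw₁
    rw [hE] at h3
    change (pullback.snd rA rA) v ∈ DW at h3
    rw [hv₂] at h3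
    exact h3
  have hclosed : ∀ G : Set ↥(pullback r x), IsClosed G → ∃ F : Set XA, IsClosed F ∧ rA '' G = F ∩ x ⁻¹' C := by
    intro G hG
    have h3 : IsClosed (kA '' G) := kA.isClosedMap _ hG
    obtain ⟨F, hF, hFG⟩ := (Scheme.Hom.isEmbedding jA).isInducing.isClosed_iff.1 h3
    refine ⟨F, hF, ?_⟩
    rw [← hkA2, ← hjA, ← Set.image_preimage_eq_inter_range, hFG]
    ext z
    simp only [Set.mem_image, Scheme.Hom.comp_apply]
    constructor
    · rintro ⟨y, hy, rfl⟩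
      exact ⟨_, ⟨y, hy, rfl⟩, rfl⟩
    · rintro ⟨_, ⟨y, hy, rfl⟩, rfl⟩
      exact ⟨y, hy, rfl⟩
  have hcompl : x ⁻¹' C \ rA '' DW = rA '' DWᶜ := by
    ext z
    constructor
    · rintro ⟨hz, hz'⟩
      obtain ⟨w₁, rfl⟩ := hrA z hz
      exact ⟨w₁, fun h => hz' ⟨w₁, h, rfl⟩, rfl⟩
    · rintro ⟨w₁, hw₁, rfl⟩
      refine ⟨hrA' w₁, ?_⟩
      rintro ⟨w₂, hw₂, e⟩
      exact hw₁ (key w₂ w₁ e hw₂)
  refine ⟨rA '' DW, ?_, ?_⟩
  · obtain ⟨F, hF, e⟩ := hclosed DW hDW.1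
    obtain ⟨F', hF', e'⟩ := hclosed DWᶜ hDW.compl.1
    exact RC.of_closed hF hF' e (hcompl.trans e')
  · ext y
    constructor
    · rintro ⟨w₁, hw₁, e⟩
      obtain ⟨y₁, hy₁, rfl⟩ := exists_preimage_of_isPullback hWA' w₁ y e
      exact (hDWiff y₁).1 (by change (pullback.fst rA a) y₁ ∈ DW; rw [hy₁]; exact hw₁)
    · intro hy
      obtain ⟨w₁, hw₁⟩ := hrA (a y) (hD'.subset hy)
      obtain ⟨y₁, hy₁, hy₁'⟩ := exists_preimage_of_isPullback hWA' w₁ y hw₁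
      refine ⟨w₁, ?_, hw₁⟩
      have h3 : rA' y₁ ∈ D' := by
        change (pullback.snd rA a) y₁ ∈ D'
        rw [hy₁']; exact hy
      have h4 := (hDWiff y₁).2 h3
      change (pullback.fst rA a) y₁ ∈ DW at h4
      rw [hy₁] at h4
      exact h4

end K990.CohProp
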