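import Mathlib.Topology.LocallyConstant.Basic
import Mathlib.Topology.Connected.Clopen

/-!
# Maps inducing bijections on clopen subsets
-/

set_option autoImplicit false
set_option linter.unusedSectionVars false
set_option linter.unusedVariables false

namespace K990.CohProp

variable {α β γ : Type*} [TopologicalSpace α] [TopologicalSpace β] [TopologicalSpace γ]

/-- A clopen subset whose inverse image is everything is everything. -/
def ClInj (f : α → β) : Prop :=
  ∀ D : Set β, IsClopen D → f ⁻¹' D = Set.univ → D = Set.univ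

/-- Every clopen subset is an inverse image of a clopen subset. -/
def ClSurj (f : α → β) : Prop := ∀ D : Set α, IsClopen D → ∃ E : Set β, IsClopen E ∧ f ⁻¹' E = D

/-- The inverse image map is a bijection between clopen subsets. -/
def ClBij (f : α → β) : Prop := ClInj f ∧ ClSurj f

theorem ClInj.eq {f : α → β} (h : ClInj f) {D E : Set β} (hD : IsClopen D) (hE : IsClopen E)
    (e : f ⁻¹' D = f ⁻¹' E) : D = E := by
  have h1 : IsClopen ((D ∩ E) ∪ (Dᶜ ∩ Eᶜ)) := (hD.inter hE).union (hD.compl.inter hE.compl)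
  have h2 := h _ h1 (by
    ext x
    have hx : x ∈ f ⁻¹' D ↔ x ∈ f ⁻¹' E := by rw [e]
    simp only [Set.mem_preimage] at hx
    simp only [Set.mem_preimage, Set.mem_union, Set.mem_inter_iff, Set.mem_compl_iff, Set.mem_univ,
      iff_true]
    by_cases h : f x ∈ D
    · exact Or.inl ⟨h, hx.1 h⟩
    · exact Or.inr ⟨h, fun h' => h (hx.2 h')⟩)
  ext x
  have hx : x ∈ (D ∩ E) ∪ (Dᶜ ∩ Eᶜ) := by rw [h2]; trivial
  rcases hx with ⟨h3, h4⟩ | ⟨h3, h4⟩
  · exact ⟨fun _ => h4, fun _ => h3⟩
  · exact ⟨fun h => absurd h h3, fun h => absurd h h4⟩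

theorem ClInj.comp {f : α → β} {g : β → γ} (hf : ClInj f) (hg : ClInj g) (hgc : Continuous g) :
    ClInj (g ∘ f) := fun D hD h => hg D hD (hf _ (hD.preimage hgc) h)

theorem ClSurj.comp {f : α → β} {g : β → γ} (hf : ClSurj f) (hg : ClSurj g) : ClSurj (g ∘ f) := by
  intro D hD
  obtain ⟨E, hE, rfl⟩ := hf D hD
  obtain ⟨G, hG, rfl⟩ := hg E hE
  exact ⟨G, hG, rfl⟩

theorem ClBij.comp {f : α → β} {g : β → γ} (hf : ClBij f) (hg : ClBij g) (hgc : Continuous g) :
    ClBij (g ∘ f) := ⟨hf.1.comp hg.1 hgc, hf.2.comp hg.2⟩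

theorem ClInj.of_comp {f : α → β} {g : β → γ} (h : ClInj (g ∘ f)) : ClInj g := by
  intro D hD e
  apply h D hD
  rw [Set.preimage_comp, e, Set.preimage_univ]

theorem ClSurj.of_comp {f : α → β} {g : β → γ} (h : ClSurj (g ∘ f)) (hgc : Continuous g) :
    ClSurj f := by
  intro D hD
  obtain ⟨E, hE, e⟩ := h D hD
  exact ⟨g ⁻¹' E, hE.preimage hgc, e⟩

/-- cancellation on the left -/
theorem ClBij.of_comp_left {f : α → β} {g : β → γ} (hg : ClBij g) (h : ClBij (g ∘ f))
    (hgc : Continuous g) : ClBij f := by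
  refine ⟨?_, h.2.of_comp hgc⟩
  intro D hD e
  obtain ⟨E, hE, rfl⟩ := hg.2 D hD
  have := h.1 E hE e
  rw [this, Set.preimage_univ]

/-- cancellation on the right -/
theorem ClBij.of_comp_right {f : α → β} {g : β → γ} (hf : ClBij f) (h : ClBij (g ∘ f))
    (hfc : Continuous f) (hgc : Continuous g) : ClBij g := by
  refine ⟨h.1.of_comp, ?_⟩
  intro D hD
  obtain ⟨E, hE, e⟩ := h.2 _ (hD.preimage hfc)
  exact ⟨E, hE, hf.1.eq (hE.preimage hgc) hD e⟩

theorem ClBij.of_homeo (e : α ≃ₜ β) : ClBij e := by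
  refine ⟨?_, fun D hD => ⟨e.symm ⁻¹' D, hD.preimage e.symm.continuous, ?_⟩⟩
  · intro D _ h
    ext x
    simp only [Set.mem_univ, iff_true]
    have : e.symm x ∈ e ⁻¹' D := by rw [h]; trivial
    simpa using this
  · ext x
    simp

theorem ClInj.of_surjective {f : α → β} (hf : Function.Surjective f) : ClInj f := by
  intro D _ h
  ext x
  simp only [Set.mem_univ, iff_true]
  obtain ⟨y, rfl⟩ := hf x
  have : y ∈ f ⁻¹' D := by rw [h]; trivial
  exact this

theorem ClInj.of_dense {f : α → β} (hf : DenseRange f) : ClInj f := by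
  intro D hD h
  rw [← hD.1.closure_eq]
  refine Set.eq_univ_of_univ_subset ?_
  rw [← hf.closure_range]
  refine closure_mono ?_
  rintro _ ⟨x, rfl⟩
  have : x ∈ f ⁻¹' D := by rw [h]; trivial
  exact this

/-- Quotient maps with connected fibres. -/
theorem ClBij.of_connected_fibres {f : α → β} (hf : Topology.IsQuotientMap f)
    (hc : ∀ y, IsPreconnected (f ⁻¹' {y})) : ClBij f := by
  refine ⟨ClInj.of_surjective hf.surjective, fun D hD => ?_⟩
  have key : f ⁻¹' (f '' D) = D := by
    apply Set.Subset.antisymm _ (Set.subset_preimage_image f D)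
    rintro x ⟨y, hy, hyx⟩
    have h1 := (hc (f x)).subset_isClopen hD ⟨y, by simpa using hyx, hy⟩
    exact h1 rfl
  refine ⟨f '' D, ⟨?_, ?_⟩, key⟩
  · rw [← hf.isClosed_preimage, key]
    exact hD.1
  · rw [← hf.isOpen_preimage, key]
    exact hD.2

section LC

variable {I : Type*}

theorem isClopen_fiber (c : LocallyConstant α I) (i : I) : IsClopen (c ⁻¹' {i}) :=
  c.isLocallyConstant.isClopen_fiber i

theorem ClInj.lc_eq {f : α → β} (hf : ClInj f) (c c' : LocallyConstant β I)
    (h : ∀ x, c (f x) = c' (f x)) : c = c' := by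
  have h1 : IsClopen {y | c y = c' y} := by
    constructor
    · rw [← isOpen_compl_iff, isOpen_iff_forall_mem_open]
      intro y hy
      refine ⟨c ⁻¹' {c y} ∩ c' ⁻¹' {c' y}, ?_, (isClopen_fiber c _).2.inter (isClopen_fiber c' _).2,
        ⟨rfl, rfl⟩⟩
      rintro z ⟨hz, hz'⟩ e
      have e' : c z = c' z := e
      rw [hz, hz'] at e'
      exact hy e'
    · rw [isOpen_iff_forall_mem_open]
      intro y hy
      refine ⟨c ⁻¹' {c y} ∩ c' ⁻¹' {c' y}, ?_, (isClopen_fiber c _).2.inter (isClopen_fiber c' _).2,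
        ⟨rfl, rfl⟩⟩
      rintro z ⟨hz, hz'⟩
      change c z = c' z
      rw [hz, hz']
      exact hy
  have h2 := hf _ h1 (by
    ext x
    simp only [Set.mem_preimage, Set.mem_univ, iff_true]
    exact h x)
  ext y
  have : y ∈ {y | c y = c' y} := by rw [h2]; trivial
  exact this

/-- Locally constant functions with finite values descend along `ClBij` maps. -/
theorem ClBij.exists_lc [Finite I] {f : α → β} (hf : ClBij f) (hfc : Continuous f)
    (c : LocallyConstant α I) :
    ∃ c' : LocallyConstant β I, ∀ x, c' (f x) = c x := by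
  classical
  choose E hE he using fun i => hf.2 _ (isClopen_fiber c i)
  have hmem : ∀ i x, f x ∈ E i ↔ c x = i := by
    intro i x
    have : x ∈ f ⁻¹' E i ↔ x ∈ c ⁻¹' {i} := by rw [he]
    exact this
  have hcov : ∀ y, ∃ i, y ∈ E i := by
    have h1 : (⋃ i, E i) = Set.univ := by
      apply hf.1 _ (isClopen_iUnion_of_finite hE)
      ext x
      simp only [Set.preimage_iUnion, Set.mem_iUnion, Set.mem_univ, iff_true]
      exact ⟨c x, (hmem _ _).2 rfl⟩
    intro y
    have : y ∈ ⋃ i, E i := by rw [h1]; trivial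
    exact Set.mem_iUnion.1 this
  have hdisj : ∀ i j y, y ∈ E i → y ∈ E j → i = j := by
    intro i j y hi hj
    by_contra hij
    have h1 : (E i ∩ E j)ᶜ = Set.univ := by
      apply hf.1 _ ((hE i).inter (hE j)).compl
      ext x
      simp only [Set.mem_preimage, Set.mem_compl_iff, Set.mem_inter_iff, Set.mem_univ, iff_true]
      rintro ⟨h1, h2⟩
      exact hij (((hmem i x).1 h1).symm.trans ((hmem j x).1 h2))
    have : y ∈ (E i ∩ E j)ᶜ := by rw [h1]; trivial
    exact this ⟨hi, hj⟩
  choose k hk using hcov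
  refine ⟨⟨k, ?_⟩, fun x => ((hmem _ x).1 (hk (f x))).symm⟩
  rw [IsLocallyConstant.iff_exists_open]
  intro y
  exact ⟨E (k y), (hE _).2, hk y, fun z hz => hdisj _ _ z (hk z) hz⟩

end LC

end K990.CohProp
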