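import Groth.Agent.CohProp.K990.ClTop
import Groth.Agent.EtpbcB.Psi
import Groth.Agent.Etbc.H192.ZeroAcyc
import Groth.Agent.Etbc.H199.StrictFib
import Groth.Agent.Lefpen.H590.Contr
import Groth.Agent.S14401
import Mathlib.AlgebraicGeometry.AffineTransitionLimit

/-!
# Extension of clopen subsets across fibrewise dense opens

`exists_clopen_ext`: `f : U ⟶ T` flat, locally of finite presentation, with connected Milnor fibres, whose
fibres have domains as local rings; `V` a retrocompact open of `U` such that every point of `U` has a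
generization in its fibre lying in `V`. Then every clopen subset of `V` is the trace of a clopen subset of `U`.
-/

set_option autoImplicit false
set_option linter.unusedSectionVars false
set_option linter.unusedVariables false
set_option backward.isDefEq.respectTransparency.types false
universe u

open CategoryTheory CategoryTheory.Limits AlgebraicGeometry Opposite IsLocalRing TopologicalSpace

namespace K990.CohProp

open Groth.Agent.EtpbcB.StrictLoc Groth.Agent.EtpbcB.Psi Groth.Agent.EtpbcB.OshHens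
open Groth.Agent.Etbc.H192.ZeroAcyc (SepGeomConnected)
open Groth.Agent.Sga4A.EtStalk (exists_geomPoint)

section Top

variable {α : Type*} [TopologicalSpace α]

/-- Local criterion for extension of clopen subsets of a dense open. -/
theorem exists_clopen_of_local (V D : Set α) (hdense : Dense V) (hDV : D ⊆ V) (hDo : IsOpen D)
    (hDc : IsOpen (V \ D)) (h : ∀ x : α, ∃ N : Set α, IsOpen N ∧ x ∈ N ∧ (N ∩ V ⊆ D ∨ N ∩ V ⊆ V \ D)) :
    ∃ D' : Set α, IsClopen D' ∧ D' ∩ V = D := by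
  let A : Set α := {x | ∃ N : Set α, IsOpen N ∧ x ∈ N ∧ N ∩ V ⊆ D}
  let B : Set α := {x | ∃ N : Set α, IsOpen N ∧ x ∈ N ∧ N ∩ V ⊆ V \ D}
  have hA : IsOpen A := by
    rw [isOpen_iff_forall_mem_open]
    rintro x ⟨N, hN, hx, hND⟩
    exact ⟨N, fun y hy => ⟨N, hN, hy, hND⟩, hN, hx⟩
  have hB : IsOpen B := by
    rw [isOpen_iff_forall_mem_open]
    rintro x ⟨N, hN, hx, hND⟩
    exact ⟨N, fun y hy => ⟨N, hN, hy, hND⟩, hN, hx⟩
  have hAB : Aᶜ = B := by
    ext x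
    constructor
    · intro hx
      obtain ⟨N, hN, hxN, h1 | h1⟩ := h x
      · exact absurd ⟨N, hN, hxN, h1⟩ hx
      · exact ⟨N, hN, hxN, h1⟩
    · rintro ⟨N, hN, hxN, h1⟩ ⟨N', hN', hxN', h1'⟩
      obtain ⟨y, ⟨hy, hy'⟩, hyV⟩ := hdense.inter_open_nonempty _ (hN.inter hN') ⟨x, hxN, hxN'⟩
      exact (h1 ⟨hy, hyV⟩).2 (h1' ⟨hy', hyV⟩)
  refine ⟨A, ⟨?_, hA⟩, ?_⟩
  · rw [← isOpen_compl_iff, hAB]; exact hB
  · ext x
    constructor
    · rintro ⟨⟨N, hN, hx, hND⟩, hxV⟩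
      exact hND ⟨hx, hxV⟩
    · intro hx
      exact ⟨⟨D, hDo, hx, fun y hy => hy.1⟩, hDV hx⟩

/-- Connected subsets of a locally irreducible subspace `Φ` meet only one of two complementary pieces. -/
theorem mem_iff_of_preconnected (Φ V D C : Set α) (hDV : D ⊆ V) (hDo : IsOpen D)
    (hDc : IsOpen (V \ D)) (hV : IsOpen V)
    (hdense : ∀ x ∈ Φ, ∀ N : Set α, IsOpen N → x ∈ N → (N ∩ Φ ∩ V).Nonempty)
    (hirr : ∀ x ∈ Φ, ∃ N : Set α, IsOpen N ∧ x ∈ N ∧ IsPreirreducible (N ∩ Φ))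
    (hC : IsPreconnected C) (hCΦ : C ⊆ Φ) {y₁ y₂ : α} (h₁ : y₁ ∈ C) (h₁' : y₁ ∈ V) (h₂ : y₂ ∈ C)
    (h₂' : y₂ ∈ V) (h₁D : y₁ ∈ D) : y₂ ∈ D := by
  by_contra h₂D
  let A : Set α := ⋃₀ {N | IsOpen N ∧ N ∩ Φ ∩ V ⊆ D}
  let B : Set α := ⋃₀ {N | IsOpen N ∧ N ∩ Φ ∩ V ⊆ V \ D}
  have hA : IsOpen A := isOpen_sUnion fun N hN => hN.1
  have hB : IsOpen B := isOpen_sUnion fun N hN => hN.1
  obtain ⟨z, hzC, ⟨N, ⟨hN, hND⟩, hzN⟩, N', ⟨hN', hND'⟩, hzN'⟩ := hC A B hA hB (by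
    intro x hx
    obtain ⟨N, hN, hxN, hirr⟩ := hirr x (hCΦ hx)
    by_cases hD : (N ∩ Φ ∩ D).Nonempty
    · left
      refine ⟨N, ⟨hN, ?_⟩, hxN⟩
      intro y hy
      by_contra hyD
      obtain ⟨w, hw⟩ := hD
      obtain ⟨z, -, hz1, hz2⟩ := hirr D (V \ D) hDo hDc ⟨w, hw⟩ ⟨y, hy.1, hy.2, hyD⟩
      exact hz2.2 hz1
    · right
      refine ⟨N, ⟨hN, ?_⟩, hxN⟩
      intro y hy
      exact ⟨hy.2, fun hyD => hD ⟨y, hy.1, hyD⟩⟩)
    ⟨y₁, h₁, ⟨D, ⟨hDo, fun y hy => hy.1.1⟩, h₁D⟩⟩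
    ⟨y₂, h₂, ⟨V \ D, ⟨hDc, fun y hy => hy.1.1⟩, h₂', h₂D⟩⟩
  obtain ⟨w, ⟨⟨hw1, hw2⟩, hwΦ⟩, hwV⟩ := hdense z (hCΦ hzC) _ (hN.inter hN') ⟨hzN, hzN'⟩
  exact (hND' ⟨⟨hw2, hwΦ⟩, hwV⟩).2 (hND ⟨⟨hw1, hwΦ⟩, hwV⟩)

end Top

/-- Points of a locally Noetherian scheme with domains as local rings have irreducible open neighbourhoods. -/
theorem exists_irreducible_nbhd {Z : Scheme.{u}} [IsLocallyNoetherian Z]
    (h : ∀ z : Z, IsDomain (Z.presheaf.stalk z)) (z : Z) :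
    ∃ N : Set Z, IsOpen N ∧ z ∈ N ∧ IsPreirreducible N := by
  obtain ⟨O, hO, hzO, -⟩ := exists_isAffineOpen_mem_and_subset (X := Z) (U := ⊤) (x := z) trivial
  have hc : CompactSpace (O : Scheme.{u}) := isCompact_iff_compactSpace.1 hO.isCompact
  have hn : IsLocallyNoetherian (O : Scheme.{u}) := isLocallyNoetherian_of_isOpenImmersion O.ι
  have hN : AlgebraicGeometry.IsNoetherian (O : Scheme.{u}) := {}
  obtain ⟨h1, h2⟩ := Groth.Agent.S14401.result (O : Scheme.{u}) (fun x => by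
    have := h (O.ι x)
    exact MulEquiv.isDomain _ (asIso (O.ι.stalkMap x)).symm.commRingCatIsoToRingEquiv.toMulEquiv)
  obtain ⟨C, ⟨hC, hzC⟩, -⟩ := h2 ⟨z, hzO⟩
  refine ⟨O.ι '' C, O.ι.isOpenEmbedding.isOpenMap _ (h1 C hC), ⟨⟨z, hzO⟩, hzC, rfl⟩, ?_⟩
  exact (hC.1.2).image _ O.ι.continuous.continuousOn

section Loc

variable {U T : Scheme.{u}} {Ω : Type u} [Field Ω] [IsSepClosed Ω]

theorem flat_toBase (ξ : Spec (CommRingCat.of Ω) ⟶ U) : Flat (toBase ξ) := by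
  obtain ⟨alg1, loc1, sh1, h1⟩ := exists_isStrictHenselization ξ (ξ default) rfl
  have hfl1 : (algebraMap (U.presheaf.stalk (ξ default)) (Osh ξ)).Flat :=
    RingHom.flat_algebraMap_iff.2 (Groth.Agent.Hensel.Lazard.faithfullyFlat_of_isStrictHenselization
      (U.presheaf.stalk (ξ default)) (Osh ξ)).toFlat
  have h2 : Flat (Spec.map (CommRingCat.ofHom (algebraMap (U.presheaf.stalk (ξ default)) (Osh ξ)))) :=
    (HasRingHomProperty.Spec_iff (P := @Flat)).2 hfl1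
  have h3 : Flat (U.fromSpecStalk (ξ default)) := inferInstance
  rw [← h1]
  exact MorphismProperty.comp_mem _ _ _ h2 h3

theorem generalizingMap_toBase (ξ : Spec (CommRingCat.of Ω) ⟶ U) : GeneralizingMap (toBase ξ) := by
  have h4 : Flat (toBase ξ) := flat_toBase ξ
  exact Flat.generalizingMap _

theorem toBase_eq_closedPoint (ξ : Spec (CommRingCat.of Ω) ⟶ T) (b : Spec (Osh ξ))
    (hb : toBase ξ b = ξ default) : b = closedPoint (Osh ξ) := by
  have h0 := isStrictLoc_toBase ξ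
  refine @Groth.Agent.Lefpen.H590.Contr.eq_closedPoint T (Osh ξ) _ inferInstance (toBase ξ) h0 b ?_
  rw [hb]
  exact (Groth.Agent.Etbc.H199.StrictFib.toBase_closedPoint ξ).symm

theorem psi_closedPoint (f : U ⟶ T) (ξ : Spec (CommRingCat.of Ω) ⟶ U) :
    psi f ξ (closedPoint (Osh ξ)) = closedPoint (Osh (ξ ≫ f)) := by
  apply toBase_eq_closedPoint
  rw [← Scheme.Hom.comp_apply, psi_toBase, Scheme.Hom.comp_apply,
    Groth.Agent.Etbc.H199.StrictFib.toBase_closedPoint]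
  rfl

/-- Fibres of `psi` are connected. -/
theorem isPreconnected_psi_fibre (f : U ⟶ T) (ξ : Spec (CommRingCat.of Ω) ⟶ U)
    (h : SepGeomConnected (psi f ξ)) (b : Spec (Osh (ξ ≫ f))) :
    _root_.IsPreconnected ((psi f ξ) ⁻¹' {b}) := by
  obtain ⟨Ω', _, _, l, hl⟩ := exists_geomPoint (Spec (Osh (ξ ≫ f))) b
  have h1 : ConnectedSpace ↥(pullback l (psi f ξ)) := h Ω' l
  have h2 : Set.range (pullback.snd l (psi f ξ)) = (psi f ξ) ⁻¹' (Set.range l) :=
    Scheme.Pullback.range_snd _ _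
  have h3 : Set.range l = {b} := by
    ext y
    constructor
    · rintro ⟨x, rfl⟩
      have : x = default := Subsingleton.elim _ _
      rw [this, hl]; rfl
    · rintro rfl
      exact ⟨default, hl⟩
  rw [h3] at h2
  rw [← h2]
  exact isPreconnected_range (Scheme.Hom.continuous _)

/-- The limit argument: inclusions of opens on the strict localization hold on an étale neighbourhood. -/
theorem exists_nbhd_le (ξ : Spec (CommRingCat.of Ω) ⟶ U) (V W : U.Opens) [QuasiCompact V.ι]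
    (h : toBase ξ ⁻¹ᵁ V ≤ toBase ξ ⁻¹ᵁ W) :
    ∃ N : U.Opens, ξ default ∈ N ∧ N ⊓ V ≤ W := by
  let i := i₀ ξ
  let Vi : ((DS ξ).obj i).Opens := ((D ξ).obj i).hom ⁻¹ᵁ V
  let Wi : ((DS ξ).obj i).Opens := ((D ξ).obj i).hom ⁻¹ᵁ W
  have hVi : IsCompact (Vi : Set ((DS ξ).obj i)) := by
    have h1 : IsPullback (((D ξ).obj i).hom ⁻¹ᵁ V).ι (((D ξ).obj i).hom ∣_ V) ((D ξ).obj i).hom V.ι :=
      (isPullback_morphismRestrict _ _).flip
    have h2 : QuasiCompact (((D ξ).obj i).hom ⁻¹ᵁ V).ι :=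
      MorphismProperty.of_isPullback h1.flip inferInstance
    have h5 : IsAffine ((D ξ).obj i).left := inferInstance
    have h6 : CompactSpace ((D ξ).obj i).left := inferInstance
    have h3 : IsCompact ((((D ξ).obj i).hom ⁻¹ᵁ V).ι ⁻¹' Set.univ) :=
      h2.1 Set.univ isOpen_univ (@isCompact_univ _ _ h6)
    have h4 : CompactSpace ↥(((D ξ).obj i).hom ⁻¹ᵁ V).toScheme := ⟨h3⟩
    exact isCompact_iff_compactSpace.2 h4
  have hle : (cone ξ).π.app i ⁻¹ᵁ Vi ≤ (cone ξ).π.app i ⁻¹ᵁ Wi := by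
    intro x hx
    have h1 : (cone ξ).π.app i = leg ξ i := rfl
    have h2 : ∀ O : U.Opens, x ∈ (cone ξ).π.app i ⁻¹ᵁ (((D ξ).obj i).hom ⁻¹ᵁ O) ↔ x ∈ toBase ξ ⁻¹ᵁ O := by
      intro O
      change ((D ξ).obj i).hom (leg ξ i x) ∈ O ↔ toBase ξ x ∈ O
      rw [← Scheme.Hom.comp_apply, leg_hom]
    rw [h2] at hx ⊢
    exact h hx
  have haff : ∀ {i j : Idx ξ} (f : i ⟶ j), IsAffineHom ((DS ξ).map f) := by
    intro i j f
    have : IsAffineHom ((D ξ).map f).left := by infer_instance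
    exact this
  obtain ⟨j, f, hj⟩ := exists_map_preimage_le_map_preimage (DS ξ) (cone ξ) (isLimitCone ξ) hVi hle
  have hw : (DS ξ).map f ≫ ((D ξ).obj i).hom = ((D ξ).obj j).hom := Over.w ((D ξ).map f).hom
  have het : Etale ((D ξ).obj j).hom := ((D ξ).obj j).prop
  have hr : IsOpen (Set.range ((D ξ).obj j).hom) := ((D ξ).obj j).hom.isOpenMap.isOpen_range
  refine ⟨⟨Set.range ((D ξ).obj j).hom, hr⟩, ?_, ?_⟩
  · refine ⟨leg ξ j (closedPoint (Osh ξ)), ?_⟩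
    rw [← Scheme.Hom.comp_apply, leg_hom]
    exact Groth.Agent.Etbc.H199.StrictFib.toBase_closedPoint ξ
  · rintro _ ⟨⟨z, rfl⟩, hz⟩
    have h1 : ∀ O : U.Opens, z ∈ (DS ξ).map f ⁻¹ᵁ (((D ξ).obj i).hom ⁻¹ᵁ O) ↔
        ((D ξ).obj j).hom z ∈ O := by
      intro O
      rw [← hw]
      rfl
    exact (h1 W).1 (hj ((h1 V).2 hz))

/-- **Extension of clopen subsets.** -/
theorem exists_clopen_ext {U T : Scheme.{u}} (f : U ⟶ T) [Flat f] [LocallyOfFiniteType f]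
    (hconn : ∀ {Ω : Type u} [Field Ω] [IsSepClosed Ω] (ξ : Spec (CommRingCat.of Ω) ⟶ U),
      SepGeomConnected (psi f ξ))
    (hdom : ∀ (t : T) (z : f.fiber t), IsDomain ((f.fiber t).presheaf.stalk z))
    (V : U.Opens) [QuasiCompact V.ι] (hV : ∀ x : U, ∃ y ∈ V, f y = f x ∧ y ⤳ x)
    (D : Set U) (hDV : D ⊆ V) (hDo : IsOpen D) (hDc : IsOpen ((V : Set U) \ D)) :
    ∃ D' : Set U, IsClopen D' ∧ D' ∩ V = D := by
  refine exists_clopen_of_local (V : Set U) D ?_ hDV hDo hDc ?_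
  · intro x
    obtain ⟨y, hy, -, hyx⟩ := hV x
    exact hyx.mem_closed isClosed_closure (subset_closure hy)
  intro x
  obtain ⟨Ω, _, _, ξ, hξ⟩ := exists_geomPoint U x
  let p := psi f ξ
  have hp : ∀ z, toBase (ξ ≫ f) (p z) = f (toBase ξ z) := by
    intro z
    rw [← Scheme.Hom.comp_apply, ← Scheme.Hom.comp_apply, psi_toBase]
  -- colours are constant on the fibres of `psi`
  have c1 : ∀ z₁ z₂, p z₁ = p z₂ → toBase ξ z₁ ∈ V → toBase ξ z₂ ∈ V → toBase ξ z₁ ∈ D →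
      toBase ξ z₂ ∈ D := by
    intro z₁ z₂ hz h₁ h₂ hD
    let t : T := toBase (ξ ≫ f) (p z₂)
    have hC := isPreconnected_psi_fibre f ξ (hconn ξ) (p z₂)
    refine mem_iff_of_preconnected (f ⁻¹' {t}) V D (toBase ξ '' (p ⁻¹' {p z₂})) hDV hDo hDc V.2 ?_ ?_
      (hC.image _ (toBase ξ).continuous.continuousOn) ?_ ⟨z₁, hz, rfl⟩ h₁ ⟨z₂, rfl, rfl⟩ h₂ hD
    · intro x hx N hN hxN
      obtain ⟨y, hy, hfy, hyx⟩ := hV x
      exact ⟨y, ⟨hyx.mem_open hN hxN, hfy.trans hx⟩, hy⟩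
    · intro x hx
      have hx' : x ∈ Set.range (f.fiberι t) := by
        rw [Scheme.Hom.range_fiberι]; exact hx
      obtain ⟨w, rfl⟩ := hx'
      have : IsLocallyNoetherian (f.fiber t) := by
        have h1 : LocallyOfFiniteType (f.fiberToSpecResidueField t) :=
          MorphismProperty.pullback_snd _ _ inferInstance
        exact LocallyOfFiniteType.isLocallyNoetherian (f.fiberToSpecResidueField t)
      obtain ⟨N, hN, hwN, hirr⟩ := exists_irreducible_nbhd (hdom t) w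
      have hind : Topology.IsEmbedding (f.fiberι t) := Scheme.Hom.isEmbedding _
      obtain ⟨N', hN', rfl⟩ := hind.isOpen_iff.1 hN
      refine ⟨N', hN', hwN, ?_⟩
      have h2 : N' ∩ f ⁻¹' {t} = f.fiberι t '' (f.fiberι t ⁻¹' N') := by
        rw [Set.image_preimage_eq_inter_range, Scheme.Hom.range_fiberι]
      rw [h2]
      exact hirr.image _ (Scheme.Hom.continuous _).continuousOn
    · rintro _ ⟨z, hz, rfl⟩
      change f (toBase ξ z) = t
      rw [← hp, hz]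
  -- a point over the closed point
  have hcl : toBase ξ (closedPoint (Osh ξ)) = x := by
    rw [Groth.Agent.Etbc.H199.StrictFib.toBase_closedPoint, ← hξ]
  obtain ⟨y, hy, hfy, hyx⟩ := hV x
  obtain ⟨z₀, hz₀, hz₀'⟩ := generalizingMap_toBase ξ (show y ⤳ toBase ξ (closedPoint (Osh ξ)) by rwa [hcl])
  have hpz₀ : p z₀ = closedPoint (Osh (ξ ≫ f)) := by
    apply toBase_eq_closedPoint
    rw [hp, hz₀', hfy, Scheme.Hom.comp_apply, ← hξ]
  have hpfl : Flat p := flat_psi f ξ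
  have hpgen : GeneralizingMap p := Flat.generalizingMap _
  have c2 : ∀ z, toBase ξ z ∈ V → (toBase ξ z ∈ D ↔ y ∈ D) := by
    intro z hz
    have h1 : p z ⤳ p z₀ := by
      rw [hpz₀]
      exact IsLocalRing.specializes_closedPoint _
    obtain ⟨z', hz', hz''⟩ := hpgen h1
    have h2 : toBase ξ z' ⤳ y := by
      rw [← hz₀']
      exact hz'.map (toBase ξ).continuous
    have h3 : toBase ξ z' ∈ V := h2.mem_open V.2 hy
    have h4 : toBase ξ z' ∈ D ↔ y ∈ D := by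
      constructor
      · intro h
        by_contra hyD
        exact (h2.mem_open hDc ⟨hy, hyD⟩).2 h
      · exact fun h => h2.mem_open hDo h
    rw [← h4]
    exact ⟨fun h => c1 z z' hz''.symm hz h3 h, fun h => c1 z' z hz'' h3 hz h⟩
  by_cases hyD : y ∈ D
  · obtain ⟨N, hN, hNV⟩ := exists_nbhd_le ξ V ⟨D, hDo⟩ (fun z hz => (c2 z hz).2 hyD)
    refine ⟨N, N.2, ?_, Or.inl hNV⟩
    rw [← hξ]; exact hN
  · obtain ⟨N, hN, hNV⟩ := exists_nbhd_le ξ V ⟨(V : Set U) \ D, hDc⟩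
      (fun z hz => ⟨hz, fun h => hyD ((c2 z hz).1 h)⟩)
    refine ⟨N, N.2, ?_, Or.inr hNV⟩
    rw [← hξ]; exact hN

end Loc

end K990.CohProp
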