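import Groth.Agent.CohProp.K990.Geo4

/-!
# Geometric input: assembly, second part
-/

set_option autoImplicit false
set_option linter.unusedSectionVars false
set_option linter.unusedVariables false
set_option backward.isDefEq.respectTransparency.types false
universe u

open CategoryTheory CategoryTheory.Limits AlgebraicGeometry Opposite IsLocalRing TopologicalSpace

namespace K990.CohProp

set_option maxHeartbeats 1000000 in
/-- **The geometric input.** -/
theorem geoInput : GeoInput.{u} := by
  intro X Y S _ f q _ _ _ _ _ _ hη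
  let η := q (f (genericPoint X))
  have hY : AlgebraicGeometry.IsNoetherian Y := isNoetherian_of_ft q
  obtain ⟨Xc, j, g, hj, hjq, hg, hjg⟩ := Groth.Agent.S0384.result f
  let jb := j.toImage
  let gb : j.image ⟶ Y := j.imageι ≫ g
  have hjb : IsOpenImmersion jb := inferInstance
  have hgb : IsProper gb := inferInstance
  have hfac : jb ≫ gb = f := by
    change j.toImage ≫ j.imageι ≫ g = f
    rw [← Category.assoc, Scheme.Hom.toImage_imageι, hjg]
  have hdom : IsDominant jb := inferInstanceAs (IsDominant j.toImage)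
  have hred : IsReduced j.image := Groth.Agent.Ega1.ReducedSub.isReduced_image j
  have hgenb : IsGenericPoint (jb (genericPoint X)) (Set.univ : Set ↥j.image) := by
    have h5 := (genericPoint_spec X).image jb.continuous
    rwa [Set.image_univ, hdom.denseRange.closure_range] at h5
  have hirr : IrreducibleSpace ↥j.image :=
    { isPreirreducible_univ := by
        have := hgenb.isIrreducible.2
        exact this
      toNonempty := ⟨jb (genericPoint X)⟩ }
  have hint : IsIntegral j.image := isIntegral_of_irreducibleSpace_of_isReduced _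
  have hηb : q (gb (jb (genericPoint X))) = η := by
    rw [← Scheme.Hom.comp_apply jb, hfac]
  -- an affine neighbourhood
  obtain ⟨V, hV, hηV, -⟩ := exists_isAffineOpen_mem_and_subset (X := S) (x := η) (U := ⊤) trivial
  obtain ⟨p, hp⟩ : ∃ p : PrimeSpectrum Γ(S, V), hV.fromSpec p = η := by
    have : η ∈ Set.range hV.fromSpec := by rw [hV.range_fromSpec]; exact hηV
    exact this
  let Kb := AlgebraicClosure p.asIdeal.ResidueField
  let t : Spec (CommRingCat.of Kb) ⟶ S :=
    Spec.map (CommRingCat.ofHom (algebraMap Γ(S, V) Kb)) ≫ hV.fromSpec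
  have ht : t default = η := by
    rw [Scheme.Hom.comp_apply, ← hp]
    congr 1
    apply PrimeSpectrum.ext
    have h1 : ∀ x : PrimeSpectrum Kb, x.asIdeal = ⊥ := fun x => Ideal.eq_bot_of_prime _
    change Ideal.comap (algebraMap Γ(S, V) Kb)
      (show PrimeSpectrum Kb from (default : ↥(Spec (CommRingCat.of Kb)))).asIdeal = p.asIdeal
    rw [h1, IsScalarTower.algebraMap_eq Γ(S, V) p.asIdeal.ResidueField Kb, ← Ideal.comap_comap,
      Ideal.comap_bot_of_injective _ (algebraMap p.asIdeal.ResidueField Kb).injective]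
    exact Ideal.ker_algebraMap_residueField p.asIdeal
  -- the geometric generic fibre
  obtain ⟨c, hc, -⟩ := Scheme.Pullback.exists_preimage_pullback (f := gb ≫ q) (g := t)
    (jb (genericPoint X)) default (by rw [Scheme.Hom.comp_apply, hηb, ht])
  obtain ⟨N, n, hn, hNint, hNnorm, hnc⟩ := exists_normal_component (pullback.snd (gb ≫ q) t) c
  have hFN : AlgebraicGeometry.IsNoetherian (pullback (gb ≫ q) t) :=
    isNoetherian_of_ft (pullback.snd (gb ≫ q) t)
  have hnfp : LocallyOfFinitePresentation n := inferInstance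
  obtain ⟨B, W, r, e, hr, hpb, hcomp⟩ : ∃ (B : Groth.Agent.Etcore.FGLim.FGSub Γ(S, V) Kb) (W : Scheme.{u})
      (r : W ⟶ pullback (gb ≫ q) (tauB hV p B.1)) (e : N ⟶ W),
      IsFinite r ∧ IsPullback e (n ≫ pullback.snd (gb ≫ q) t) (r ≫ pullback.snd (gb ≫ q) (tauB hV p B.1))
        (Spec.map (CommRingCat.ofHom (algebraMap B.1 Kb))) ∧
      e ≫ r ≫ pullback.fst (gb ≫ q) (tauB hV p B.1) = n ≫ pullback.fst (gb ≫ q) t :=
    exists_finite_model Γ(S, V) Kb (gb ≫ q) hV.fromSpec (t := t) rfl n
  let τ : Spec (CommRingCat.of B.1) ⟶ S := tauB hV p B.1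
  have hNR : IsNoetherianRing Γ(S, V) := IsLocallyNoetherian.component_noetherian ⟨V, hV⟩
  have hft : Algebra.FiniteType Γ(S, V) B.1 := B.1.fg_iff_finiteType.1 B.2
  have hNB : IsNoetherianRing B.1 := Algebra.FiniteType.isNoetherianRing Γ(S, V) B.1
  have hdomB : IsDomain (B.1 : Subalgebra Γ(S, V) Kb) := inferInstance
  have hNT : AlgebraicGeometry.IsNoetherian (Spec (CommRingCat.of B.1)) := inferInstance
  have hIT : IsIntegral (Spec (CommRingCat.of B.1)) := inferInstance
  let rX : W ⟶ j.image := r ≫ pullback.fst (gb ≫ q) τ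
  let h₀ : W ⟶ Spec (CommRingCat.of B.1) := r ≫ pullback.snd (gb ≫ q) τ
  have hlr : LocallyOfFiniteType r := inferInstance
  have hqr : QuasiCompact r := inferInstance
  have hsr : IsSeparated r := inferInstance
  have hl1 : LocallyOfFiniteType (pullback.snd (gb ≫ q) τ) := inferInstance
  have hq1 : QuasiCompact (pullback.snd (gb ≫ q) τ) := inferInstance
  have hs1 : QuasiSeparated (pullback.snd (gb ≫ q) τ) := inferInstance
  have hl0 : LocallyOfFiniteType h₀ := MorphismProperty.comp_mem _ _ _ hlr hl1
  have hq0 : QuasiCompact h₀ := MorphismProperty.comp_mem _ _ _ hqr hq1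
  have hs0 : QuasiSeparated h₀ := MorphismProperty.comp_mem _ _ _ (inferInstanceAs (QuasiSeparated r)) hs1
  have hNW : AlgebraicGeometry.IsNoetherian W := isNoetherian_of_ft h₀
  let Vo : W.Opens := rX ⁻¹ᵁ jb.opensRange
  let k : Spec (CommRingCat.of Kb) ⟶ Spec (CommRingCat.of B.1) :=
    Spec.map (CommRingCat.ofHom (algebraMap B.1 Kb))
  have hgenT : genericPoint (Spec (CommRingCat.of B.1)) = (⟨⊥, inferInstance⟩ : PrimeSpectrum B.1) := by
    exact genericPoint_eq_bot_of_affine (CommRingCat.of B.1)
  have hk : k default = genericPoint (Spec (CommRingCat.of B.1)) := by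
    rw [hgenT]
    apply PrimeSpectrum.ext
    have h1 : ∀ x : PrimeSpectrum Kb, x.asIdeal = ⊥ := fun x => Ideal.eq_bot_of_prime _
    change Ideal.comap (algebraMap B.1 Kb)
      (show PrimeSpectrum Kb from (default : ↥(Spec (CommRingCat.of Kb)))).asIdeal = ⊥
    rw [h1]
    exact Ideal.comap_bot_of_injective _ Subtype.val_injective
  have heN' : rX (e (genericPoint N)) = jb (genericPoint X) := by
    change (pullback.fst (gb ≫ q) τ) (r (e (genericPoint N))) = _
    rw [← hc, ← hnc, ← Scheme.Hom.comp_apply n, ← hcomp]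
    rfl
  have heN : e (genericPoint N) ∈ Vo := ⟨genericPoint X, heN'.symm⟩
  obtain ⟨O, hO, hnice⟩ := exists_nice_open h₀ Vo k hk hNnorm hpb heN
  obtain ⟨P, hP, hPO, hfin⟩ := exists_base_open hV p B.1 B.2 (η := η) hη hp O (by rw [← hgenT]; exact hO)
  obtain ⟨W', r₀, h1, h2, h3⟩ := geo_finish f q jb gb hfac hgenb τ r (e (genericPoint N)) heN' O hnice P
    (by rw [hηb]; exact hP) hPO hfin
  exact ⟨P, W', r₀, hP, h1, h2, h3⟩

end K990.CohProp
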