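import Groth.Agent.CohProp.K990.CritP
import Groth.Agent.CohProp.K990.Chart
import Groth.Agent.CohProp.K990.Geo5
import Groth.Agent.EtAcyc.K548.LC

/-!
# Cohomological propriety in degree zero for constant sheaves
-/

set_option autoImplicit false
set_option linter.unusedSectionVars false
set_option linter.unusedVariables false
set_option backward.isDefEq.respectTransparency.types false
universe u

open CategoryTheory CategoryTheory.Limits AlgebraicGeometry Opposite IsLocalRing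

namespace K990.CohProp

open EtDesc Groth.Agent.Etbc.H184.FamSh Groth.Agent.EtpbcB.StrictLoc Groth.Agent.EtpbcB.Psi
open Groth.Agent.Etbc.H184 Groth.Agent.Etbc.H184.BCStrictSh
open Groth.Agent.EtpbcB.BCStrict (P isPullback_P)
open Groth.Agent.EtpbcB Groth.Agent.EtpbcB.OshHens
open Groth.Agent.Sga4A.EtStalk (exists_geomPoint germ germ_eq_iff Stk)
open Groth.Agent.Etrest.StrictLoc (spm IsStrictLoc)

/-! ### The criterion -/

/-- The squares of the criterion are tests. -/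
theorem isTest_P {X Y S S' Y' X' : Scheme.{u}} (q : Y ⟶ S) (f : X ⟶ Y) (p : S' ⟶ S) (g : Y' ⟶ Y)
    (q' : Y' ⟶ S') (h : X' ⟶ X) (f' : X' ⟶ Y') (hpb : IsPullback g q' q p) (sq : IsPullback h f' f g)
    {Ω : Type u} [Field Ω] [IsSepClosed Ω] (ξ : Spec (CommRingCat.of Ω) ⟶ Y') :
    IsTest q Set.univ f (pullback.fst f (toBase (ξ ≫ g))) (P ξ sq) := by
  have hl := isLocalHom_psiHom g ξ
  have h1 := isStrictLoc_toBase (ξ ≫ g)
  have h2 := isStrictLoc_toBase ξ
  refine ⟨Osh (ξ ≫ g), Osh ξ, inferInstance, h1.henselian, h1.sepClosed, inferInstance, h2.henselian,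
    h2.sepClosed, psiHom g ξ, hl, toBase (ξ ≫ g), pullback.snd f (toBase (ξ ≫ g)),
    pullback.snd f' (toBase ξ), ?_, ?_, IsPullback.of_hasPullback _ _, ?_⟩
  · exact ⟨S, Y, 𝟙 S, 𝟙 Y, q, toBase (ξ ≫ g), Set.subset_univ _, IsPullback.id_horiz q, h1,
      Category.comp_id _⟩
  · refine ⟨S', Y', p, g, q', toBase ξ, Set.subset_univ _, hpb, h2, ?_⟩
    change _ = Spec.map (CommRingCat.ofHom (psiHom g ξ)) ≫ _
    rw [spm_psiHom, psi_toBase]
  · change IsPullback _ _ _ (Spec.map (CommRingCat.ofHom (psiHom g ξ)))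
    rw [spm_psiHom]
    exact (isPullback_P ξ sq).flip

theorem isCohPropSet_of_fBijOn {X Y S : Scheme.{u}} (q : Y ⟶ S) (f : X ⟶ Y) [QuasiCompact f]
    [QuasiSeparated f] (F : Sh X) (h : FBijOn q Set.univ f F) : _root_.CohProp.IsCohPropSet q f F := by
  intro S' Y' X' p g q' h' f' hpb sq
  refine isIso_baseChange0Sh_of_P sq F ?_ ?_
  · intro Ω _ _ ξ
    exact (h _ _ (isTest_P q f p g q' h' f' hpb sq ξ)).1
  · intro Ω _ _ ξ
    exact (h _ _ (isTest_P q f p g q' h' f' hpb sq ξ)).2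

/-! ### Restriction to opens -/

theorem Adm.of_restrict {Y S : Scheme.{u}} {q : Y ⟶ S} {U : S.Opens} {A : Type u} [CommRing A]
    [IsLocalRing A] {σ : Spec (CommRingCat.of A) ⟶ (q ⁻¹ᵁ U).toScheme}
    (h : Adm (q ∣_ U) Set.univ σ) : Adm q U (σ ≫ (q ⁻¹ᵁ U).ι) := by
  obtain ⟨T, Y', p, g, q', σ', h1, h2, h3, rfl⟩ := h
  refine ⟨T, Y', p ≫ U.ι, g ≫ (q ⁻¹ᵁ U).ι, q', σ', ?_, ?_, h3, (Category.assoc _ _ _).symm⟩
  · rintro _ ⟨x, rfl⟩
    exact (p x).2
  · exact h2.paste_horiz (isPullback_morphismRestrict q U).flip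

theorem IsTest.of_restrict {X Y S : Scheme.{u}} {q : Y ⟶ S} {f : X ⟶ Y} {U : S.Opens}
    {XA XA' : Scheme.{u}} {x : XA ⟶ (f ⁻¹ᵁ q ⁻¹ᵁ U).toScheme} {a : XA' ⟶ XA}
    (h : IsTest (q ∣_ U) Set.univ (f ∣_ (q ⁻¹ᵁ U)) x a) :
    IsTest q U f (x ≫ (f ⁻¹ᵁ q ⁻¹ᵁ U).ι) a := by
  obtain ⟨A, A', i1, i2, i3, i4, i5, i6, φ, hφ, σ, xA, xA', h1, h2, h3, h4⟩ := h
  refine ⟨A, A', i1, i2, i3, i4, i5, i6, φ, hφ, σ ≫ (q ⁻¹ᵁ U).ι, xA, xA', h1.of_restrict, ?_, ?_, h4⟩
  · rw [← Category.assoc]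
    exact h2.of_restrict
  · exact (h3.flip.paste_vert (isPullback_morphismRestrict f (q ⁻¹ᵁ U))).flip

/-! ### Charts -/

/-- The chart on families given by a chart. -/
noncomputable def FCh.ofChart {X : Scheme.{u}} {F : Sh X} {V : X.Etale} (c : K548.LC.Chart F V) {I : Type}
    (e : I ≃ c.M) : FCh F V.hom I where
  φ i := fam (c.e (e i))
  loc i := isLoc_fam _
  bij Ω _ _ l ξ h := by
    constructor
    · intro i j hij
      obtain ⟨W, k, m, hm, hk⟩ := (germ_eq_iff F l h _ _).1 hij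
      exact e.injective (c.inj W k _ _ ⟨m default⟩ hk)
    · intro σ
      obtain ⟨m, hm⟩ := c.exists_germ l h σ
      refine ⟨e.symm m, ?_⟩
      change germ F l h (c.e (e (e.symm m))) = σ
      rw [e.apply_symm_apply]
      exact hm

/-- Conversion of charts. -/
def Chart.toK548 {X : Scheme.{u}} {F : Sh X} {V : X.Etale} {M : Type (u + 1)} (c : Chart F V M) :
    K548.LC.Chart F V where
  M := M
  e := c.φ
  surj W g s w := by
    obtain ⟨m, W', k, w', hw, h⟩ := c.surj W g w s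
    exact ⟨W', k, w', hw, m, h⟩
  inj W g m m' hW h := c.inj W g hW.some m m' h

/-- The chart of a constant sheaf. -/
noncomputable def fChConst (X : Scheme.{u}) (E : Type) :
    FCh (_root_.CohProp.constSh X (ULift.{u + 1} E)) (𝟙 X) E :=
  (FCh.ofChart (constChart X (ULift.{u + 1} E) (EtCoh.top X)).toK548 Equiv.ulift.symm :)

/-- Charts and tests. -/
theorem FCh.fBijOn {X Y S : Scheme.{u}} {q : Y ⟶ S} {P : Set S} {f : X ⟶ Y} {F : Sh X} {I : Type}
    [Finite I] (c : FCh F (𝟙 X) I) (h : ClBijOn q P f) : FBijOn q P f F := by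
  intro XA XA' x a hx
  exact ⟨(c.res x (Category.comp_id x)).fInj (h x a hx).1, (c.res x (Category.comp_id x)).fSurj (h x a hx)⟩

theorem isCohPropSet_const {X Y S : Scheme.{u}} {q : Y ⟶ S} {f : X ⟶ Y} [QuasiCompact f]
    [QuasiSeparated f] {U : S.Opens} (h : ClBijOn q U f) (E : Type) [Finite E] :
    _root_.CohProp.IsCohPropSet (q ∣_ U) (f ∣_ q ⁻¹ᵁ U)
        (_root_.CohProp.constSh (↑(f ⁻¹ᵁ q ⁻¹ᵁ U) : Scheme.{u}) (ULift.{u + 1} E)) := by
  have i1 : QuasiCompact (f ∣_ q ⁻¹ᵁ U) :=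
    MorphismProperty.of_isPullback (P := @QuasiCompact) (isPullback_morphismRestrict f _).flip inferInstance
  have i2 : QuasiSeparated (f ∣_ q ⁻¹ᵁ U) :=
    MorphismProperty.of_isPullback (P := @QuasiSeparated) (isPullback_morphismRestrict f _).flip inferInstance
  refine isCohPropSet_of_fBijOn _ _ _ ((fChConst _ E).fBijOn ?_)
  intro XA XA' x a hx
  exact h _ _ hx.of_restrict

/-- **S17209.** -/
theorem exists_dense_open_isCohPropSet_constSh {X Y S : Scheme.{u}} [IsNoetherian S] (f : X ⟶ Y) (b : Y ⟶ S)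
    [LocallyOfFiniteType f] [QuasiCompact f] [LocallyOfFiniteType b] [QuasiCompact b] :
    ∃ U : S.Opens, Dense (U : Set S) ∧ ∀ (E : Type) [Finite E],
      _root_.CohProp.IsCohPropSet (b ∣_ U) (f ∣_ b ⁻¹ᵁ U)
        (_root_.CohProp.constSh (↑(f ⁻¹ᵁ b ⁻¹ᵁ U) : Scheme.{u}) (ULift.{u + 1} E)) := by
  have hY : AlgebraicGeometry.IsNoetherian Y := isNoetherian_of_ft b
  have hX : AlgebraicGeometry.IsNoetherian X := isNoetherian_of_ft f
  obtain ⟨U, hU, h⟩ := exists_dense_clBijOn f b geoInput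
  exact ⟨U, hU, fun E _ => isCohPropSet_const h E⟩

end K990.CohProp
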