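import Groth.Agent.CohProp.K990.PushBij
import Groth.Agent.CohProp.K990.ConstCP

/-!
# Embedding constructible sheaves of sets, with finite constant sheaves
-/

set_option autoImplicit false
set_option linter.unusedSectionVars false
set_option linter.unusedVariables false
universe u

open CategoryTheory CategoryTheory.Limits AlgebraicGeometry Opposite

namespace K990.CohProp

open EtDesc Groth.Agent.Sga4A.EtStalk K548.LC K548.Lin K548.Cogen

/-- Joint injectivity on stalks from joint injectivity on sections. -/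
theorem jInj_of_sections {X : Scheme.{u}} {F : Sh X} {ι : Type*} [Finite ι] {G : ι → Sh X}
    (a : ∀ i, F ⟶ G i) (hinj : ∀ (U : X.Etale) (s t : sect F U),
      (∀ i, (a i).hom.app (op U) s = (a i).hom.app (op U) t) → s = t) : JInj a := by
  intro Ω _ _ ξ σ τ h
  obtain ⟨U, l, hl, s, t, rfl, rfl⟩ := exists_germ₂ F σ τ
  let O : Set U.left := ⋂ i, agree (G i) ((a i).hom.app (op U) s) ((a i).hom.app (op U) t)
  have hO : IsOpen O := isOpen_iInter_of_finite fun i => isOpen_agree (G i) _ _
  have hl' : l default ∈ O := by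
    refine Set.mem_iInter.2 fun i => ?_
    rw [mem_agree_iff' (G i) _ _ l hl]
    have := h i
    rwa [mapStk_germ, mapStk_germ] at this
  let O' : U.left.Opens := ⟨O, hO⟩
  let U₀ : X.Etale := Scheme.Etale.mk (O'.ι ≫ U.hom)
  let g : U₀ ⟶ U := MorphismProperty.Over.homMk O'.ι rfl trivial
  have hst : F.obj.map g.op s = F.obj.map g.op t := by
    apply hinj
    intro i
    have h1 : ∀ s : sect F U, (a i).hom.app (op U₀) (F.obj.map g.op s) =
        (G i).obj.map g.op ((a i).hom.app (op U) s) := fun s =>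
      NatTrans.naturality_apply (a i).hom g.op s
    rw [h1, h1]
    apply map_eq_of_range_subset (G i) g
    rintro _ ⟨x, rfl⟩
    exact Set.mem_iInter.1 (x : O').2 i
  have h3 : l default ∈ agree F s t := ⟨U₀, g, ⟨l default, hl'⟩, rfl, hst⟩
  exact (mem_agree_iff' F s t l hl).1 h3

/-- The chart of an abelian constant sheaf. -/
noncomputable def abChart (X : Scheme.{u}) (M : Type) [AddCommGroup M] (V : X.Etale) :
    K548.LC.Chart ((sheafCompose X.smallEtaleTopology (forget AddCommGrpCat.{u + 1})).obj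
      (EtCoh.const X M)) V :=
  let J := X.smallEtaleTopology
  let P : (X.Etale)ᵒᵖ ⥤ AddCommGrpCat.{u + 1} := (Functor.const _).obj
    (AddCommGrpCat.of (ULift.{u + 1} M))
  K548.LC.Chart.ofConst V (ULift.{u + 1} M) (fun W m => (toSheafify J P).app (op W) m)
    (fun W W' k m => (NatTrans.naturality_apply (toSheafify J P) k.op m).symm)
    (fun W s w => by
      have h1 := Presheaf.imageSieve_mem J (toSheafify J P) s
      obtain ⟨W', k, w', ⟨m, hm⟩, hw⟩ := (Groth.Agent.Etbase.EtSite.mem_iff W _).1 h1 w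
      exact ⟨W', k, w', hw, m, hm⟩)
    (fun W m m' hW h => by
      obtain ⟨w⟩ := hW
      have h1 := Presheaf.equalizerSieve_mem J (toSheafify J P) m m' h
      obtain ⟨W', k, w', h2, -⟩ := (Groth.Agent.Etbase.EtSite.mem_iff W _).1 h1 w
      exact h2)

/-- The chart on families of an abelian constant sheaf. -/
noncomputable def fChAb (X : Scheme.{u}) (M : Type) [AddCommGroup M] :
    FCh ((sheafCompose X.smallEtaleTopology (forget AddCommGrpCat.{u + 1})).obj
      (EtCoh.const X M)) (𝟙 X) M :=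
  (FCh.ofChart (abChart X M (EtCoh.top X)) Equiv.ulift.symm :)

/-- **Embedding theorem.** -/
theorem exists_cogen' {X : Scheme.{u}} [IsNoetherian X] (F : Sh X)
    (hF : _root_.CohProp.IsConstructibleSet F) :
    ∃ (n : ℕ) (Y : Fin n → Scheme.{u}) (p : ∀ i, Y i ⟶ X) (_ : ∀ i, IsFinite (p i))
      (C : ∀ i, Sh (Y i)) (I : Fin n → Type) (_ : ∀ i, Finite (I i))
      (a : ∀ i, F ⟶ (pushSh (p i)).obj (C i)),
      (∀ i, Nonempty (FCh (C i) (𝟙 (Y i)) (I i))) ∧ (∀ i, IsLC (C i)) ∧ JInj a := by
  obtain ⟨n, Y, p, hp, M, h1, h2, h3⟩ := Groth.Agent.S0143.result X (linX F)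
    (isConstructible_linX hF)
  obtain ⟨ι, hι⟩ := h3
  let J := X.smallEtaleTopology
  let G : ∀ i, EtCoh.Ab X := fun i => (EtCoh.push (p i)).obj (EtCoh.const (Y i) (M i))
  let a₀ : ∀ i, linX F ⟶ G i := fun i => ι ≫ biproduct.π G i
  refine ⟨n, Y, p, hp, fun i => (sheafCompose (Y i).smallEtaleTopology
    (forget AddCommGrpCat.{u + 1})).obj (EtCoh.const (Y i) (M i)), M, h2,
    fun i => toLin J F ≫ (sheafCompose J (forget AddCommGrpCat.{u + 1})).map (a₀ i),
    fun i => ⟨fChAb (Y i) (M i)⟩, ?_, ?_⟩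
  · intro i x
    exact ⟨Scheme.Etale.mk (𝟙 _), x, rfl, isLC_const (M i) _⟩
  · apply jInj_of_sections
    intro U s t hst
    apply injective_toLin J F U
    have h4 : ∀ (x y : EtCoh.sect (linX F) U), ι.hom.app (op U) x = ι.hom.app (op U) y → x = y := by
      let S : EtCoh.Ab X ⥤ AddCommGrpCat.{u + 1} :=
        sheafToPresheaf X.smallEtaleTopology _ ⋙ (evaluation _ _).obj (op U)
      have h5 : Mono (S.map ι) := inferInstance
      rw [AddCommGrpCat.mono_iff_injective] at h5
      exact fun x y h => h5 h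
    apply h4
    apply sect_biproduct_ext G U
    exact hst

end K990.CohProp
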