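import Groth.Agent.S1585
import Groth.Agent.S7602
import Groth.Agent.Ega4C.NormGeom
import Groth.Agent.Ega1.ReducedSub
import Groth.Agent.CohProp.K990.ClGen

/-!
# Geometric input, over a field
-/

set_option autoImplicit false
set_option linter.unusedSectionVars false
set_option linter.unusedVariables false
set_option backward.isDefEq.respectTransparency.types false
universe u

open CategoryTheory CategoryTheory.Limits AlgebraicGeometry Opposite IsLocalRing TopologicalSpace

namespace K990.CohProp

theorem isSeparated_of_isAffine {X Y : Scheme.{u}} [IsAffine X] (f : X ⟶ Y) : IsSeparated f := by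
  have h1 : IsSeparated (f ≫ terminal.from Y) := by
    have : f ≫ terminal.from Y = terminal.from X := Subsingleton.elim _ _
    rw [this]; infer_instance
  exact IsSeparated.of_comp f (terminal.from Y)

/-- Normalization of an irreducible component. -/
theorem exists_normal_component {k : Type u} [Field k] {X : Scheme.{u}} (p : X ⟶ Spec (CommRingCat.of k))
    [LocallyOfFiniteType p] [QuasiCompact p] (c : X) :
    ∃ (N : Scheme.{u}) (n : N ⟶ X) (_ : IsFinite n) (_ : IsIntegral N), Pi1.IsNormalScheme N ∧
      n (genericPoint N) = c := by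
  have hX : AlgebraicGeometry.IsNoetherian X := isNoetherian_of_ft p
  obtain ⟨C, i, i1, i2, hi⟩ := exists_reduced (X := X) ⟨closure {c}, isClosed_closure⟩
  obtain ⟨R, j, j1, j2, hr, hcl, -⟩ := exists_integral (X := X) ⟨closure {c}, isClosed_closure⟩
    isIrreducible_singleton.closure ⊤ ⟨c, subset_closure rfl, trivial⟩
  have hclosed : IsClosed (Set.range j) := by
    rw [hr]
    exact isClosed_closure.inter isClosed_univ
  have j3 : IsClosedImmersion j := IsClosedImmersion.of_isPreimmersion j hclosed
  have hjc : j (genericPoint R) = c := by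
    have : closure {j (genericPoint R)} = closure {c} := hcl
    exact (inseparable_iff_closure_eq.2 this).eq
  let _ : R.Over (Spec (CommRingCat.of k)) := ⟨j ≫ p⟩
  have h1 : LocallyOfFiniteType (R ↘ (Spec (CommRingCat.of k))) := inferInstanceAs (LocallyOfFiniteType (j ≫ p))
  have hR : AlgebraicGeometry.IsNoetherian R := isNoetherian_of_ft j
  have h2 : QuasiCompact (R.fromSpecStalk (genericPoint R)) := inferInstance
  have h3 : IsSeparated (R.fromSpecStalk (genericPoint R)) := isSeparated_of_isAffine _
  obtain ⟨k1, k2, -, k3, k4⟩ := Groth.Agent.S1585.result k R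
  refine ⟨Curv2.normalization R, Curv2.normalizationι R ≫ j, inferInstance, k3, k4, ?_⟩
  have h4 : Curv2.normalizationι R (genericPoint _) = genericPoint R := by
    have h5 := (genericPoint_spec (Curv2.normalization R)).image (Curv2.normalizationι R).continuous
    rw [Set.image_univ, k2.denseRange.closure_range] at h5
    exact h5.eq (genericPoint_spec R)
  rw [Scheme.Hom.comp_apply, h4, hjc]

theorem normal_of_stalkIso {X Y : Scheme.{u}} (f : X ⟶ Y) (x : X) [IsIso (f.stalkMap x)]
    (h : IsDomain (Y.presheaf.stalk (f x)) ∧ IsIntegrallyClosed (Y.presheaf.stalk (f x))) :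
    IsDomain (X.presheaf.stalk x) ∧ IsIntegrallyClosed (X.presheaf.stalk x) := by
  let e : Y.presheaf.stalk (f x) ≃+* X.presheaf.stalk x :=
    (asIso (f.stalkMap x)).commRingCatIsoToRingEquiv
  have h1 := h.1
  have h2 := h.2
  exact ⟨MulEquiv.isDomain _ e.symm.toMulEquiv, IsIntegrallyClosed.of_equiv e⟩

/-- Normal schemes over algebraically closed fields are geometrically normal. -/
theorem isNormalScheme_bc {k : Type u} [Field k] [IsAlgClosed k] {X : Scheme.{u}}
    (p : X ⟶ Spec (CommRingCat.of k)) (hX : Pi1.IsNormalScheme X) (K : Type u) [Field K] (φ : k →+* K)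
    {F : Scheme.{u}} {a : F ⟶ X} {b : F ⟶ Spec (CommRingCat.of K)}
    (h : IsPullback a b p (Spec.map (CommRingCat.ofHom φ))) : Pi1.IsNormalScheme F := by
  let _ : X.Over (Spec (CommRingCat.of k)) := ⟨p⟩
  let _ : Algebra k K := φ.toAlgebra
  have h1 : Algebra.IsGeometricallyReduced k K :=
    Groth.Agent.Ega4C.NormGeom.isGeometricallyReduced_of_perfectField k K
  have h3 := K418.NormalStalk.isNormalScheme_bc_of_separable k X hX K
  have e : F ≅ Curv2.bc k X K := h.isoIsPullback _ _ (IsPullback.of_hasPullback _ _)
  intro z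
  exact normal_of_stalkIso e.hom z (h3 (e.hom z))

/-- Descent of normality along flat morphisms. -/
theorem normal_of_flat {X Y : Scheme.{u}} (f : X ⟶ Y) [Flat f] (x : X)
    (h : IsDomain (X.presheaf.stalk x) ∧ IsIntegrallyClosed (X.presheaf.stalk x)) :
    IsDomain (Y.presheaf.stalk (f x)) ∧ IsIntegrallyClosed (Y.presheaf.stalk (f x)) :=
  K418.NormalStalk.P_stalk_of_flat f x h

end K990.CohProp
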