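import Groth.Agent.S0591
import Groth.Agent.S9187
import Groth.Agent.Etcore.PullbackLim
import Groth.Agent.Etcore.FGLim

/-!
# Geometric input: finite models
-/

set_option autoImplicit false
set_option linter.unusedSectionVars false
set_option linter.unusedVariables false
set_option backward.isDefEq.respectTransparency.types false
universe u

open CategoryTheory CategoryTheory.Limits AlgebraicGeometry Opposite TopologicalSpace
open Groth.Agent.Etcore.FGLim Groth.Agent.Etcore.PullbackLim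

namespace K990.CohProp

/-- Finite morphisms to a limit come from a finite stage. -/
theorem exists_finite_of_isLimit {I : Type u} [SmallCategory I] [IsCofiltered I] (D : I ⥤ Scheme.{u})
    (c : Cone D) (hc : IsLimit c) [∀ (i j : I) (f : i ⟶ j), IsAffineHom (D.map f)]
    [∀ i, CompactSpace (D.obj i)] [∀ i, QuasiSeparatedSpace (D.obj i)] {N : Scheme.{u}}
    (n : N ⟶ c.pt) [IsFinite n] [LocallyOfFinitePresentation n] :
    ∃ (i : I) (W : Scheme.{u}) (r : W ⟶ D.obj i) (e : N ⟶ W), IsFinite r ∧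
      IsPullback e n r (c.π.app i) := by
  obtain ⟨i₁, X₁, f₁, g₁, h1, h2, h3, h4⟩ := Groth.Agent.S0591.result D c hc N n
  have hX1 : CompactSpace X₁ := QuasiCompact.compactSpace_of_compactSpace f₁
  have hX2 : QuasiSeparatedSpace X₁ := quasiSeparatedSpace_of_quasiSeparated f₁
  obtain ⟨i, φ, Xi, Yi, fi, gi, pY, pX, h5, h6, h7⟩ := Groth.Agent.S9187.result D c hc i₁ f₁ (𝟙 (D.obj i₁))
    n (𝟙 c.pt) (c.π.app i₁) g₁ (IsPullback.of_vert_isIso ⟨by simp⟩) h4
  have hgi : IsIso gi :=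
    MorphismProperty.of_isPullback (P := MorphismProperty.isomorphisms _) h5
      (inferInstanceAs (IsIso (𝟙 (D.obj i₁))))
  have hpY : pY = gi ≫ D.map φ := by rw [← h5.w, Category.comp_id]
  have h8 : IsPullback pX (fi ≫ gi) f₁ (D.map φ) := by
    refine h6.of_iso (Iso.refl _) (Iso.refl _) (asIso gi) (Iso.refl _) ?_ ?_ ?_ ?_
    all_goals simp [hpY]
  let e : N ⟶ Xi := h8.lift g₁ (n ≫ c.π.app i) (by rw [Category.assoc, c.w, h4.w])
  have he1 : e ≫ pX = g₁ := h8.lift_fst _ _ _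
  have he2 : e ≫ fi ≫ gi = n ≫ c.π.app i := h8.lift_snd _ _ _
  refine ⟨i, Xi, fi ≫ gi, e, inferInstance, ?_⟩
  refine (IsPullback.of_right (h₁₂ := pX) (v₁₃ := f₁) (h₂₂ := D.map φ) ?_ he2 h8)
  rw [he1, c.w]
  exact h4

/-- Finite morphisms to a base change along `R₀ → K` come from a finitely generated subalgebra. -/
theorem exists_finite_model (R₀ Kb : Type u) [CommRing R₀] [CommRing Kb] [Algebra R₀ Kb]
    {S X : Scheme.{u}} (f : X ⟶ S) [QuasiCompact f] [QuasiSeparated f]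
    (ρ : Spec (CommRingCat.of R₀) ⟶ S) {t : Spec (CommRingCat.of Kb) ⟶ S}
    (ht : t = Spec.map (CommRingCat.ofHom (algebraMap R₀ Kb)) ≫ ρ) {N : Scheme.{u}}
    (n : N ⟶ pullback f t) [IsFinite n] [LocallyOfFinitePresentation n] :
    ∃ (B : FGSub R₀ Kb) (W : Scheme.{u})
      (r : W ⟶ pullback f (Spec.map (CommRingCat.ofHom (algebraMap R₀ B.1)) ≫ ρ)) (e : N ⟶ W),
      IsFinite r ∧ IsPullback e (n ≫ pullback.snd _ _) (r ≫ pullback.snd _ _)
        (Spec.map (CommRingCat.ofHom (algebraMap B.1 Kb))) ∧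
      e ≫ r ≫ pullback.fst _ _ = n ≫ pullback.fst _ _ := by
  let T := specSys (fgSys R₀ Kb)
  let c : Cone T := specCone (fgSys R₀ Kb) (fgCocone R₀ Kb)
  let τ : ∀ a : (FGSub R₀ Kb)ᵒᵖ, T.obj a ⟶ S := fun a =>
    (show Spec (CommRingCat.of a.unop.1) ⟶ S from
      Spec.map (CommRingCat.ofHom (algebraMap R₀ a.unop.1)) ≫ ρ)
  have hτ : ∀ ⦃a b : (FGSub R₀ Kb)ᵒᵖ⦄ (h : a ⟶ b), T.map h ≫ τ b = τ a := by
    intro a b h
    change Spec.map ((fgSys R₀ Kb).map h.unop) ≫ Spec.map _ ≫ ρ = Spec.map _ ≫ ρ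
    rw [← Category.assoc, ← Spec.map_comp]
    rfl
  have ht' : ∀ a, c.π.app a ≫ τ a = t := by
    intro a
    change Spec.map _ ≫ Spec.map _ ≫ ρ = t
    rw [← Category.assoc, ← Spec.map_comp, ht]
    rfl
  let D := sys T τ hτ f
  let cD : Cone D := Groth.Agent.Etcore.PullbackLim.cone T τ hτ f c t ht'
  have hcD : IsLimit cD := Groth.Agent.Etcore.PullbackLim.isLimitCone T τ hτ f c t ht' (isLimitSpecCone _ _ (isColimitFG R₀ Kb))
  have i1 : ∀ (a b : (FGSub R₀ Kb)ᵒᵖ) (h : a ⟶ b), IsAffineHom (D.map h) := fun a b h =>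
    isAffineHom_mapp T τ hτ f (fun a b h => isAffineHom_specSys (fgSys R₀ Kb) h) h
  have i2 : ∀ a, CompactSpace (D.obj a) := fun a => compactSpace_obj T τ hτ f a
  have i3 : ∀ a, QuasiSeparatedSpace (D.obj a) := fun a => quasiSeparatedSpace_obj T τ hτ f a
  have i4 : IsFinite (show N ⟶ cD.pt from n) := inferInstanceAs (IsFinite n)
  have i5 : LocallyOfFinitePresentation (show N ⟶ cD.pt from n) :=
    inferInstanceAs (LocallyOfFinitePresentation n)
  obtain ⟨a, W, r, e, hr, hpb⟩ := exists_finite_of_isLimit D cD hcD (show N ⟶ cD.pt from n)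
  have hpb' : IsPullback e n r (proj T τ f c t ht' a) := hpb
  refine ⟨a.unop, W, r, e, hr, ?_, ?_⟩
  · exact hpb'.paste_vert (isPullback_proj T τ f c t ht' a)
  · have h1 : e ≫ r ≫ pullback.fst f (τ a) = n ≫ pullback.fst f t := by
      rw [← Category.assoc, hpb'.w, Category.assoc]
      exact congrArg (n ≫ ·) (proj_fst T τ f c t ht' a)
    exact h1

end K990.CohProp
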