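import Groth.Agent.CohProp.K990.Geo1
import Groth.Agent.S4827
import Groth.Agent.S0414
import Groth.Agent.S3401
import Groth.Agent.S1298

/-!
# Geometric input: spreading out
-/

set_option autoImplicit false
set_option linter.unusedSectionVars false
set_option linter.unusedVariables false
set_option backward.isDefEq.respectTransparency.types false
universe u

open CategoryTheory CategoryTheory.Limits AlgebraicGeometry Opposite IsLocalRing TopologicalSpace

namespace K990.CohProp

/-- Two field-valued points with the same image have a common refinement. -/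
theorem exists_common_field {T : Scheme.{u}} {K₁ K₂ : Type u} [Field K₁] [Field K₂]
    (k₁ : Spec (CommRingCat.of K₁) ⟶ T) (k₂ : Spec (CommRingCat.of K₂) ⟶ T)
    (h : k₁ default = k₂ default) : ∃ (M : Type u) (_ : Field M) (φ₁ : K₁ →+* M) (φ₂ : K₂ →+* M),
      Spec.map (CommRingCat.ofHom φ₁) ≫ k₁ = Spec.map (CommRingCat.ofHom φ₂) ≫ k₂ := by
  obtain ⟨w, -, -⟩ := Scheme.Pullback.exists_preimage_pullback _ _ h
  let m := (pullback k₁ k₂).fromSpecResidueField w
  refine ⟨(pullback k₁ k₂).residueField w, inferInstance,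
    (Spec.preimage (show Spec (CommRingCat.of ((pullback k₁ k₂).residueField w)) ⟶ _ from
      m ≫ pullback.fst k₁ k₂)).hom,
    (Spec.preimage (show Spec (CommRingCat.of ((pullback k₁ k₂).residueField w)) ⟶ _ from
      m ≫ pullback.snd k₁ k₂)).hom, ?_⟩
  rw [CommRingCat.ofHom_hom, CommRingCat.ofHom_hom, Spec.map_preimage, Spec.map_preimage]
  change (m ≫ pullback.fst k₁ k₂) ≫ k₁ = (m ≫ pullback.snd k₁ k₂) ≫ k₂
  rw [Category.assoc, Category.assoc, pullback.condition]

theorem flat_specMap_field {K M : Type u} [Field K] [Field M] (φ : K →+* M) :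
    Flat (Spec.map (CommRingCat.ofHom φ)) := by
  let _ : Algebra K M := φ.toAlgebra
  rw [HasRingHomProperty.Spec_iff (P := @Flat)]
  exact inferInstanceAs (Module.Flat K M)

theorem surjective_specMap_field {K M : Type u} [Field K] [Field M] (φ : K →+* M) :
    Surjective (Spec.map (CommRingCat.ofHom φ)) :=
  ⟨fun x => ⟨default, Subsingleton.elim _ _⟩⟩

section

variable {Z T : Scheme.{u}} (h : Z ⟶ T)

/-- Normality of the base change along a field-valued point. -/
def NormalAt {K : Type u} [Field K] (k : Spec (CommRingCat.of K) ⟶ T) : Prop :=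
  Pi1.IsNormalScheme (pullback h k)

theorem isNormalScheme_of_iso {X Y : Scheme.{u}} (e : X ≅ Y) (h : Pi1.IsNormalScheme Y) :
    Pi1.IsNormalScheme X := fun x => normal_of_stalkIso e.hom x (h (e.hom x))

variable {h}

theorem NormalAt.of_isPullback {K : Type u} [Field K] {k : Spec (CommRingCat.of K) ⟶ T}
    (H : NormalAt h k) {F : Scheme.{u}} {a : F ⟶ Z} {b : F ⟶ Spec (CommRingCat.of K)}
    (hF : IsPullback a b h k) : Pi1.IsNormalScheme F :=
  isNormalScheme_of_iso (hF.isoIsPullback _ _ (IsPullback.of_hasPullback _ _)) H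

theorem NormalAt.up {K M : Type u} [Field K] [IsAlgClosed K] [Field M]
    {k : Spec (CommRingCat.of K) ⟶ T} (H : NormalAt h k) (φ : K →+* M) :
    NormalAt h (Spec.map (CommRingCat.ofHom φ) ≫ k) := by
  have h0 : IsPullback (pullback.fst h k) (pullback.snd h k) h k := IsPullback.of_hasPullback _ _
  have h1 : IsPullback (pullback.fst (pullback.snd h k) (Spec.map (CommRingCat.ofHom φ)))
    (pullback.snd (pullback.snd h k) (Spec.map (CommRingCat.ofHom φ))) (pullback.snd h k)
    (Spec.map (CommRingCat.ofHom φ)) := IsPullback.of_hasPullback _ _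
  have h2 := isNormalScheme_bc (pullback.snd h k) H M φ h1
  have h3 := h1.paste_horiz h0
  exact isNormalScheme_of_iso ((IsPullback.of_hasPullback _ _).isoIsPullback _ _ h3) h2

theorem NormalAt.down {K M : Type u} [Field K] [Field M]
    {k : Spec (CommRingCat.of K) ⟶ T} (φ : K →+* M)
    (H : NormalAt h (Spec.map (CommRingCat.ofHom φ) ≫ k)) : NormalAt h k := by
  have h0 : IsPullback (pullback.fst h k) (pullback.snd h k) h k := IsPullback.of_hasPullback _ _
  have h1 : IsPullback (pullback.fst (pullback.snd h k) (Spec.map (CommRingCat.ofHom φ)))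
    (pullback.snd (pullback.snd h k) (Spec.map (CommRingCat.ofHom φ))) (pullback.snd h k)
    (Spec.map (CommRingCat.ofHom φ)) := IsPullback.of_hasPullback _ _
  have h3 := H.of_isPullback (h1.paste_horiz h0)
  have h4 := flat_specMap_field φ
  have h5 := surjective_specMap_field φ
  intro z
  obtain ⟨w, rfl⟩ := (pullback.fst (pullback.snd h k) (Spec.map (CommRingCat.ofHom φ))).surjective z
  exact normal_of_flat _ w (h3 w)

theorem NormalAt.transfer {K K' : Type u} [Field K] [IsAlgClosed K] [Field K']
    {k : Spec (CommRingCat.of K) ⟶ T} (H : NormalAt h k) (k' : Spec (CommRingCat.of K') ⟶ T)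
    (e : k default = k' default) : NormalAt h k' := by
  obtain ⟨M, _, φ, φ', hφ⟩ := exists_common_field k k' e
  have h1 := H.up φ
  rw [hφ] at h1
  exact h1.down φ'

end

/-- Field-valued points factor through residue fields. -/
theorem exists_residue_factor {T : Scheme.{u}} {K : Type u} [Field K]
    (k : Spec (CommRingCat.of K) ⟶ T) : ∃ (t : T) (φ : T.residueField t →+* K), k default = t ∧
      Spec.map (CommRingCat.ofHom φ) ≫ T.fromSpecResidueField t = k := by
  obtain ⟨⟨t, φ⟩, rfl⟩ := (Scheme.SpecToEquivOfField _ _).symm.surjective k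
  simp only [Scheme.SpecToEquivOfField, Equiv.coe_fn_symm_mk]
  refine ⟨t, φ.hom, ?_, rfl⟩
  rw [Scheme.Hom.comp_apply]
  exact Scheme.fromSpecResidueField_apply _ _

/-- Base changes along field-valued points factor through fibres. -/
theorem exists_fibre_factor {Z T : Scheme.{u}} (h : Z ⟶ T) {K : Type u} [Field K]
    (k : Spec (CommRingCat.of K) ⟶ T) {F : Scheme.{u}} {a : F ⟶ Z} {b : F ⟶ Spec (CommRingCat.of K)}
    (hF : IsPullback a b h k) : ∃ (t : T) (φ : T.residueField t →+* K) (r : F ⟶ h.fiber t),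
      k default = t ∧ Spec.map (CommRingCat.ofHom φ) ≫ T.fromSpecResidueField t = k ∧
      IsPullback r b (h.fiberToSpecResidueField t) (Spec.map (CommRingCat.ofHom φ)) ∧
      r ≫ h.fiberι t = a := by
  obtain ⟨t, φ, ht, rfl⟩ := exists_residue_factor k
  have h0 : IsPullback (h.fiberι t) (h.fiberToSpecResidueField t) h (T.fromSpecResidueField t) :=
    IsPullback.of_hasPullback _ _
  let r : F ⟶ h.fiber t := h0.lift a (b ≫ Spec.map (CommRingCat.ofHom φ)) (by
    rw [Category.assoc]; exact hF.w)
  have hr1 : r ≫ h.fiberι t = a := h0.lift_fst _ _ _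
  have hr2 : r ≫ h.fiberToSpecResidueField t = b ≫ Spec.map (CommRingCat.ofHom φ) := h0.lift_snd _ _ _
  refine ⟨t, φ, r, ht, rfl, ?_, hr1⟩
  refine IsPullback.of_right (h₁₂ := h.fiberι t) (v₁₃ := h) (h₂₂ := T.fromSpecResidueField t) ?_ hr2 h0
  rw [hr1]
  exact hF

theorem normalAt_iff {Z T : Scheme.{u}} (h : Z ⟶ T) (t : T) :
    (∀ (K : Type u) [Field K] [Algebra (IsLocalRing.ResidueField (T.presheaf.stalk t)) K]
        (x' : ↥(FBase.bc (h.fiberToSpecResidueField t) K)),
        IsDomain ((FBase.bc (h.fiberToSpecResidueField t) K).presheaf.stalk x') ∧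
          IsIntegrallyClosed ((FBase.bc (h.fiberToSpecResidueField t) K).presheaf.stalk x')) ↔
    ∀ (K : Type u) [Field K] (k : Spec (CommRingCat.of K) ⟶ T), k default = t → NormalAt h k := by
  constructor
  · intro H K _ k hk
    obtain ⟨t', φ, r, ht, hφ, hpb, hr⟩ := exists_fibre_factor h k (IsPullback.of_hasPullback _ _)
    obtain rfl : t' = t := ht.symm.trans hk
    let _ : Algebra (IsLocalRing.ResidueField (T.presheaf.stalk t')) K := φ.toAlgebra
    have h1 : Pi1.IsNormalScheme (FBase.bc (h.fiberToSpecResidueField t') K) := H K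
    exact isNormalScheme_of_iso (hpb.isoIsPullback _ _ (IsPullback.of_hasPullback _ _)) h1
  · intro H K _ _ x'
    let φ : T.residueField t →+* K := algebraMap (IsLocalRing.ResidueField (T.presheaf.stalk t)) K
    have h1 := H K (Spec.map (CommRingCat.ofHom φ) ≫ T.fromSpecResidueField t) (by
      rw [Scheme.Hom.comp_apply]
      exact Scheme.fromSpecResidueField_apply _ _)
    have h0 : IsPullback (h.fiberι t) (h.fiberToSpecResidueField t) h (T.fromSpecResidueField t) :=
      IsPullback.of_hasPullback _ _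
    have h2 : IsPullback (pullback.fst (h.fiberToSpecResidueField t) (Spec.map (CommRingCat.ofHom φ)))
      (pullback.snd (h.fiberToSpecResidueField t) (Spec.map (CommRingCat.ofHom φ)))
      (h.fiberToSpecResidueField t) (Spec.map (CommRingCat.ofHom φ)) := IsPullback.of_hasPullback _ _
    exact h1.of_isPullback (h2.paste_horiz h0) x'

/-- Points outside a nowhere dense closed subset generize every point. -/
theorem exists_generization {α : Type u} [TopologicalSpace α] [NoetherianSpace α] [QuasiSober α]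
    {C : Set α} (hC : IsClosed C) (hn : IsNowhereDense C) (z : α) : ∃ y, y ⤳ z ∧ y ∉ C := by
  obtain ⟨y, hy⟩ := QuasiSober.sober (isIrreducible_irreducibleComponent (x := z))
    isClosed_irreducibleComponent
  refine ⟨y, ?_, fun hyC => ?_⟩
  · rw [specializes_iff_mem_closure, hy.def]
    exact mem_irreducibleComponent
  · obtain ⟨o, ho, hone, hoZ⟩ :=
      TopologicalSpace.NoetherianSpace.exists_isOpen_nonempty_subset_irreducibleComponent
        (irreducibleComponent z) (irreducibleComponent_mem_irreducibleComponents _)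
    have h1 : irreducibleComponent z ⊆ C := by
      rw [← hy.def]
      exact closure_minimal (Set.singleton_subset_iff.2 hyC) hC
    have h2 : o ⊆ interior (closure C) :=
      interior_maximal ((hoZ.trans h1).trans subset_closure) ho
    rw [hn] at h2
    exact hone.ne_empty (Set.subset_empty_iff.1 h2)

theorem isPullback_restrict_of_le {Z T : Scheme.{u}} (h : Z ⟶ T) {O O' : T.Opens} (hle : O ≤ O') :
    IsPullback (Z.homOfLE (h.preimage_mono hle)) (h ∣_ O) (h ∣_ O') (T.homOfLE hle) := by
  have h1 := (isPullback_morphismRestrict h O).flip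
  have h2 := (isPullback_morphismRestrict h O').flip
  refine IsPullback.of_right (h₁₂ := (h ⁻¹ᵁ O').ι) (v₁₃ := h) (h₂₂ := O'.ι) ?_ ?_ h2
  · rw [Scheme.homOfLE_ι, Scheme.homOfLE_ι]
    exact h1
  · rw [← cancel_mono O'.ι, Category.assoc, h2.w.symm, Category.assoc, Scheme.homOfLE_ι,
      Scheme.homOfLE_ι_assoc, h1.w]

theorem morphismRestrict_of_le {Z T : Scheme.{u}} (h : Z ⟶ T) {O O' : T.Opens} (hle : O ≤ O')
    (P : MorphismProperty Scheme.{u}) [P.IsStableUnderBaseChange] (hP : P (h ∣_ O')) : P (h ∣_ O) :=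
  MorphismProperty.of_isPullback (isPullback_restrict_of_le h hle) hP

/-- Spreading out niceness. -/
theorem exists_nice_open {Z T : Scheme.{u}} [IsIntegral T] [AlgebraicGeometry.IsNoetherian T]
    (h : Z ⟶ T) [LocallyOfFiniteType h] [QuasiCompact h] [QuasiSeparated h] (V : Z.Opens) {K : Type u} [Field K]
    [IsAlgClosed K] (k : Spec (CommRingCat.of K) ⟶ T) (hk : k default = genericPoint T)
    {N : Scheme.{u}} [IsIntegral N] (hN : Pi1.IsNormalScheme N) {e : N ⟶ Z}
    {p : N ⟶ Spec (CommRingCat.of K)} (hpb : IsPullback e p h k) (he : e (genericPoint N) ∈ V) :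
    ∃ O : T.Opens, genericPoint T ∈ O ∧ Nice (h ∣_ O) ((h ⁻¹ᵁ O).ι ⁻¹ᵁ V) := by
  have hlfp : LocallyOfFinitePresentation h := inferInstance
  have hZ : AlgebraicGeometry.IsNoetherian Z := isNoetherian_of_ft h
  -- normality
  have hE := Groth.Agent.S4827.result h
  have hNk : NormalAt h k := isNormalScheme_of_iso ((IsPullback.of_hasPullback _ _).isoIsPullback _ _ hpb) hN
  obtain ⟨Oa, hOa, hOa', hOa''⟩ := Groth.Agent.S3401.exists_open_iff_of_isLocallyConstructible hE (genericPoint T)
  have hgen : ∀ (K' : Type u) [Field K'] (k' : Spec (CommRingCat.of K') ⟶ T),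
      k' default = genericPoint T → NormalAt h k' := fun K' _ k' hk' =>
    hNk.transfer k' (hk.trans hk'.symm)
  have hnorm : ∀ t ∈ Oa, ∀ (K' : Type u) [Field K'] (k' : Spec (CommRingCat.of K') ⟶ T),
      k' default = t → NormalAt h k' := by
    intro t ht
    rw [← normalAt_iff]
    exact (hOa'' t ht (genericPoint_specializes t)).2 ((normalAt_iff h _).2 hgen)
  -- flatness
  obtain ⟨Ob, hOb, hfl, hfp⟩ := Groth.Agent.S0414.result h
  have hOb' : genericPoint T ∈ Ob := by
    obtain ⟨t, ht⟩ := hOb.nonempty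
    exact (genericPoint_specializes t).mem_open Ob.2 ht
  -- density
  obtain ⟨Oc, hOc, hOc'⟩ := Groth.Agent.S1298.result h (V : Set Z)ᶜ V.2.isClosed_compl (by
    obtain ⟨t, φ, r, ht, hφ, hpr, hr⟩ := exists_fibre_factor h k hpb
    obtain rfl : t = genericPoint T := ht.symm.trans hk
    have hs := surjective_specMap_field φ
    have hr' : Surjective r := MorphismProperty.of_isPullback (P := @Surjective) hpr.flip hs
    have hirr : IrreducibleSpace ↥(h.fiber (genericPoint T)) :=
      hr'.1.irreducibleSpace r.continuous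
    have hcl : IsClosed ((h.fiberι (genericPoint T)) ⁻¹' (V : Set Z)ᶜ) :=
      V.2.isClosed_compl.preimage (h.fiberι (genericPoint T)).continuous
    rw [IsNowhereDense, hcl.closure_eq]
    by_contra hne
    obtain ⟨z, hz, hz'⟩ := nonempty_preirreducible_inter isOpen_interior
      (V.2.preimage (h.fiberι (genericPoint T)).continuous) (Set.nonempty_iff_ne_empty.2 hne)
      ⟨r (genericPoint N), by
        change (h.fiberι (genericPoint T)) (r (genericPoint N)) ∈ V
        rw [← Scheme.Hom.comp_apply, hr]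
        exact he⟩
    exact interior_subset hz hz')
  have hOc'' : genericPoint T ∈ Oc := by
    obtain ⟨t, ht⟩ := hOc
    exact (genericPoint_specializes t).mem_open Oc.2 ht
  let O : T.Opens := ⟨Oa, hOa⟩ ⊓ Ob ⊓ Oc
  refine ⟨O, ⟨⟨hOa', hOb'⟩, hOc''⟩, ?_⟩
  have hO := isPullback_morphismRestrict h O
  have hOf : ∀ (P : MorphismProperty Scheme.{u}) [P.IsStableUnderBaseChange], P (h ∣_ Ob) →
      P (h ∣_ O) := by
    intro P _ hP
    exact morphismRestrict_of_le h (show O ≤ Ob from fun x hx => hx.1.2) P hP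
  refine ⟨hOf @Flat hfl, hOf @LocallyOfFinitePresentation hfp, inferInstance, ?_, ?_⟩
  · intro K' _ k' F a b hF z
    have h1 : IsPullback (a ≫ (h ⁻¹ᵁ O).ι) b h (k' ≫ O.ι) := hF.paste_horiz hO.flip
    exact (hnorm _ (k' default).2.1.1 K' (k' ≫ O.ι) rfl).of_isPullback h1 z
  · intro K' _ k' F a b hF z
    have h1 : IsPullback (a ≫ (h ⁻¹ᵁ O).ι) b h (k' ≫ O.ι) := hF.paste_horiz hO.flip
    obtain ⟨t, φ, r, ht, hφ, hpr, hr⟩ := exists_fibre_factor h (k' ≫ O.ι) h1
    have htO : t ∈ O := by rw [← ht]; exact (k' default).2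
    have hnF : AlgebraicGeometry.IsNoetherian (h.fiber t) := by
      have h1 : LocallyOfFiniteType (h.fiberToSpecResidueField t) :=
        MorphismProperty.pullback_snd _ _ inferInstance
      have h2 : QuasiCompact (h.fiberToSpecResidueField t) :=
        MorphismProperty.pullback_snd _ _ inferInstance
      exact isNoetherian_of_ft (h.fiberToSpecResidueField t)
    obtain ⟨y, hy, hy'⟩ := exists_generization
      (V.2.isClosed_compl.preimage (h.fiberι t).continuous) (hOc' t htO.2) (r z)
    have hfφ := flat_specMap_field φ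
    have hrf : Flat r := MorphismProperty.of_isPullback (P := @Flat) hpr.flip hfφ
    obtain ⟨y', hy1, hy2⟩ := Flat.generalizingMap r hy
    refine ⟨y', ?_, hy1⟩
    change (h ⁻¹ᵁ O).ι (a y') ∈ V
    rw [← Scheme.Hom.comp_apply, ← hr, Scheme.Hom.comp_apply, hy2]
    by_contra hc
    exact hy' hc

end K990.CohProp
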