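import Groth.Agent.CohProp.K990.Geo2
import Groth.Agent.CohProp.K990.Geo3
import Groth.Agent.S2080
import Groth.Agent.S0384

/-!
# Geometric input: assembly
-/

set_option autoImplicit false
set_option linter.unusedSectionVars false
set_option linter.unusedVariables false
set_option backward.isDefEq.respectTransparency.types false
universe u

open CategoryTheory CategoryTheory.Limits AlgebraicGeometry Opposite IsLocalRing TopologicalSpace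

namespace K990.CohProp

section Alg

variable {R : Type u} [CommRing R] (p : Ideal R) [p.IsPrime]
  (B : Subalgebra R (AlgebraicClosure p.ResidueField))

/-- Nonzero elements divide elements of the base outside `p`. -/
theorem exists_multiple (x : B) (hx : x ≠ 0) : ∃ a : R, a ∉ p ∧ ∃ y : B, algebraMap R B a = x * y := by
  have h1 : IsAlgebraic p.ResidueField (x : AlgebraicClosure p.ResidueField) :=
    Algebra.IsAlgebraic.isAlgebraic _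
  rw [← IsFractionRing.isAlgebraic_iff (R ⧸ p) p.ResidueField (AlgebraicClosure p.ResidueField)] at h1
  have hx' : (x : AlgebraicClosure p.ResidueField) ≠ 0 := fun h => hx (Subtype.ext h)
  obtain ⟨g, hg0, hg⟩ := h1.exists_nonzero_coeff_and_aeval_eq_zero (mem_nonZeroDivisors_of_ne_zero hx')
  obtain ⟨g', rfl⟩ := Polynomial.map_surjective (Ideal.Quotient.mk p) Ideal.Quotient.mk_surjective g
  have h2 : g'.coeff 0 ∉ p := by
    intro h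
    apply hg0
    rw [Polynomial.coeff_map, Ideal.Quotient.eq_zero_iff_mem.2 h]
  have h3 : Polynomial.aeval (x : AlgebraicClosure p.ResidueField) g' = 0 := by
    have : (Polynomial.aeval (x : AlgebraicClosure p.ResidueField)) (g'.map (algebraMap R (R ⧸ p))) = 0 := hg
    rwa [Polynomial.aeval_map_algebraMap] at this
  have h4 : Polynomial.aeval x g' = 0 := by
    apply Subtype.ext
    have : B.val (Polynomial.aeval x g') = Polynomial.aeval (B.val x) g' := by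
      rw [Polynomial.aeval_algHom_apply]
    exact this.trans h3
  refine ⟨-g'.coeff 0, fun h => h2 (by simpa using h), Polynomial.aeval x g'.divX, ?_⟩
  have h5 := Polynomial.divX_mul_X_add g'
  rw [← h5, map_add, map_mul, Polynomial.aeval_X, Polynomial.aeval_C] at h4
  rw [map_neg, mul_comm]
  exact (eq_neg_of_add_eq_zero_left h4).symm

/-- Primes over `p` are zero. -/
theorem eq_bot_of_comap (P : Ideal B) [P.IsPrime] (h : P.comap (algebraMap R B) = p) : P = ⊥ := by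
  rw [eq_bot_iff]
  intro x hx
  by_contra hx0
  obtain ⟨a, ha, y, hy⟩ := exists_multiple p B x hx0
  apply ha
  rw [← h, Ideal.mem_comap, hy]
  exact P.mul_mem_right _ hx

end Alg

section Base

variable {S : Scheme.{u}} [AlgebraicGeometry.IsNoetherian S] {V : S.Opens} (hV : IsAffineOpen V)
  (p : PrimeSpectrum Γ(S, V))
  (B : Subalgebra Γ(S, V) (AlgebraicClosure p.asIdeal.ResidueField))

/-- The structure map of a subalgebra. -/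
noncomputable def tauB : Spec (CommRingCat.of B) ⟶ S :=
  Spec.map (CommRingCat.ofHom (algebraMap Γ(S, V) B)) ≫ hV.fromSpec

theorem closure_mem_irreducibleComponents {η : S} (hη : ∀ s : S, s ⤳ η → s = η) :
    closure {η} ∈ irreducibleComponents S := by
  refine ⟨isIrreducible_singleton.closure, ?_⟩
  intro Z hZ hle
  obtain ⟨s, hs⟩ := QuasiSober.sober hZ.closure isClosed_closure
  have h1 : η ∈ closure {s} := by
    rw [hs.def]
    exact subset_closure (hle (subset_closure rfl))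
  have h2 := hη s (specializes_iff_mem_closure.2 h1)
  rw [← h2, hs.def]
  exact subset_closure

theorem exists_base_open (hB : B.FG) {η : S} (hη : ∀ s : S, s ⤳ η → s = η) (hp : hV.fromSpec p = η)
    (O : (Spec (CommRingCat.of B)).Opens) (hO : (⟨⊥, inferInstance⟩ : PrimeSpectrum B) ∈ O) :
    ∃ P : S.Opens, η ∈ P ∧ tauB hV p B ⁻¹ᵁ P ≤ O ∧ IsFinite (tauB hV p B ∣_ P) := by
  have hNR : IsNoetherianRing Γ(S, V) := IsLocallyNoetherian.component_noetherian ⟨V, hV⟩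
  have hinj : Function.Injective hV.fromSpec := hV.isOpenImmersion_fromSpec.base_open.injective
  -- finiteness
  have hft : Algebra.FiniteType Γ(S, V) B := B.fg_iff_finiteType.1 hB
  have i1 : LocallyOfFiniteType (Spec.map (CommRingCat.ofHom (algebraMap Γ(S, V) B))) := by
    rw [HasRingHomProperty.Spec_iff (P := @LocallyOfFiniteType)]
    exact RingHom.finiteType_algebraMap.2 hft
  have i2 : LocallyOfFiniteType (tauB hV p B) := by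
    unfold tauB; infer_instance
  have i3 : QuasiCompact (tauB hV p B) := by
    unfold tauB; infer_instance
  have i4 : QuasiSeparated (tauB hV p B) := by
    unfold tauB; infer_instance
  have hfib : (tauB hV p B ⁻¹' {η}).Finite := by
    refine Set.Finite.subset (Set.finite_singleton (⟨⊥, inferInstance⟩ : PrimeSpectrum B)) ?_
    intro P hP
    have h1 : hV.fromSpec (Spec.map (CommRingCat.ofHom (algebraMap Γ(S, V) B)) P) = hV.fromSpec p := by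
      rw [hp]; exact hP
    have h2 := hinj h1
    have h3 : (P : PrimeSpectrum B).asIdeal.comap (algebraMap Γ(S, V) B) = p.asIdeal :=
      congrArg PrimeSpectrum.asIdeal h2
    exact PrimeSpectrum.ext (eq_bot_of_comap p.asIdeal B _ h3)
  obtain ⟨P₂, -, hP₂, hfin⟩ := (Groth.Agent.S2080.result (tauB hV p B) η
    (closure_mem_irreducibleComponents hη)).1 hfib
  -- the good locus
  obtain ⟨_, ⟨x, rfl⟩, hx, hxO⟩ := PrimeSpectrum.isTopologicalBasis_basic_opens.exists_subset_of_mem_open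
    hO O.2
  have hx0 : x ≠ 0 := by
    intro h
    apply hx
    rw [h]
    exact Ideal.zero_mem _
  obtain ⟨a, ha, y, hy⟩ := exists_multiple p.asIdeal B x hx0
  let P₁ : S.Opens := hV.fromSpec ''ᵁ (PrimeSpectrum.basicOpen a)
  have hP₁ : η ∈ P₁ := ⟨p, ha, hp⟩
  refine ⟨P₁ ⊓ P₂, ⟨hP₁, hP₂⟩, ?_, ?_⟩
  · rintro P ⟨⟨P', hP', e⟩, -⟩
    have h2 : P' = Spec.map (CommRingCat.ofHom (algebraMap Γ(S, V) B)) P := hinj e
    apply hxO
    intro hxP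
    apply hP'
    rw [h2]
    change algebraMap Γ(S, V) B a ∈ (P : PrimeSpectrum B).asIdeal
    rw [hy]
    exact Ideal.mul_mem_right _ _ hxP
  · exact morphismRestrict_of_le _ (show P₁ ⊓ P₂ ≤ P₂ from inf_le_right) @IsFinite hfin

end Base

/-- Base change of restrictions. -/
theorem exists_isPullback_restrict {A X B S : Scheme.{u}} {a : A ⟶ X} {b : A ⟶ B} {f : X ⟶ S}
    {g : B ⟶ S} (h : IsPullback a b f g) (O : S.Opens) :
    ∃ l : (b ⁻¹ᵁ g ⁻¹ᵁ O).toScheme ⟶ (f ⁻¹ᵁ O).toScheme,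
      IsPullback l (b ∣_ (g ⁻¹ᵁ O)) (f ∣_ O) (g ∣_ O) := by
  have h1 := (isPullback_morphismRestrict b (g ⁻¹ᵁ O)).flip
  have h2 := (isPullback_morphismRestrict f O).flip
  have h3 : IsPullback ((b ⁻¹ᵁ g ⁻¹ᵁ O).ι ≫ a) (b ∣_ (g ⁻¹ᵁ O)) f ((g ∣_ O) ≫ O.ι) := by
    rw [(isPullback_morphismRestrict g O).w]
    exact h1.paste_horiz h
  let l : (b ⁻¹ᵁ g ⁻¹ᵁ O).toScheme ⟶ (f ⁻¹ᵁ O).toScheme :=
    h2.lift ((b ⁻¹ᵁ g ⁻¹ᵁ O).ι ≫ a) ((b ∣_ (g ⁻¹ᵁ O)) ≫ (g ∣_ O)) (by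
      rw [Category.assoc (b ∣_ (g ⁻¹ᵁ O))]; exact h3.w)
  have hl1 : l ≫ (f ⁻¹ᵁ O).ι = (b ⁻¹ᵁ g ⁻¹ᵁ O).ι ≫ a := h2.lift_fst _ _ _
  have hl2 : l ≫ (f ∣_ O) = (b ∣_ (g ⁻¹ᵁ O)) ≫ (g ∣_ O) := h2.lift_snd _ _ _
  refine ⟨l, IsPullback.of_right (h₁₂ := (f ⁻¹ᵁ O).ι) (v₁₃ := f) (h₂₂ := O.ι) ?_ hl2 h2⟩
  rw [hl1]
  exact h3

theorem ClBijOn.of_iso {W W' Y S : Scheme.{u}} {q : Y ⟶ S} {P : Set S} {g : W ⟶ Y} {g' : W' ⟶ Y}
    (h : ClBijOn q P g') (e : W ≅ W') (he : e.hom ≫ g' = g) : ClBijOn q P g := by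
  intro XA XA' x a hx
  have h1 : IsTest q P (e.inv ≫ g) (x ≫ e.hom) a := by
    refine hx.pullback (r := e.inv) (w := x ≫ e.hom) (rA := 𝟙 _) (b := a) (rA' := 𝟙 _) ?_ ?_
    · exact IsPullback.of_vert_isIso ⟨by simp⟩
    · exact IsPullback.of_vert_isIso ⟨by simp⟩
  have h2 : e.inv ≫ g = g' := by rw [← he, e.inv_hom_id_assoc]
  rw [h2] at h1
  exact h _ _ h1

theorem isIso_ι_restrict {Z : Scheme.{u}} (U O : Z.Opens) (h : O ≤ U) : IsIso (U.ι ∣_ O) := by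
  have : Surjective (U.ι ∣_ O) := by
    refine ⟨fun x => ?_⟩
    refine ⟨⟨⟨x.1, h x.2⟩, x.2⟩, ?_⟩
    apply O.ι.isOpenEmbedding.injective
    rw [← Scheme.Hom.comp_apply, (isPullback_morphismRestrict U.ι O).w]
    rfl
  exact (isIso_iff_isOpenImmersion_and_surjective _).2 ⟨inferInstance, this⟩

/-- The last step of the construction. -/
theorem geo_finish {X Y S Xb T W : Scheme.{u}} (f : X ⟶ Y) (q : Y ⟶ S) (jb : X ⟶ Xb) [IsOpenImmersion jb]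
    (gb : Xb ⟶ Y) [IsProper gb] (hfac : jb ≫ gb = f) [IsIntegral X]
    (hgenb : IsGenericPoint (jb (genericPoint X)) (Set.univ : Set Xb)) (τ : T ⟶ S)
    (r : W ⟶ pullback (gb ≫ q) τ) [IsFinite r] [AlgebraicGeometry.IsNoetherian W]
    [AlgebraicGeometry.IsNoetherian Y]
    (w₀ : W) (hw₀ : (r ≫ pullback.fst (gb ≫ q) τ) w₀ = jb (genericPoint X)) (O : T.Opens)
    (hnice : Nice ((r ≫ pullback.snd (gb ≫ q) τ) ∣_ O)
      (((r ≫ pullback.snd (gb ≫ q) τ) ⁻¹ᵁ O).ι ⁻¹ᵁ ((r ≫ pullback.fst (gb ≫ q) τ) ⁻¹ᵁ jb.opensRange)))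
    (P : S.Opens) (hηP : q (gb (jb (genericPoint X))) ∈ P) (hPO : τ ⁻¹ᵁ P ≤ O) (hfin : IsFinite (τ ∣_ P)) :
    ∃ (W' : Scheme.{u}) (r₀ : W' ⟶ (f ⁻¹ᵁ q ⁻¹ᵁ P).toScheme), IsFinite r₀ ∧ Surjective r₀ ∧
      ClBijOn q P ((r₀ ≫ (f ⁻¹ᵁ q ⁻¹ᵁ P).ι) ≫ f) := by
  let rX : W ⟶ Xb := r ≫ pullback.fst (gb ≫ q) τ
  let h₀ : W ⟶ T := r ≫ pullback.snd (gb ≫ q) τ
  let Vo : W.Opens := rX ⁻¹ᵁ jb.opensRange
  let U : T.Opens := τ ⁻¹ᵁ P
  have hcomm : rX ≫ gb ≫ q = h₀ ≫ τ := by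
    change (r ≫ pullback.fst (gb ≫ q) τ) ≫ gb ≫ q = (r ≫ pullback.snd (gb ≫ q) τ) ≫ τ
    rw [Category.assoc, pullback.condition, Category.assoc]
  have hniceP : Nice (h₀ ∣_ U) ((h₀ ⁻¹ᵁ U).ι ⁻¹ᵁ Vo) := by
    have h1 := hnice.of_isPullback (isPullback_restrict_of_le h₀ hPO)
    have h2 : (W.homOfLE (h₀.preimage_mono hPO)) ⁻¹ᵁ ((h₀ ⁻¹ᵁ O).ι ⁻¹ᵁ Vo) =
        (h₀ ⁻¹ᵁ (τ ⁻¹ᵁ P)).ι ⁻¹ᵁ Vo := by
      have h3 : W.homOfLE (h₀.preimage_mono hPO) ≫ (h₀ ⁻¹ᵁ O).ι = (h₀ ⁻¹ᵁ (τ ⁻¹ᵁ P)).ι :=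
        Scheme.homOfLE_ι _ _
      exact congrArg (fun z => z ⁻¹ᵁ Vo) h3
    have h4 : Nice (h₀ ∣_ U) ((W.homOfLE (h₀.preimage_mono hPO)) ⁻¹ᵁ ((h₀ ⁻¹ᵁ O).ι ⁻¹ᵁ Vo)) := h1
    exact h2 ▸ h4
  -- finiteness over `P`
  let Q : Xb.Opens := gb ⁻¹ᵁ q ⁻¹ᵁ P
  have hfst : IsFinite ((pullback.fst (gb ≫ q) τ) ∣_ Q) := by
    obtain ⟨l, hl⟩ := exists_isPullback_restrict (IsPullback.of_hasPullback (gb ≫ q) τ).flip P
    exact MorphismProperty.of_isPullback (P := @IsFinite) hl hfin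
  have hrXQ : IsFinite (rX ∣_ Q) := by
    change IsFinite ((r ≫ pullback.fst (gb ≫ q) τ) ∣_ Q)
    rw [morphismRestrict_comp]
    have : IsFinite (r ∣_ ((pullback.fst (gb ≫ q) τ) ⁻¹ᵁ Q)) :=
      MorphismProperty.of_isPullback (P := @IsFinite) (isPullback_morphismRestrict r _).flip inferInstance
    exact MorphismProperty.comp_mem @IsFinite _ _ this hfst
  have hηQ : jb (genericPoint X) ∈ Q := hηP
  have hrXs : Surjective (rX ∣_ Q) := by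
    refine ⟨fun y => ?_⟩
    have h1 : IsClosed (Set.range (rX ∣_ Q)) := (rX ∣_ Q).isClosedMap.isClosed_range
    let x₀ : ↥Q.toScheme := (⟨jb (genericPoint X), hηQ⟩ : Q)
    have h2 : x₀ ∈ Set.range (rX ∣_ Q) := by
      refine ⟨⟨w₀, ?_⟩, ?_⟩
      · change rX w₀ ∈ Q
        rw [show rX w₀ = jb (genericPoint X) from hw₀]; exact hηQ
      · apply Q.ι.isOpenEmbedding.injective
        rw [← Scheme.Hom.comp_apply, (isPullback_morphismRestrict rX Q).w]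
        exact hw₀
    have h3 : x₀ ⤳ y := by
      have h4 : Q.ι x₀ ⤳ Q.ι y := hgenb.specializes trivial
      exact Q.ι.isOpenEmbedding.isInducing.specializes_iff.1 h4
    exact h3.mem_closed h1 h2
  -- properness
  let w : (h₀ ⁻¹ᵁ U).toScheme ⟶ Y := (h₀ ⁻¹ᵁ U).ι ≫ rX ≫ gb
  have hw : w ≫ q = (h₀ ∣_ U) ≫ (U.ι ≫ τ) := by
    have e1 : (h₀ ∣_ U) ≫ (U.ι ≫ τ) = (h₀ ⁻¹ᵁ U).ι ≫ (h₀ ≫ τ) := by
      rw [← Category.assoc, (isPullback_morphismRestrict h₀ U).w, Category.assoc]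
    have e2 : w ≫ q = (h₀ ⁻¹ᵁ U).ι ≫ (rX ≫ gb ≫ q) := by
      simp only [w, Category.assoc]
    rw [e1, e2, hcomm]
  have hUeq : (rX ≫ gb) ⁻¹ᵁ (q ⁻¹ᵁ P) = h₀ ⁻¹ᵁ U := by
    have : ((rX ≫ gb) ≫ q) ⁻¹ᵁ P = (h₀ ≫ τ) ⁻¹ᵁ P := by rw [Category.assoc, hcomm]
    exact this
  have hprop : IsProper (w ∣_ (q ⁻¹ᵁ P)) := by
    change IsProper (((h₀ ⁻¹ᵁ U).ι ≫ rX ≫ gb) ∣_ (q ⁻¹ᵁ P))
    rw [morphismRestrict_comp, morphismRestrict_comp]
    have h1 : IsIso ((h₀ ⁻¹ᵁ U).ι ∣_ ((rX ≫ gb) ⁻¹ᵁ (q ⁻¹ᵁ P))) := isIso_ι_restrict _ _ hUeq.le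
    have h2 : IsProper (gb ∣_ (q ⁻¹ᵁ P)) :=
      MorphismProperty.of_isPullback (P := @IsProper) (isPullback_morphismRestrict gb _).flip inferInstance
    have h3 : IsProper (rX ∣_ (gb ⁻¹ᵁ (q ⁻¹ᵁ P))) := by
      have : IsFinite (rX ∣_ Q) := hrXQ
      exact inferInstanceAs (IsProper (rX ∣_ Q))
    have h1' : IsProper ((h₀ ⁻¹ᵁ U).ι ∣_ ((rX ≫ gb) ⁻¹ᵁ (q ⁻¹ᵁ P))) := inferInstance
    exact MorphismProperty.comp_mem @IsProper _ _ h1' (MorphismProperty.comp_mem @IsProper _ _ h3 h2)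
  let Vz : (h₀ ⁻¹ᵁ U).toScheme.Opens := (h₀ ⁻¹ᵁ U).ι ⁻¹ᵁ Vo
  have hmain : ClBijOn q P (Vz.ι ≫ w) := clBijOn_of_nice hw hniceP P hprop
  -- the covering of `X`
  let OX : Xb.Opens := jb ''ᵁ (f ⁻¹ᵁ q ⁻¹ᵁ P)
  have hOXQ : OX ≤ Q := by
    rintro _ ⟨x, hx, rfl⟩
    have h2 : gb (jb x) = f x := by
      rw [← Scheme.Hom.comp_apply jb, hfac]
    change q (gb (jb x)) ∈ P
    rw [h2]
    exact hx
  have hfinO : IsFinite (rX ∣_ OX) := morphismRestrict_of_le _ hOXQ @IsFinite hrXQ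
  have hsurO : Surjective (rX ∣_ OX) := morphismRestrict_of_le _ hOXQ @Surjective hrXs
  let iso : (f ⁻¹ᵁ q ⁻¹ᵁ P).toScheme ≅ OX.toScheme := jb.isoImage (f ⁻¹ᵁ q ⁻¹ᵁ P)
  have hiso : iso.inv ≫ (f ⁻¹ᵁ q ⁻¹ᵁ P).ι ≫ jb = OX.ι := jb.isoImage_inv_ι _
  refine ⟨(rX ⁻¹ᵁ OX).toScheme, (rX ∣_ OX) ≫ iso.inv, inferInstance, inferInstance, ?_⟩
  have hOrange : Set.range (rX ⁻¹ᵁ OX).ι = Set.range (Vz.ι ≫ (h₀ ⁻¹ᵁ U).ι) := by
    ext x
    constructor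
    · rintro ⟨⟨x, y, hy, hyx⟩, rfl⟩
      have h1 : x ∈ h₀ ⁻¹ᵁ U := by
        rw [← hUeq]
        change q (gb (rX x)) ∈ P
        have h2 : gb (rX x) = f y := by
          have h3 : jb y = rX x := hyx
          rw [← h3, ← Scheme.Hom.comp_apply jb, hfac]
        rw [h2]
        exact hy
      exact ⟨⟨⟨x, h1⟩, ⟨y, hyx⟩⟩, rfl⟩
    · rintro ⟨⟨⟨x, h1⟩, ⟨y, hyx⟩⟩, rfl⟩
      rw [← hUeq] at h1
      refine ⟨⟨x, y, ?_, hyx⟩, rfl⟩
      change q (f y) ∈ P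
      have h2 : q (gb (rX x)) ∈ P := h1
      have h3 : jb y = rX x := hyx
      have h4 : f y = gb (rX x) := by
        rw [← h3, ← Scheme.Hom.comp_apply jb, hfac]
      rw [h4]
      exact h2
  have h4 : (IsOpenImmersion.isoOfRangeEq (rX ⁻¹ᵁ OX).ι (Vz.ι ≫ (h₀ ⁻¹ᵁ U).ι) hOrange).hom ≫
    (Vz.ι ≫ (h₀ ⁻¹ᵁ U).ι) = (rX ⁻¹ᵁ OX).ι := IsOpenImmersion.isoOfRangeEq_hom_fac _ _ _
  refine hmain.of_iso (IsOpenImmersion.isoOfRangeEq _ _ hOrange) ?_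
  have h5 : (((rX ∣_ OX) ≫ iso.inv) ≫ (f ⁻¹ᵁ q ⁻¹ᵁ P).ι) ≫ f = (rX ⁻¹ᵁ OX).ι ≫ rX ≫ gb := by
    calc (((rX ∣_ OX) ≫ iso.inv) ≫ (f ⁻¹ᵁ q ⁻¹ᵁ P).ι) ≫ f
        = (rX ∣_ OX) ≫ (iso.inv ≫ (f ⁻¹ᵁ q ⁻¹ᵁ P).ι ≫ jb) ≫ gb := by
          simp only [Category.assoc, hfac]
      _ = (rX ∣_ OX) ≫ OX.ι ≫ gb := by rw [hiso]
      _ = (rX ⁻¹ᵁ OX).ι ≫ rX ≫ gb := by
          rw [← Category.assoc, (isPullback_morphismRestrict rX OX).w, Category.assoc]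
  have h6 : (IsOpenImmersion.isoOfRangeEq (rX ⁻¹ᵁ OX).ι (Vz.ι ≫ (h₀ ⁻¹ᵁ U).ι) hOrange).hom ≫
      (Vz.ι ≫ w) = (rX ⁻¹ᵁ OX).ι ≫ rX ≫ gb := by
    have := congrArg (· ≫ rX ≫ gb) h4
    simpa only [w, Category.assoc] using this
  exact h6.trans h5.symm


end K990.CohProp
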