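import Groth.Agent.CohProp.K990.Geo5
import Groth.Agent.S0420
import Groth.Agent.S2501
import Groth.Agent.S4625
import Groth.Agent.Sga4A.DiscGeom

/-!
# Geometrically connected components over étale neighbourhoods of maximal points
-/

set_option autoImplicit false
set_option linter.unusedSectionVars false
set_option linter.unusedVariables false
set_option backward.isDefEq.respectTransparency.types false
universe u

open CategoryTheory CategoryTheory.Limits AlgebraicGeometry Opposite IsLocalRing TopologicalSpace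

namespace K990.CohProp

/-- A decomposition of `W` into opens which are universally open with geometrically connected fibres over
`V`. -/
structure GCData {W V : Scheme.{u}} (r : W ⟶ V) (A : Type u) where
  /-- the pieces -/
  D : A → W.Opens
  ex : ∀ z : W, ∃! α, z ∈ D α
  conn : ∀ α, GeometricallyConnected ((D α).ι ≫ r)
  opn : ∀ α, UniversallyOpen ((D α).ι ≫ r)

namespace GCData

variable {W V W' V' : Scheme.{u}} {r : W ⟶ V} {r' : W' ⟶ V'} {b : W' ⟶ W} {h : V' ⟶ V} {A : Type u}

theorem isPullback_D (hb : IsPullback b r' r h) (D : W.Opens) :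
    IsPullback (b ∣_ D) ((b ⁻¹ᵁ D).ι ≫ r') (D.ι ≫ r) h :=
  (isPullback_morphismRestrict b D).paste_vert hb

/-- Base change. -/
def pull (G : GCData r A) (hb : IsPullback b r' r h) : GCData r' A where
  D α := b ⁻¹ᵁ G.D α
  ex z := G.ex (b z)
  conn α := by
    have := G.conn α
    exact MorphismProperty.of_isPullback (P := @GeometricallyConnected) (isPullback_D hb (G.D α)) this
  opn α := by
    have := G.opn α
    exact MorphismProperty.of_isPullback (P := @UniversallyOpen) (isPullback_D hb (G.D α)) this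

theorem surj (G : GCData r A) (α : A) (v : V) : ∃ z ∈ G.D α, r z = v := by
  have := G.conn α
  obtain ⟨z, hz⟩ := ((G.D α).ι ≫ r).surjective v
  exact ⟨z.1, z.2, hz⟩

/-- Locally constant functions descend. -/
theorem exists_lc (G : GCData r A) {I : Type*} (κ : LocallyConstant W I) :
    ∃ κ' : A → LocallyConstant V I, ∀ α (z : W), z ∈ G.D α → κ z = κ' α (r z) := by
  have key : ∀ α, ∃ κ' : LocallyConstant V I, ∀ z : W, z ∈ G.D α → κ z = κ' (r z) := by
    intro α
    have h1 := G.conn α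
    have h2 := G.opn α
    let f := (G.D α).ι ≫ r
    have hc : ∀ z z' : (G.D α).toScheme, f z = f z' → κ z.1 = κ z'.1 := by
      intro z z' e
      have h3 : _root_.IsPreconnected (f ⁻¹' {f z}) := (f.isConnected_preimage_singleton (f z)).isPreconnected
      have h4 : IsLocallyConstant (fun w : (G.D α).toScheme => κ w.1) :=
        κ.isLocallyConstant.comp_continuous (G.D α).ι.continuous
      exact h4.apply_eq_of_isPreconnected h3 rfl e.symm
    let k : V → I := fun v => κ (G.surj α v).choose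
    have hk : ∀ z : W, z ∈ G.D α → κ z = k (r z) := by
      intro z hz
      obtain ⟨h3, h4⟩ := (G.surj α (r z)).choose_spec
      exact hc ⟨z, hz⟩ ⟨_, h3⟩ h4.symm
    refine ⟨⟨k, ?_⟩, hk⟩
    rw [IsLocallyConstant.iff_exists_open]
    intro v
    obtain ⟨z, hz, rfl⟩ := G.surj α v
    refine ⟨f '' ((G.D α).ι ⁻¹' (κ ⁻¹' {κ z})), ?_, ⟨⟨z, hz⟩, rfl, rfl⟩, ?_⟩
    · exact f.isOpenMap _ ((κ.isLocallyConstant.isOpen_fiber _).preimage (G.D α).ι.continuous)
    · rintro _ ⟨w, hw, rfl⟩
      have h5 : κ w.1 = κ z := hw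
      have h6 : f w = r w.1 := rfl
      rw [h6, ← hk w.1 w.2, h5, hk z hz]
  choose κ' hκ' using key
  exact ⟨κ', hκ'⟩

/-- Locally constant functions from constants on pieces. -/
theorem exists_of_const (G : GCData r A) {I : Type*} (ε : A → I) :
    ∃ κ : LocallyConstant W I, ∀ α (z : W), z ∈ G.D α → κ z = ε α := by
  choose c hc hc' using fun z => G.ex z
  refine ⟨⟨fun z => ε (c z), ?_⟩, fun α z hz => ?_⟩
  · rw [IsLocallyConstant.iff_exists_open]
    intro z
    refine ⟨G.D (c z), (G.D (c z)).2, hc z, fun w hw => ?_⟩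
    have := hc' w (c z) hw
    rw [this]
  · have := hc' z α hz
    change ε (c z) = ε α
    rw [this]

end GCData

/-! ### Geometrically connected fibres near generic points -/

theorem geomConn_fiber {W V : Scheme.{u}} (g : W ⟶ V) (v : V) {Ω : Type u} [Field Ω] [IsAlgClosed Ω]
    (ζ : Spec (CommRingCat.of Ω) ⟶ V) (hζ : ζ default = v) {F : Scheme.{u}} {a : F ⟶ W}
    {b : F ⟶ Spec (CommRingCat.of Ω)} (h : IsPullback a b g ζ) [ConnectedSpace F] :
    GeometricallyConnected (g.fiberToSpecResidueField v) := by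
  obtain ⟨t, φ, s, ht, hφ, hpb, -⟩ := exists_fibre_factor g ζ h
  obtain rfl : t = v := ht.symm.trans hζ
  let _ : Algebra (IsLocalRing.ResidueField (V.presheaf.stalk t)) Ω := φ.toAlgebra
  have hb : GeometricallyConnected b := Groth.Agent.S2501.result b
  have h4 := (Groth.Agent.S4625.result (K := Ω) (k := IsLocalRing.ResidueField (V.presheaf.stalk t))
    (g.fiberToSpecResidueField t))
  refine h4.2 ?_
  have h2 : IsPullback (pullback.fst (g.fiberToSpecResidueField t) (Spec.map (CommRingCat.ofHom φ)))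
    (pullback.snd (g.fiberToSpecResidueField t) (Spec.map (CommRingCat.ofHom φ)))
    (g.fiberToSpecResidueField t) (Spec.map (CommRingCat.ofHom φ)) := IsPullback.of_hasPullback _ _
  let e := h2.isoIsPullback _ _ hpb
  have he : e.hom ≫ b = pullback.snd (g.fiberToSpecResidueField t) (Spec.map (CommRingCat.ofHom φ)) :=
    h2.isoIsPullback_hom_snd _ _ hpb
  change GeometricallyConnected (pullback.snd (g.fiberToSpecResidueField t) (Spec.map (CommRingCat.ofHom φ)))
  rw [← he]
  exact (MorphismProperty.cancel_left_of_respectsIso @GeometricallyConnected e.hom b).2 hb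

/-- Generic universal openness. -/
theorem exists_dense_universallyOpen {W V : Scheme.{u}} (g : W ⟶ V) [LocallyOfFiniteType g]
    [QuasiCompact g] : ∃ O : V.Opens, Dense (O : Set V) ∧ UniversallyOpen (g ∣_ O) := by
  obtain ⟨R, i, h1, h2, h3⟩ := exists_reduced (X := V) ⊤
  have hs : Surjective i := ⟨by
    rw [← Set.range_eq_univ, h3]; rfl⟩
  obtain ⟨O', hO', hfl, hfp⟩ := Groth.Agent.S0414.result (pullback.snd g i)
  obtain ⟨N, hN, hNO⟩ := (Scheme.Hom.isEmbedding i).isInducing.isOpen_iff.1 O'.2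
  let O : V.Opens := ⟨N, hN⟩
  obtain rfl : i ⁻¹ᵁ O = O' := by
    ext x
    change x ∈ i ⁻¹' N ↔ x ∈ O'
    rw [hNO]; rfl
  refine ⟨O, ?_, ?_⟩
  · have h4 := hs.surj.denseRange.dense_image i.continuous hO'
    refine h4.mono ?_
    rintro _ ⟨x, hx, rfl⟩
    exact hx
  · have hio : Surjective (i ∣_ O) :=
      MorphismProperty.of_isPullback (P := @Surjective) (isPullback_morphismRestrict i O).flip inferInstance
    have hicl : UniversallyClosed (i ∣_ O) :=
      MorphismProperty.of_isPullback (P := @UniversallyClosed) (isPullback_morphismRestrict i O).flip inferInstance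
    refine Groth.Agent.Sga4A.DiscGeom.universallyOpen_of_base_change (g ∣_ O) (i ∣_ O) ?_
    -- compare
    have k1 : IsPullback (pullback.fst (g ∣_ O) (i ∣_ O)) (pullback.snd (g ∣_ O) (i ∣_ O)) (g ∣_ O) (i ∣_ O) :=
      IsPullback.of_hasPullback _ _
    have k2 := k1.paste_horiz (isPullback_morphismRestrict g O).flip
    have k2' : IsPullback (pullback.fst (g ∣_ O) (i ∣_ O) ≫ (g ⁻¹ᵁ O).ι) (pullback.snd (g ∣_ O) (i ∣_ O)) g
        ((i ⁻¹ᵁ O).ι ≫ i) := by
      rw [← (isPullback_morphismRestrict i O).w]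
      exact k2
    have k3 : IsPullback (pullback.fst g i) (pullback.snd g i) g i := IsPullback.of_hasPullback _ _
    let u : pullback (g ∣_ O) (i ∣_ O) ⟶ pullback g i :=
      k3.lift (pullback.fst (g ∣_ O) (i ∣_ O) ≫ (g ⁻¹ᵁ O).ι) (pullback.snd (g ∣_ O) (i ∣_ O) ≫ (i ⁻¹ᵁ O).ι)
        (by rw [k2'.w, Category.assoc])
    have hu1 : u ≫ pullback.fst g i = _ := k3.lift_fst _ _ _
    have hu2 : u ≫ pullback.snd g i = pullback.snd (g ∣_ O) (i ∣_ O) ≫ (i ⁻¹ᵁ O).ι := k3.lift_snd _ _ _
    have k4 : IsPullback u (pullback.snd (g ∣_ O) (i ∣_ O)) (pullback.snd g i) (i ⁻¹ᵁ O).ι := by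
      refine IsPullback.of_right (h₁₂ := pullback.fst g i) (v₁₃ := g) (h₂₂ := i) ?_ hu2 k3
      rw [hu1]
      exact k2'
    let e := k4.flip.isoIsPullback _ _ (isPullback_morphismRestrict (pullback.snd g i) (i ⁻¹ᵁ O))
    have he : e.hom ≫ (pullback.snd g i ∣_ (i ⁻¹ᵁ O)) = pullback.snd (g ∣_ O) (i ∣_ O) :=
      k4.flip.isoIsPullback_hom_fst _ _ (isPullback_morphismRestrict (pullback.snd g i) (i ⁻¹ᵁ O))
    rw [← he]
    infer_instance

theorem exists_open_gc {W V : Scheme.{u}} [IrreducibleSpace V] (g : W ⟶ V) [LocallyOfFiniteType g]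
    [QuasiCompact g] {Ω : Type u} [Field Ω] [IsAlgClosed Ω]
    (ζ : Spec (CommRingCat.of Ω) ⟶ V) (hζ : ζ default = genericPoint V) {F : Scheme.{u}} {a : F ⟶ W}
    {b : F ⟶ Spec (CommRingCat.of Ω)} (h : IsPullback a b g ζ) [ConnectedSpace F] :
    ∃ O : V.Opens, genericPoint V ∈ O ∧ GeometricallyConnected (g ∣_ O) ∧ UniversallyOpen (g ∣_ O) := by
  obtain ⟨O₁, hO₁, h1⟩ := Groth.Agent.S0420.result g (geomConn_fiber g _ ζ hζ h)
  obtain ⟨O₂, hO₂, h2⟩ := exists_dense_universallyOpen g
  have hg1 : genericPoint V ∈ O₁ := by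
    obtain ⟨t, ht⟩ := hO₁
    exact (genericPoint_specializes t).mem_open O₁.2 ht
  have hg2 : genericPoint V ∈ O₂ := by
    obtain ⟨t, ht⟩ := hO₂.nonempty
    exact (genericPoint_specializes t).mem_open O₂.2 ht
  refine ⟨O₁ ⊓ O₂, ⟨hg1, hg2⟩, ?_, ?_⟩
  · exact morphismRestrict_of_le g (show O₁ ⊓ O₂ ≤ O₁ from inf_le_left) @GeometricallyConnected h1
  · exact morphismRestrict_of_le g (show O₁ ⊓ O₂ ≤ O₂ from inf_le_right) @UniversallyOpen h2

end K990.CohProp
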