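import Groth.Agent.CohProp.K990.GeoComp
import Groth.Agent.Etbc.H188.ZDBase
import Groth.Agent.S3401
import Groth.Agent.S0658

/-!
# Geometrically connected components over étale neighbourhoods of maximal points: existence
-/

set_option autoImplicit false
set_option linter.unusedSectionVars false
set_option linter.unusedVariables false
set_option backward.isDefEq.respectTransparency.types false
universe u

open CategoryTheory CategoryTheory.Limits AlgebraicGeometry Opposite IsLocalRing TopologicalSpace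

namespace K990.CohProp

open Groth.Agent.EtpbcB.StrictLoc Groth.Agent.EtpbcB.Psi Groth.Agent.EtpbcB.OshHens
  Groth.Agent.EtpbcB
open Groth.Agent.Etrest.StrictLoc (spm IsStrictLoc)

/-! ### Topology -/

/-- Irreducible affine neighbourhoods of maximal points. -/
theorem exists_irreducible_nhd {V : Scheme.{u}} [IsLocallyNoetherian V] (v : V)
    (hv : ∀ s : V, s ⤳ v → s = v) : ∃ N : V.Opens, IsAffineOpen N ∧ v ∈ N ∧ ∀ z ∈ N, v ⤳ z := by
  obtain ⟨N₁, hN₁, hvN₁, -⟩ := exists_isAffineOpen_mem_and_subset (X := V) (x := v) (U := ⊤) trivial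
  have hA : IsAffine N₁.toScheme := hN₁
  have hn : AlgebraicGeometry.IsNoetherian N₁.toScheme := {}
  have hns : NoetherianSpace N₁.toScheme := inferInstance
  let v₁ : N₁.toScheme := ⟨v, hvN₁⟩
  let Z := irreducibleComponent v₁
  obtain ⟨s, hs⟩ := QuasiSober.sober (isIrreducible_irreducibleComponent (x := v₁))
    isClosed_irreducibleComponent
  have hsv : s ⤳ v₁ := by
    rw [specializes_iff_mem_closure, hs.def]
    exact mem_irreducibleComponent
  have hs1 : s = v₁ := by
    apply N₁.ι.isOpenEmbedding.injective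
    exact hv _ (hsv.map N₁.ι.continuous)
  subst hs1
  obtain ⟨o, ho, hone, hoZ⟩ :=
    TopologicalSpace.NoetherianSpace.exists_isOpen_nonempty_subset_irreducibleComponent
      (irreducibleComponent v₁) (irreducibleComponent_mem_irreducibleComponents _)
  have h1 : ∀ z ∈ o, v₁ ⤳ z := by
    intro z hz
    rw [specializes_iff_mem_closure, hs.def]
    exact hoZ hz
  have hvo : v₁ ∈ o := by
    obtain ⟨z, hz⟩ := hone
    exact (h1 z hz).mem_open ho hz
  obtain ⟨N, hN, hvN, hNo⟩ := exists_isAffineOpen_mem_and_subset (X := V) (x := v)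
    (U := ⟨N₁.ι '' o, N₁.ι.isOpenEmbedding.isOpenMap _ ho⟩) ⟨v₁, hvo, rfl⟩
  refine ⟨N, hN, hvN, fun z hz => ?_⟩
  obtain ⟨z', hz', rfl⟩ := hNo hz
  exact (h1 z' hz').map N₁.ι.continuous

theorem finite_components (A : Type*) [TopologicalSpace A] [NoetherianSpace A] :
    Finite (_root_.ConnectedComponents A) := by
  have hf : Finite (irreducibleComponents A) := NoetherianSpace.finite_irreducibleComponents.to_subtype
  have hne : ∀ Z : irreducibleComponents A, (Z : Set A).Nonempty := fun Z => Z.2.1.nonempty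
  refine Finite.of_surjective (fun Z : irreducibleComponents A => (ConnectedComponents.mk (hne Z).some)) ?_
  intro c
  obtain ⟨x, rfl⟩ := ConnectedComponents.surjective_coe c
  let Z : irreducibleComponents A := ⟨irreducibleComponent x, irreducibleComponent_mem_irreducibleComponents x⟩
  refine ⟨Z, ?_⟩
  have h1 : (hne Z).some ∈ irreducibleComponent x := (hne Z).some_mem
  have h2 : irreducibleComponent x ⊆ connectedComponent x :=
    irreducibleComponent_subset_connectedComponent
  exact ConnectedComponents.coe_eq_coe'.mpr (h2 h1)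

/-- Closed subsets and constructible images. -/
theorem exists_open_image {W V : Scheme.{u}} [AlgebraicGeometry.IsNoetherian V] (f : W ⟶ V)
    [LocallyOfFiniteType f] [QuasiCompact f] (K : Set W) (hK : IsClosed K) (v : V) :
    ∃ N : V.Opens, v ∈ N ∧ ∀ z ∈ N, v ⤳ z → (z ∈ f '' K ↔ v ∈ f '' K) := by
  have hW : AlgebraicGeometry.IsNoetherian W := isNoetherian_of_ft f
  have hr : IsRetrocompact Kᶜ := fun U hU hU' => NoetherianSpace.isCompact _
  have h1 : Topology.IsLocallyConstructible K := by
    have h2 := (hr.isConstructible hK.isOpen_compl).compl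
    rw [compl_compl] at h2
    exact h2.isLocallyConstructible
  have h3 := f.isLocallyConstructible_image h1
  obtain ⟨N, hN, hvN, h⟩ := Groth.Agent.S3401.exists_open_iff_of_isLocallyConstructible h3 v
  exact ⟨⟨N, hN⟩, hvN, h⟩

/-- Étale morphisms reflect maximal points. -/
theorem maximal_of_etale {V S : Scheme.{u}} (j : V ⟶ S) [Etale j] (v : V)
    (hv : ∀ s : S, s ⤳ j v → s = j v) (w : V) (hw : w ⤳ v) : w = v := by
  have h1 : j w = j v := hv _ (hw.map j.continuous)
  have hqf := Groth.Agent.S0658.locallyQuasiFinite_of_etale j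
  have h2 : DiscreteTopology (j ⁻¹' {j v}) := (j.isDiscrete_preimage_singleton (j v)).to_subtype
  have h3 : (⟨w, h1⟩ : j ⁻¹' {j v}) ⤳ ⟨v, rfl⟩ := by
    rw [Topology.IsInducing.subtypeVal.specializes_iff.symm]
    exact hw
  have h4 := h3.eq
  exact congrArg Subtype.val h4

/-! ### The test at the geometric point -/

theorem adm_id_of_mem {S : Scheme.{u}} {A : Type u} [CommRing A] [IsLocalRing A]
    (σ : Spec (CommRingCat.of A) ⟶ S) (hσ : IsStrictLoc σ) (P : S.Opens) (h : σ (closedPoint A) ∈ P) :
    Adm (𝟙 S) P σ := by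
  have h2 : Adm (𝟙 S) Set.univ σ :=
    ⟨S, S, 𝟙 S, 𝟙 S, 𝟙 S, σ, Set.subset_univ _, IsPullback.id_horiz _, hσ, Category.comp_id _⟩
  exact h2.of_mem P.2 h

section Pt

variable {Z S : Scheme.{u}} (g : Z ⟶ S) {Ω : Type u} [Field Ω] [IsSepClosed Ω]
  (ξ : Spec (CommRingCat.of Ω) ⟶ S)

/-- The ring homomorphism of the geometric point. -/
noncomputable def ptHom : Osh ξ →+* Ω := (Groth.Agent.Etbase.StrictHensStalk.ev ξ).hom

theorem spm_ptHom : spm (ptHom ξ) = pt ξ := rfl

theorem isLocalHom_ptHom : IsLocalHom (ptHom ξ) := by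
  have h1 : IsLocalRing (Osh ξ) := inferInstance
  have h3 := @isLocalHom_iff_comap_closedPoint (Osh ξ) _ h1 Ω _ inferInstance (ptHom ξ)
  refine h3.2 ?_
  have h4 : pt ξ default = closedPoint (Osh ξ) := pt_default ξ
  have h5 : (default : Spec (CommRingCat.of Ω)) = closedPoint Ω := Subsingleton.elim _ _
  rw [h5, ← spm_ptHom] at h4
  exact h4

theorem isTest_pt (P : S.Opens) (hP : ξ default ∈ P) :
    IsTest (𝟙 S) P g (pullback.fst g (toBase ξ))
      (pullback.fst (pullback.snd g (toBase ξ)) (pt ξ)) := by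
  have h1 := isStrictLoc_toBase ξ
  have hl := isLocalHom_ptHom ξ
  have h0 := Groth.Agent.Etbc.H188.ZDBase.isStrictLoc_id_field Ω
  refine ⟨Osh ξ, Ω, inferInstance, h1.henselian, h1.sepClosed, inferInstance, h0.henselian,
    h0.sepClosed, ptHom ξ, hl, toBase ξ, pullback.snd g (toBase ξ),
    pullback.snd (pullback.snd g (toBase ξ)) (pt ξ), ?_, ?_, IsPullback.of_hasPullback _ _,
    IsPullback.of_hasPullback _ _⟩
  · refine adm_id_of_mem _ h1 P ?_
    have h3 : toBase ξ (pt ξ default) ∈ P := by
      rw [← Scheme.Hom.comp_apply, pt_toBase]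
      exact hP
    rw [pt_default ξ] at h3
    exact h3
  · refine ⟨Spec (CommRingCat.of Ω), Spec (CommRingCat.of Ω), ξ, ξ, 𝟙 _, 𝟙 _, ?_, ?_,
      h0, ?_⟩
    · rintro _ ⟨x, rfl⟩
      rw [Subsingleton.elim x default]
      exact hP
    · exact IsPullback.id_vert ξ
    · rw [Category.id_comp, spm_ptHom, pt_toBase]

end Pt

end K990.CohProp
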