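import Groth.Agent.CohProp.K990.GeoComp2

/-!
# Geometrically connected components over étale neighbourhoods of maximal points: existence
-/

set_option autoImplicit false
set_option linter.unusedSectionVars false
set_option linter.unusedVariables false
set_option backward.isDefEq.respectTransparency.types false
universe u

open CategoryTheory CategoryTheory.Limits AlgebraicGeometry Opposite IsLocalRing TopologicalSpace

namespace K990.CohProp

open Groth.Agent.EtpbcB.StrictLoc Groth.Agent.EtpbcB.Psi Groth.Agent.EtpbcB.OshHens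
  Groth.Agent.EtpbcB
open Groth.Agent.Etrest.StrictLoc (spm IsStrictLoc)

/-- Comparing two fibre products. -/
theorem of_two_pullbacks (P : MorphismProperty Scheme.{u}) [P.RespectsIso] {A A' B C D : Scheme.{u}}
    {a : A ⟶ B} {b : A ⟶ C} {a' : A' ⟶ B} {b' : A' ⟶ C} {g : B ⟶ D} {h : C ⟶ D}
    (h1 : IsPullback a b g h) (h2 : IsPullback a' b' g h) (hb : P b) : P b' := by
  rw [← h2.isoIsPullback_hom_snd _ _ h1]
  exact (P.cancel_left_of_respectsIso _ _).2 hb

namespace GCData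

variable {Z S V V' W W' : Scheme.{u}} {g : Z ⟶ S} {j : V ⟶ S} {j' : V' ⟶ S} {z : W ⟶ Z} {r : W ⟶ V}
  {z' : W' ⟶ Z} {r' : W' ⟶ V'} {A : Type u}

/-- Base change, for fibre products of `g`. -/
noncomputable def pull' (G : GCData r A) (hp : IsPullback z r g j) (hp' : IsPullback z' r' g j') (h : V' ⟶ V)
    (e : h ≫ j = j') : GCData r' A :=
  G.pull (b := hp.lift z' (r' ≫ h) (by rw [hp'.w, Category.assoc, e])) (h := h) (by
    refine IsPullback.of_right (h₁₂ := z) (v₁₃ := g) (h₂₂ := j) ?_ (hp.lift_snd _ _ _) hp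
    rw [hp.lift_fst, e]
    exact hp')

end GCData

/-- Spreading out geometric components. -/
theorem exists_gc_aux {Z V : Scheme.{u}} [IrreducibleSpace V] [AlgebraicGeometry.IsNoetherian V] (r : Z ⟶ V)
    [LocallyOfFiniteType r] [QuasiCompact r] {Ω : Type u} [Field Ω] [IsAlgClosed Ω]
    (ζ : Spec (CommRingCat.of Ω) ⟶ V) (hζ : ζ default = genericPoint V) {F : Scheme.{u}} {a : F ⟶ Z}
    {b : F ⟶ Spec (CommRingCat.of Ω)} (h : IsPullback a b r ζ) {A : Type u} [Finite A] (D : A → Z.Opens)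
    (hD : ∀ c, IsClosed (D c : Set Z)) (hc : ∀ c, ConnectedSpace (a ⁻¹ᵁ D c).toScheme)
    (hex : ∀ y : F, ∃! c, a y ∈ D c) : ∃ O : V.Opens, genericPoint V ∈ O ∧ Nonempty (GCData (r ∣_ O) A) := by
  have hne : ∀ c, ∃ O : V.Opens, genericPoint V ∈ O ∧ GeometricallyConnected (((D c).ι ≫ r) ∣_ O) ∧
      UniversallyOpen (((D c).ι ≫ r) ∣_ O) := by
    intro c
    have hpb := GCData.isPullback_D h.flip.flip (D c)
    have hZ : AlgebraicGeometry.IsNoetherian Z := isNoetherian_of_ft r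
    have := hc c
    exact exists_open_gc ((D c).ι ≫ r) ζ hζ hpb
  choose O hO hO₁ hO₂ using hne
  let B : Set Z := {z | ¬ ∃! c, z ∈ D c}
  have hB : IsClosed B := by
    rw [← isOpen_compl_iff]
    have : Bᶜ = ⋃ c, ((D c : Set Z) ∩ ⋂ c' : {c' // c' ≠ c}, (D c' : Set Z)ᶜ) := by
      ext z
      simp only [B, Set.mem_compl_iff, Set.mem_setOf_eq, not_not, Set.mem_iUnion, Set.mem_inter_iff,
        Set.mem_iInter, SetLike.mem_coe]
      constructor
      · rintro ⟨c, hc, hc'⟩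
        exact ⟨c, hc, fun c' h => c'.2 (hc' _ h)⟩
      · rintro ⟨c, hc, hc'⟩
        refine ⟨c, hc, fun c' h => ?_⟩
        by_contra hne
        exact hc' ⟨c', hne⟩ h
    rw [this]
    exact isOpen_iUnion fun c => (D c).2.inter (isOpen_iInter_of_finite fun c' => (hD c').isOpen_compl)
  obtain ⟨N, hN, hNB⟩ := exists_open_image r B hB (genericPoint V)
  have hηB : genericPoint V ∉ r '' B := by
    rintro ⟨z, hz, hz'⟩
    obtain ⟨y, hy, -⟩ := exists_preimage_of_isPullback h z default (by rw [hz', hζ])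
    apply hz
    rw [← hy]
    exact hex y
  let O' : V.Opens := ⟨(N : Set V) ∩ ⋂ c, (O c : Set V), N.2.inter (isOpen_iInter_of_finite fun c => (O c).2)⟩
  refine ⟨O', ⟨hN, Set.mem_iInter.2 hO⟩, ⟨⟨fun c => (r ⁻¹ᵁ O').ι ⁻¹ᵁ D c, ?_, ?_, ?_⟩⟩⟩
  · intro z
    have h1 : r z.1 ∈ O' := z.2
    have h2 : z.1 ∉ B := fun h3 => hηB ((hNB _ h1.1 (genericPoint_specializes _)).1 ⟨_, h3, rfl⟩)
    simp only [B, Set.mem_setOf_eq, not_not] at h2
    exact h2
  · intro c
    have h1 : GeometricallyConnected (((D c).ι ≫ r) ∣_ O') :=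
      morphismRestrict_of_le _ (show O' ≤ O c from fun x hx => Set.mem_iInter.1 hx.2 c)
        @GeometricallyConnected (hO₁ c)
    exact of_two_pullbacks @GeometricallyConnected (isPullback_morphismRestrict ((D c).ι ≫ r) O').flip
      (GCData.isPullback_D (isPullback_morphismRestrict r O').flip (D c)) h1
  · intro c
    have h1 : UniversallyOpen (((D c).ι ≫ r) ∣_ O') :=
      morphismRestrict_of_le _ (show O' ≤ O c from fun x hx => Set.mem_iInter.1 hx.2 c)
        @UniversallyOpen (hO₂ c)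
    exact of_two_pullbacks @UniversallyOpen (isPullback_morphismRestrict ((D c).ι ≫ r) O').flip
      (GCData.isPullback_D (isPullback_morphismRestrict r O').flip (D c)) h1

/-- **Geometric components over étale neighbourhoods of maximal points.** -/
theorem exists_gc {Z S : Scheme.{u}} [AlgebraicGeometry.IsNoetherian S] {η : S} (hη : ∀ s : S, s ⤳ η → s = η)
    (g : Z ⟶ S) [LocallyOfFiniteType g] [QuasiCompact g] :
    ∃ (V : Scheme.{u}) (j : V ⟶ S) (_ : Etale j) (v : V) (_ : j v = η) (A : Type u) (_ : Finite A),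
      Nonempty (GCData (pullback.snd g j) A) := by
  have hZn : AlgebraicGeometry.IsNoetherian Z := isNoetherian_of_ft g
  let K : Type u := AlgebraicClosure (S.residueField η)
  let ξ : Spec (CommRingCat.of K) ⟶ S :=
    Spec.map (CommRingCat.ofHom (algebraMap (S.residueField η) K)) ≫ S.fromSpecResidueField η
  have hξ : ξ default = η := by
    rw [Scheme.Hom.comp_apply, Subsingleton.elim ((Spec.map (CommRingCat.ofHom
      (algebraMap (S.residueField η) K))) default) (IsLocalRing.closedPoint _)]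
    exact S.fromSpecResidueField_apply η _
  obtain ⟨P, hP, hcl⟩ := exists_clBijOn_max g (𝟙 S) geoInput hη
  have hb := hcl _ _ (isTest_pt g ξ P (by rw [hξ]; exact hP))
  let F : Scheme.{u} := pullback (pullback.snd g (toBase ξ)) (pt ξ)
  let a : F ⟶ pullback g (toBase ξ) := pullback.fst (pullback.snd g (toBase ξ)) (pt ξ)
  let b : F ⟶ Spec (CommRingCat.of K) := pullback.snd (pullback.snd g (toBase ξ)) (pt ξ)
  have hFb : IsPullback a b (pullback.snd g (toBase ξ)) (pt ξ) := IsPullback.of_hasPullback _ _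
  have h : IsPullback (pullback.fst g (toBase ξ)) (pullback.snd g (toBase ξ)) g (toBase ξ) :=
    IsPullback.of_hasPullback _ _
  have hFn : AlgebraicGeometry.IsNoetherian F := isNoetherian_of_ft b
  let A : Type u := _root_.ConnectedComponents F
  have hA : Finite A := finite_components F
  have hdisc : DiscreteTopology A := inferInstance
  let FC : A → Set F := fun c => {y | ConnectedComponents.mk y = c}
  have hFC : ∀ c, IsClopen (FC c) := fun c =>
    (isClopen_discrete {c}).preimage ConnectedComponents.continuous_coe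
  choose E hE hEF using fun c => hb.2 (FC c) (hFC c)
  choose i₁ O₁ hO₁ hOE using fun c => exists_clopen_of_isLimit (DX ξ g) (coneX ξ g h)
    (isLimitConeX ξ g h) (E c) (hE c)
  have := Fintype.ofFinite A
  classical
  obtain ⟨i, hi⟩ := IsCofiltered.inf_objs_exists (Finset.univ.image i₁)
  let m : ∀ c, i ⟶ i₁ c := fun c => (hi (Finset.mem_image_of_mem _ (Finset.mem_univ c))).some
  let O₂ : A → Set ((DX ξ g).obj i) := fun c => (DX ξ g).map (m c) ⁻¹' O₁ c
  have hO₂ : ∀ c, IsClopen (O₂ c) := fun c => (hO₁ c).preimage ((DX ξ g).map (m c)).continuous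
  have hOE₂ : ∀ c, legX ξ g h i ⁻¹' O₂ c = E c := by
    intro c
    rw [← hOE c]
    ext z
    have e : (DX ξ g).map (m c) (legX ξ g h i z) = legX ξ g h (i₁ c) z := by
      change (legX ξ g h i ≫ (DX ξ g).map (m c)) z = legX ξ g h (i₁ c) z
      exact congrArg (fun k => (k : pullback g (toBase ξ) ⟶ _) z) (legX_map ξ g h (m c))
    change (DX ξ g).map (m c) (legX ξ g h i z) ∈ O₁ c ↔ legX ξ g h (i₁ c) z ∈ O₁ c
    exact Eq.to_iff (congrArg (· ∈ O₁ c) e)
  -- the stage
  let V₀ : Scheme.{u} := ((D ξ).obj i).left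
  let j₀ : V₀ ⟶ S := ((D ξ).obj i).hom
  have hj₀ : Etale j₀ := ((D ξ).obj i).prop
  let Z₀ : Scheme.{u} := ((EtCoh.bc g).obj ((D ξ).obj i)).left
  let z₀ : Z₀ ⟶ Z := ((EtCoh.bc g).obj ((D ξ).obj i)).hom
  let r₀ : Z₀ ⟶ V₀ := BCCalc.pr g ((D ξ).obj i)
  have hr₀ : IsPullback r₀ z₀ j₀ g := BCCalc.isPullback_pr g ((D ξ).obj i)
  have hs1 : IsPullback (legX ξ g h i) (pullback.snd g (toBase ξ)) r₀ (leg ξ i) := by
    refine IsPullback.of_right (h₁₂ := z₀) (v₁₃ := g) (h₂₂ := j₀) ?_ (legX_pr ξ g h i) hr₀.flip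
    rw [leg_hom, legX_hom]
    exact h
  have hs2 : IsPullback (a ≫ legX ξ g h i) b r₀ (lft ξ i) := by
    rw [← pt_leg]
    exact hFb.paste_horiz hs1
  have hv₁ : j₀ (lft ξ i default) = η := by
    rw [← Scheme.Hom.comp_apply, lft_hom, hξ]
  have hV₀n : IsLocallyNoetherian V₀ := LocallyOfFiniteType.isLocallyNoetherian j₀
  obtain ⟨N, hN, hvN, hNs⟩ := exists_irreducible_nhd (lft ξ i default)
    (maximal_of_etale j₀ _ (by rw [hv₁]; exact hη))
  have hgen : IsGenericPoint (⟨lft ξ i default, hvN⟩ : N.toScheme) (Set.univ : Set N.toScheme) := by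
    refine Set.eq_univ_of_forall fun x => ?_
    exact specializes_iff_mem_closure.1
      ((N.ι.isOpenEmbedding.isInducing.specializes_iff (x := ⟨lft ξ i default, hvN⟩) (y := x)).1 (hNs _ x.2))
  have hirr : IrreducibleSpace N.toScheme :=
    { isPreirreducible_univ := hgen.isIrreducible.2
      toNonempty := ⟨⟨_, hvN⟩⟩ }
  have hgp : genericPoint N.toScheme = ⟨lft ξ i default, hvN⟩ :=
    (genericPoint_spec N.toScheme).eq hgen
  have hNaff : IsAffine N.toScheme := hN
  have hNn : AlgebraicGeometry.IsNoetherian N.toScheme :=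
    { toIsLocallyNoetherian := inferInstance, toCompactSpace := inferInstance }
  have hrg : Set.range (lft ξ i) ⊆ Set.range N.ι := by
    rintro _ ⟨x, rfl⟩
    rw [Scheme.Opens.range_ι, Subsingleton.elim x default]
    exact hvN
  let ζ : Spec (CommRingCat.of K) ⟶ N.toScheme := IsOpenImmersion.lift N.ι (lft ξ i) hrg
  have hζ : ζ ≫ N.ι = lft ξ i := IsOpenImmersion.lift_fac _ _ _
  have hζ' : ζ default = genericPoint N.toScheme := by
    rw [hgp]
    apply N.ι.isOpenEmbedding.injective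
    rw [← Scheme.Hom.comp_apply, hζ]
    rfl
  -- restriction to `N`
  have hk : IsPullback (r₀ ⁻¹ᵁ N).ι (r₀ ∣_ N) r₀ N.ι := (isPullback_morphismRestrict r₀ N).flip
  let a' : F ⟶ (r₀ ⁻¹ᵁ N).toScheme := hk.lift (a ≫ legX ξ g h i) (b ≫ ζ) (by
    rw [hs2.w, Category.assoc, hζ])
  have ha'1 : a' ≫ (r₀ ⁻¹ᵁ N).ι = a ≫ legX ξ g h i := hk.lift_fst _ _ _
  have ha'2 : a' ≫ (r₀ ∣_ N) = b ≫ ζ := hk.lift_snd _ _ _
  have hs3 : IsPullback a' b (r₀ ∣_ N) ζ := by
    refine IsPullback.of_right (h₁₂ := (r₀ ⁻¹ᵁ N).ι) (v₁₃ := r₀) (h₂₂ := N.ι) ?_ ha'2 hk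
    rw [ha'1, hζ]
    exact hs2
  let D' : A → (r₀ ⁻¹ᵁ N).toScheme.Opens := fun c => (r₀ ⁻¹ᵁ N).ι ⁻¹ᵁ ⟨O₂ c, (hO₂ c).2⟩
  have hD' : ∀ (c : A) (y : F), a' y ∈ D' c ↔ ConnectedComponents.mk y = c := by
    intro c y
    have e1 : (r₀ ⁻¹ᵁ N).ι (a' y) = legX ξ g h i (a y) := by
      rw [← Scheme.Hom.comp_apply, ha'1]
      rfl
    have e2 : a' y ∈ D' c ↔ (r₀ ⁻¹ᵁ N).ι (a' y) ∈ O₂ c := Iff.rfl
    rw [e2, e1]
    have e3 : legX ξ g h i (a y) ∈ O₂ c ↔ a y ∈ E c := by
      rw [← hOE₂ c]; rfl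
    have e4 : a y ∈ E c ↔ y ∈ FC c := by
      rw [← hEF c]; rfl
    rw [e3, e4]
    rfl
  have hft : LocallyOfFiniteType r₀ := MorphismProperty.of_isPullback (P := @LocallyOfFiniteType) hr₀.flip inferInstance
  have hqc : QuasiCompact r₀ := MorphismProperty.of_isPullback (P := @QuasiCompact) hr₀.flip inferInstance
  have hft' : LocallyOfFiniteType (r₀ ∣_ N) := MorphismProperty.of_isPullback (P := @LocallyOfFiniteType) hk inferInstance
  have hqc' : QuasiCompact (r₀ ∣_ N) := MorphismProperty.of_isPullback (P := @QuasiCompact) hk inferInstance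
  obtain ⟨O, hO, ⟨G⟩⟩ := exists_gc_aux (r₀ ∣_ N) ζ hζ' hs3 D' (fun c => (hO₂ c).1.preimage (r₀ ⁻¹ᵁ N).ι.continuous)
    (fun c => by
      refine (isConnected_iff_connectedSpace (s := ((a' ⁻¹ᵁ D' c : F.Opens) : Set F))).1 ?_
      have e : ((a' ⁻¹ᵁ D' c : F.Opens) : Set F) = FC c := by
        ext y
        exact hD' c y
      rw [e]
      obtain ⟨y, rfl⟩ := ConnectedComponents.surjective_coe c
      have e' : FC (ConnectedComponents.mk y) = connectedComponent y := by
        ext w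
        exact ConnectedComponents.coe_eq_coe'
      rw [e']
      exact isConnected_connectedComponent)
    (fun y => ⟨ConnectedComponents.mk y, (hD' _ y).2 rfl, fun c hc => ((hD' c y).1 hc).symm⟩)
  let j : O.toScheme ⟶ S := O.ι ≫ N.ι ≫ j₀
  have hp : IsPullback (((r₀ ∣_ N) ⁻¹ᵁ O).ι ≫ (r₀ ⁻¹ᵁ N).ι ≫ z₀) ((r₀ ∣_ N) ∣_ O) g j :=
    (isPullback_morphismRestrict (r₀ ∣_ N) O).flip.paste_horiz (hk.paste_horiz hr₀.flip)
  refine ⟨O, j, inferInstance, ⟨genericPoint _, hO⟩, ?_, A, hA,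
    ⟨G.pull' hp (IsPullback.of_hasPullback g j) (𝟙 _) (Category.id_comp _)⟩⟩
  change j₀ (N.ι (genericPoint N.toScheme)) = η
  rw [hgp]
  exact hv₁

end K990.CohProp
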