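import Groth.Agent.CohProp.K990.Strata

/-!
# Generic cohomological propriety in degree zero for constructible sheaves of sets
-/

set_option autoImplicit false
set_option linter.unusedSectionVars false
set_option linter.unusedVariables false
set_option backward.isDefEq.respectTransparency.types false
universe u

open CategoryTheory CategoryTheory.Limits AlgebraicGeometry Opposite TopologicalSpace

namespace K990.CohProp

open EtDesc Groth.Agent.Sga4A.EtStalk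

/-- Relative clopenness of lifting loci on strata. -/
theorem rc_liftSet {X XA T : Scheme.{u}} {F : Sh X} {ι : Type*} [Finite ι] {G : ι → Sh X}
    {a : ∀ i, F ⟶ G i} (x : XA ⟶ X) (g : T ⟶ X) [IsImmersion g] (hF : FinGen F g)
    (hG : ∀ i, CA (G i) g) (δ : ∀ i, Fam (G i) x) :
    RC (x ⁻¹' Set.range g) (LiftSet a δ ∩ x ⁻¹' Set.range g) := by
  refine ⟨⟨LiftSet a δ, LiftSet.isOpen δ, rfl⟩, ?_⟩
  let h : pullback x g ⟶ XA := pullback.fst x g
  have hc : h ≫ x = pullback.snd x g ≫ g := pullback.condition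
  have hF' : FinGen F (h ≫ x) := by
    rw [hc]; exact hF.comp _
  have hG' : ∀ i, CA (G i) (h ≫ x) := by
    intro i
    rw [hc]; exact (hG i).comp _
  have h1 := isClosed_liftSet (a := a) hF' hG' (fun i => (δ i).pull h)
  rw [LiftSet.pull] at h1
  obtain ⟨K, hK, hK'⟩ := (Scheme.Hom.isEmbedding h).isInducing.isClosed_iff.1 h1
  refine ⟨Kᶜ, hK.isOpen_compl, ?_⟩
  ext z
  constructor
  · rintro ⟨hz, hz'⟩
    refine ⟨fun hzK => hz' ⟨?_, hz⟩, hz⟩
    obtain ⟨t, ht⟩ := hz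
    obtain ⟨w, hw, -⟩ := Scheme.Pullback.exists_preimage_pullback (f := x) (g := g) z t ht.symm
    have h2 : w ∈ h ⁻¹' K := by
      change h w ∈ K
      rw [show h w = z from hw]; exact hzK
    rw [hK'] at h2
    have h3 : h w ∈ LiftSet a δ := h2
    rwa [show h w = z from hw] at h3
  · rintro ⟨hzK, hz⟩
    refine ⟨hz, fun hz' => hzK ?_⟩
    obtain ⟨t, ht⟩ := hz
    obtain ⟨w, hw, -⟩ := Scheme.Pullback.exists_preimage_pullback (f := x) (g := g) z t ht.symm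
    have h2 : w ∈ h ⁻¹' LiftSet a δ := by
      change h w ∈ LiftSet a δ
      rw [show h w = z from hw]; exact hz'.1
    rw [← hK'] at h2
    have h3 : h w ∈ K := h2
    rwa [show h w = z from hw] at h3

section Ind

variable {X Y S : Scheme.{u}} [AlgebraicGeometry.IsNoetherian S] (f : X ⟶ Y) (q : Y ⟶ S)
  [LocallyOfFiniteType f] [QuasiCompact f] [LocallyOfFiniteType q] [QuasiCompact q]

/-- Dévissage for lifting loci. -/
theorem exists_liftSet {η : S} (hη : ∀ s : S, s ⤳ η → s = η) {F : Sh X}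
    (hF : _root_.CohProp.IsConstructibleSet F) {n : ℕ} {Zs : Fin n → Scheme.{u}}
    (p : ∀ i, Zs i ⟶ X) [∀ i, IsFinite (p i)] (C : ∀ i, Sh (Zs i)) (hC : ∀ i, K548.LC.IsLC (C i))
    (a : ∀ i, F ⟶ (pushSh (p i)).obj (C i)) (Z : Closeds X) :
    ∃ P : S.Opens, η ∈ P ∧ ∀ ⦃XA XA' : Scheme.{u}⦄ (x : XA ⟶ X) (b : XA' ⟶ XA),
      IsTest q P f x b → ∀ δ : ∀ i, Fam ((pushSh (p i)).obj (C i)) x,
        (∀ y, b y ∈ LiftSet a δ) → x ⁻¹' (Z : Set X) ⊆ LiftSet a δ := by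
  have hY : AlgebraicGeometry.IsNoetherian Y := isNoetherian_of_ft q
  have hX : AlgebraicGeometry.IsNoetherian X := isNoetherian_of_ft f
  induction Z using WellFoundedLT.induction with
  | ind Z ih =>
  by_cases hne : ((Z : Set X) ∩ (⊤ : X.Opens)).Nonempty
  swap
  · refine ⟨⊤, trivial, fun XA XA' x b hx δ hδ z hz => absurd ⟨x z, hz, trivial⟩ hne⟩
  by_cases hirr : IsIrreducible (Z : Set X)
  · obtain ⟨R, i, i1, i2, hr, hcl, -⟩ := exists_integral Z hirr ⊤ hne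
    obtain ⟨O₁, hO₁, hF₁⟩ := exists_open_finGen i hF
    choose O₂ hO₂ hG₂ using fun k => exists_open_ca i (p k) (C k) (hC k)
    let O : R.Opens := ⟨(O₁ : Set R) ∩ ⋂ k, (O₂ k : Set R),
      O₁.2.inter (isOpen_iInter_of_finite fun k => (O₂ k).2)⟩
    have hgO : genericPoint R ∈ O := ⟨hO₁, Set.mem_iInter.2 hO₂⟩
    have hOO₁ : O ≤ O₁ := fun x hx => hx.1
    have hOO₂ : ∀ k, O ≤ O₂ k := fun k x hx => Set.mem_iInter.1 hx.2 k
    let g : O.toScheme ⟶ X := O.ι ≫ i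
    have hFg : FinGen F g := by
      have e : g = R.homOfLE hOO₁ ≫ (O₁.ι ≫ i) := by
        rw [← Category.assoc, Scheme.homOfLE_ι]
      rw [e]; exact hF₁.comp _
    have hGg : ∀ k, CA ((pushSh (p k)).obj (C k)) g := by
      intro k
      have e : g = R.homOfLE (hOO₂ k) ≫ ((O₂ k).ι ≫ i) := by
        rw [← Category.assoc, Scheme.homOfLE_ι]
      rw [e]; exact (hG₂ k).comp _
    obtain ⟨N, hN, hNO⟩ := (Scheme.Hom.isEmbedding i).isInducing.isOpen_iff.1 O.2
    have hrg : Set.range g = (Z : Set X) ∩ N := by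
      have hr' : Set.range i = (Z : Set X) := by
        rw [hr]; exact Set.inter_univ _
      rw [← hr']
      ext x
      constructor
      · rintro ⟨y, rfl⟩
        refine ⟨⟨_, rfl⟩, ?_⟩
        have : O.ι y ∈ i ⁻¹' N := by rw [hNO]; exact y.2
        exact this
      · rintro ⟨⟨y, rfl⟩, hy⟩
        have : y ∈ O.carrier := by rw [← hNO]; exact hy
        exact ⟨⟨y, this⟩, rfl⟩
    let Z' : Closeds X := ⟨(Z : Set X) ∩ Nᶜ, Z.2.inter hN.isClosed_compl⟩
    have hZ' : Z' < Z := by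
      refine lt_of_le_of_ne (fun x hx => hx.1) ?_
      intro e
      have h1 : i (genericPoint R) ∈ Set.range g := ⟨⟨_, hgO⟩, rfl⟩
      rw [hrg] at h1
      have h2 : i (genericPoint R) ∈ (Z' : Set X) := by rw [e]; exact h1.1
      exact h2.2 h1.2
    obtain ⟨P₁, hP₁, hQ₁⟩ := exists_qinj f q geoInput hη ⟨N, hN⟩ Z
    obtain ⟨P₂, hP₂, hQ₂⟩ := ih Z' hZ'
    refine ⟨P₁ ⊓ P₂, ⟨hP₁, hP₂⟩, ?_⟩
    intro XA XA' x b hx δ hδ z hz
    by_cases hzN : x z ∈ N
    · have hrc := rc_liftSet (a := a) x g hFg hGg δ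
      rw [hrg] at hrc
      have h3 := hQ₁ x b (hx.mono fun s hs => hs.1) _ hrc (fun y hy => ⟨hδ y, hy⟩)
      exact (h3 (show z ∈ x ⁻¹' ((Z : Set X) ∩ N) from ⟨hz, hzN⟩)).1
    · exact hQ₂ x b (hx.mono fun s hs => hs.2) δ hδ ⟨hz, hzN⟩
  · have hpre : ¬ IsPreirreducible (Z : Set X) := fun h => hirr ⟨hne.mono Set.inter_subset_left, h⟩
    rw [isPreirreducible_iff_isClosed_union_isClosed] at hpre
    push Not at hpre
    obtain ⟨z₁, z₂, h1, h2, h3, h4, h5⟩ := hpre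
    let Z₁ : Closeds X := ⟨(Z : Set X) ∩ z₁, Z.2.inter h1⟩
    let Z₂ : Closeds X := ⟨(Z : Set X) ∩ z₂, Z.2.inter h2⟩
    have hZ₁ : Z₁ < Z := lt_of_le_of_ne (fun x hx => hx.1) (fun e => h4 (fun x hx => by
      have : x ∈ (Z₁ : Set X) := by rw [e]; exact hx
      exact this.2))
    have hZ₂ : Z₂ < Z := lt_of_le_of_ne (fun x hx => hx.1) (fun e => h5 (fun x hx => by
      have : x ∈ (Z₂ : Set X) := by rw [e]; exact hx
      exact this.2))
    obtain ⟨P₁, hP₁, hQ₁⟩ := ih Z₁ hZ₁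
    obtain ⟨P₂, hP₂, hQ₂⟩ := ih Z₂ hZ₂
    refine ⟨P₁ ⊓ P₂, ⟨hP₁, hP₂⟩, ?_⟩
    intro XA XA' x b hx δ hδ z hz
    rcases h3 hz with h | h
    · exact hQ₁ x b (hx.mono fun s hs => hs.1) δ hδ ⟨hz, h⟩
    · exact hQ₂ x b (hx.mono fun s hs => hs.2) δ hδ ⟨hz, h⟩

/-- Bijectivity on families over a neighbourhood of a maximal point. -/
theorem exists_fBijOn_max {η : S} (hη : ∀ s : S, s ⤳ η → s = η) {F : Sh X}
    (hF : _root_.CohProp.IsConstructibleSet F) : ∃ P : S.Opens, η ∈ P ∧ FBijOn q P f F := by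
  have hY : AlgebraicGeometry.IsNoetherian Y := isNoetherian_of_ft q
  have hX : AlgebraicGeometry.IsNoetherian X := isNoetherian_of_ft f
  obtain ⟨n, Zs, p, hp, C, I, hI, a, hch, hC, ha⟩ := exists_cogen' F hF
  have hex : ∀ i, ∃ P : S.Opens, η ∈ P ∧ FBijOn q P f ((pushSh (p i)).obj (C i)) := by
    intro i
    have := hp i
    obtain ⟨P, hP, hcl⟩ := exists_clBijOn_max (p i ≫ f) q geoInput hη
    obtain ⟨c⟩ := hch i
    have := hI i
    exact ⟨P, hP, FBijOn.push (p i) (C i) (c.fBijOn hcl)⟩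
  choose P₀ hP₀ hB using hex
  obtain ⟨P₁, hP₁, hL⟩ := exists_liftSet f q hη hF p C hC a ⊤
  let P : S.Opens := ⟨(P₁ : Set S) ∩ ⋂ i, (P₀ i : Set S),
    P₁.2.inter (isOpen_iInter_of_finite fun i => (P₀ i).2)⟩
  refine ⟨P, ⟨hP₁, Set.mem_iInter.2 hP₀⟩, ?_⟩
  intro XA XA' x b hx
  have h1 : ∀ i, FInj ((pushSh (p i)).obj (C i)) b x ∧ FSurj ((pushSh (p i)).obj (C i)) b x := fun i =>
    hB i x b (hx.mono fun s hs => Set.mem_iInter.1 hs.2 i)
  exact ⟨fInj_of_bInj (bInj_of_jInj ha fun i => bInj_of_fInj (h1 i).1),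
    fSurj_of_bSurj (bSurj_of_lift ha (fun i => bSurj_of_fSurj (h1 i).2)
      fun δ hδ t => hL x b (hx.mono fun s hs => hs.1) δ hδ trivial)⟩

end Ind

/-- Dense unions of opens. -/
theorem dense_iSup {S : Scheme.{u}} {Q : S.Opens → Prop}
    (h : ∀ η : S, (∀ s : S, s ⤳ η → s = η) → ∃ P : S.Opens, η ∈ P ∧ Q P) :
    Dense ((⨆ i : {P : S.Opens // Q P}, i.1 : S.Opens) : Set S) := by
  rw [dense_iff_inter_open]
  rintro O hO ⟨s, hs⟩
  obtain ⟨η, hη, hηs⟩ : ∃ η : S, (∀ s : S, s ⤳ η → s = η) ∧ η ⤳ s := by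
    obtain ⟨η, hη⟩ := QuasiSober.sober (isIrreducible_irreducibleComponent (x := s))
      isClosed_irreducibleComponent
    refine ⟨η, ?_, ?_⟩
    · intro s' hs'
      have h1 : closure {η} ⊆ closure {s'} := hs'.closure_subset
      have h2 : closure {s'} = closure {η} := by
        have h3 := irreducibleComponent_mem_irreducibleComponents s
        rw [← hη.def] at h3
        exact Set.Subset.antisymm (h3.2 isIrreducible_singleton.closure h1) h1
      exact (inseparable_iff_closure_eq.2 h2).eq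
    · rw [specializes_iff_mem_closure, hη.def]
      exact mem_irreducibleComponent
  obtain ⟨P, hP, hQ⟩ := h η hη
  refine ⟨η, hηs.mem_open hO hs, ?_⟩
  rw [TopologicalSpace.Opens.coe_iSup]
  exact Set.mem_iUnion.2 ⟨⟨P, hQ⟩, hP⟩

/-- From bijectivity on families to cohomological propriety over an open. -/
theorem isCohPropSet_restrict {X Y S : Scheme.{u}} {q : Y ⟶ S} {f : X ⟶ Y} [QuasiCompact f]
    [QuasiSeparated f] {U : S.Opens} {F : Sh X} (h : FBijOn q U f F) :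
    _root_.CohProp.IsCohPropSet (q ∣_ U) (f ∣_ q ⁻¹ᵁ U) ((pullSh (f ⁻¹ᵁ q ⁻¹ᵁ U).ι).obj F) := by
  have i1 : QuasiCompact (f ∣_ q ⁻¹ᵁ U) :=
    MorphismProperty.of_isPullback (P := @QuasiCompact) (isPullback_morphismRestrict f _).flip inferInstance
  have i2 : QuasiSeparated (f ∣_ q ⁻¹ᵁ U) :=
    MorphismProperty.of_isPullback (P := @QuasiSeparated) (isPullback_morphismRestrict f _).flip inferInstance
  refine isCohPropSet_of_fBijOn _ _ _ ?_
  intro XA XA' x a hx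
  obtain ⟨h1, h2⟩ := h _ _ hx.of_restrict
  exact ⟨fInj_of_bInj (bInj_pullSh (bInj_of_fInj h1)), fSurj_of_bSurj (bSurj_pullSh (bSurj_of_fSurj h2))⟩

/-- **S19808.** -/
theorem exists_dense_open_isCohPropSet {X Y S : Scheme.{u}} [IsNoetherian S]
    (f : X ⟶ Y) (b : Y ⟶ S) [LocallyOfFiniteType f] [QuasiCompact f] [LocallyOfFiniteType b] [QuasiCompact b]
    (F : Sh X) (hF : _root_.CohProp.IsConstructibleSet F) :
    ∃ U : S.Opens, Dense (U : Set S) ∧
      _root_.CohProp.IsCohPropSet (b ∣_ U) (f ∣_ b ⁻¹ᵁ U) ((pullSh (f ⁻¹ᵁ b ⁻¹ᵁ U).ι).obj F) := by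
  have hY : AlgebraicGeometry.IsNoetherian Y := isNoetherian_of_ft b
  have hX : AlgebraicGeometry.IsNoetherian X := isNoetherian_of_ft f
  refine ⟨⨆ i : {P : S.Opens // FBijOn b P f F}, i.1, dense_iSup fun η hη => exists_fBijOn_max f b hη hF, ?_⟩
  apply isCohPropSet_restrict
  rw [TopologicalSpace.Opens.coe_iSup]
  exact FBijOn.of_cover fun i => i.2

end K990.CohProp
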