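import Groth.Agent.CohProp.K990.GeoComp3
import Groth.Agent.CohProp.K990.SetCP
import Groth.Agent.Etbc.H186.BCCritSh

/-!
# Locally constant direct images in terms of families of germs

`LCF G s x E`: families `e ε` (`ε : E`) of germs of `G` along `x : XV ⟶ X` inducing an isomorphism from the constant
sheaf `E` on `V` to the direct image by `s : XV ⟶ V` of the inverse image of `G`.
-/

set_option autoImplicit false
set_option linter.unusedSectionVars false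
set_option linter.unusedVariables false
set_option backward.isDefEq.respectTransparency.types false
universe u

open CategoryTheory CategoryTheory.Limits AlgebraicGeometry Opposite TopologicalSpace

namespace K990.CohProp

open EtDesc Groth.Agent.Sga4A.EtStalk Groth.Agent K548.SetULA K548.Cogen
open Groth.Agent.Etbc.H184 (FamSh.IsLoc FamSh.toFam FamSh.ofFam FamSh.isLoc_ofFam)

/-- A chart of the direct image. -/
structure LCF {X XV V : Scheme.{u}} (G : Sh X) (s : XV ⟶ V) (x : XV ⟶ X) (E : Type u) where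
  /-- the families -/
  e : E → Fam G x
  inj : ∀ ⦃W XW : Scheme.{u}⦄ (w : W ⟶ V) (k : XW ⟶ XV) (r : XW ⟶ W), IsPullback k r s w → W →
    ∀ ε ε' : E, (∀ y, k y ∈ Fam.Agree (e ε) (e ε')) → ε = ε'
  surj : ∀ ⦃W XW : Scheme.{u}⦄ (w : W ⟶ V) (k : XW ⟶ XV) (r : XW ⟶ W), IsPullback k r s w →
    ∀ (γ : Fam G (k ≫ x)) (t : W), ∃ O : W.Opens, t ∈ O ∧ ∃ ε, ∀ y : XW, r y ∈ O →
      y ∈ Fam.Agree γ ((e ε).pull k)

theorem mem_agree_of_vals {X Y : Scheme.{u}} {G : Sh X} {g g' : Y ⟶ X} {γ δ : Fam G g} {γ' δ' : Fam G g'}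
    (hg : g = g')
    (h1 : ∀ (Ω : Type u) [Field Ω] [IsSepClosed Ω] (ζ : Spec (.of Ω) ⟶ Y) (ξ : Spec (.of Ω) ⟶ X)
      (e : ζ ≫ g = ξ) (e' : ζ ≫ g' = ξ), γ.val ζ ξ e = γ'.val ζ ξ e')
    (h2 : ∀ (Ω : Type u) [Field Ω] [IsSepClosed Ω] (ζ : Spec (.of Ω) ⟶ Y) (ξ : Spec (.of Ω) ⟶ X)
      (e : ζ ≫ g = ξ) (e' : ζ ≫ g' = ξ), δ.val ζ ξ e = δ'.val ζ ξ e') {y : Y}
    (h : y ∈ Fam.Agree γ δ) : y ∈ Fam.Agree γ' δ' := by
  subst hg
  obtain ⟨Ω, _, _, ζ, rfl⟩ := exists_geomPoint Y y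
  rw [Fam.mem_agree_iff _ _ ζ _ rfl] at h ⊢
  rw [← h1 Ω ζ _ rfl rfl, ← h2 Ω ζ _ rfl rfl, h]

namespace LCF

variable {X XV V XV' V' : Scheme.{u}} {G : Sh X} {s : XV ⟶ V} {x : XV ⟶ X} {E : Type u}

/-- Restriction. -/
noncomputable def restrict (c : LCF G s x E) {h : V' ⟶ V} {k : XV' ⟶ XV} {s' : XV' ⟶ V'}
    (hp : IsPullback k s' s h) : LCF G s' (k ≫ x) E where
  e ε := (c.e ε).pull k
  inj W XW w k' r hk t ε ε' H := by
    refine c.inj (w ≫ h) (k' ≫ k) r (hk.paste_horiz hp) t ε ε' fun y => ?_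
    have := H y
    rw [mem_agree_pull] at this
    exact this
  surj W XW w k' r hk γ t := by
    obtain ⟨O, hO, ε, hε⟩ := c.surj (w ≫ h) (k' ≫ k) r (hk.paste_horiz hp)
      (γ.congr (Category.assoc _ _ _).symm) t
    refine ⟨O, hO, ε, fun y hy => ?_⟩
    refine mem_agree_of_vals (Category.assoc _ _ _) ?_ ?_ (hε y hy)
    · intro Ω _ _ ζ ξ e e'
      exact Fam.congr_val _ _ _ _ _
    · intro Ω _ _ ζ ξ e e'
      exact (c.e ε).val_congr (Category.assoc _ _ _).symm _ _ _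

/-- Transport. -/
noncomputable def congr (c : LCF G s x E) {x' : XV ⟶ X} (h : x = x') : LCF G s x' E := by
  subst h
  exact c

end LCF

/-! ### Direct images of constant sheaves -/

section Push

variable {X XV V Z YZ : Scheme.{u}} (p : Z ⟶ X) (C : Sh Z) {x : XV ⟶ X} {rr : YZ ⟶ XV} {z : YZ ⟶ Z}
  {s : XV ⟶ V} {I : Type} {A : Type u}

theorem exists_family [IsFinite p] (hpb : IsPullback rr z x p) (c : FCh C (𝟙 Z) I) (G : GCData (rr ≫ s) A)
    (ε : A → I) : ∃ δ : Fam ((pushSh p).obj C) x, ∀ (Ω : Type u) [Field Ω] [IsSepClosed Ω]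
      (ρ : Spec (.of Ω) ⟶ YZ) (α : A) (_ : ρ default ∈ G.D α) (ζ : Spec (.of Ω) ⟶ Z) (e : ρ ≫ z = ζ),
      (img p (𝟙 _) δ rr z hpb.w).val ρ ζ e = c.φ (ε α) Ω ζ ζ (Category.comp_id _) := by
  obtain ⟨κ, hκ⟩ := G.exists_of_const ε
  let c' : FCh C z I := c.res z (Category.comp_id _)
  obtain ⟨δ, hδ⟩ := exists_fam_push p C hpb (FamSh.toFam (c'.ofLC κ) (c'.isLoc_ofLC κ))
  refine ⟨δ, fun Ω _ _ ρ α hα ζ e => ?_⟩
  subst e
  have h1 := hδ (ρ default)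
  rw [Fam.mem_agree_iff _ _ ρ _ rfl] at h1
  rw [h1]
  change c.φ (κ (ρ default)) Ω (ρ ≫ z) (ρ ≫ z) _ = _
  rw [hκ α _ hα]

/-- Direct images of constant sheaves under finite morphisms. -/
theorem nonempty_lcf_push [IsFinite p] (hpb : IsPullback rr z x p) (c : FCh C (𝟙 Z) I)
    (G : GCData (rr ≫ s) A) [Finite A] : Nonempty (LCF ((pushSh p).obj C) s x (A → I)) := by
  choose e he using exists_family p C hpb c G
  refine ⟨⟨e, ?_, ?_⟩⟩
  · intro W XW w k r hk t ε ε' H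
    funext α
    obtain ⟨z₁, hz₁, hz₂⟩ := G.surj α (w t)
    obtain ⟨y, hy, -⟩ := exists_preimage_of_isPullback hk (rr z₁) t hz₂
    have h1 := H y
    rw [hy] at h1
    have h2 := mem_agree_img (𝟙 _) (e ε) (e ε') rr z hpb.w z₁ h1
    obtain ⟨Ω, _, _, ρ, rfl⟩ := exists_geomPoint YZ z₁
    rw [Fam.mem_agree_iff _ _ ρ _ rfl, he ε Ω ρ α hz₁ _ rfl, he ε' Ω ρ α hz₁ _ rfl] at h2
    exact (c.bij Ω _ _ _).1 h2
  · intro W XW w k r hk γ t
    have hb : IsPullback (pullback.fst k rr) (pullback.snd k rr) k rr := IsPullback.of_hasPullback _ _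
    let rW : pullback k rr ⟶ XW := pullback.fst k rr
    let u : pullback k rr ⟶ YZ := pullback.snd k rr
    have hpbW : IsPullback rW (u ≫ z) (k ≫ x) p := (hb.flip.paste_horiz hpb.flip).flip
    have hW : IsPullback u (rW ≫ r) (rr ≫ s) w := (hb.flip.paste_vert hk)
    let γ' := img p (𝟙 _) γ rW (u ≫ z) hpbW.w
    let c' : FCh C (u ≫ z) I := c.res (u ≫ z) (Category.comp_id _)
    have hv := FamSh.isLoc_ofFam γ'
    obtain ⟨κ', hκ'⟩ := (G.pull hW).exists_lc (c'.idx hv)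
    let O : W.Opens := ⟨⋂ α, κ' α ⁻¹' {κ' α t},
      isOpen_iInter_of_finite fun α => (κ' α).isLocallyConstant.isOpen_fiber _⟩
    refine ⟨O, Set.mem_iInter.2 fun α => rfl, fun α => κ' α t, fun y hy => ?_⟩
    refine mem_agree_push p C hpbW γ _ y fun w₀ hw₀ => ?_
    obtain ⟨α, hα, -⟩ := G.ex (u w₀)
    obtain ⟨Ω, _, _, ρ, rfl⟩ := exists_geomPoint _ w₀
    have e1 : ((ρ ≫ u) ≫ z) ≫ p = (ρ ≫ rW) ≫ k ≫ x := by
      have h6 := congrArg (fun k => ρ ≫ k) hpbW.w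
      simp only [Category.assoc] at h6 ⊢
      exact h6.symm
    have e2 : (ρ ≫ u ≫ z) = (ρ ≫ u) ≫ z := (Category.assoc _ _ _).symm
    have e3 : ((ρ ≫ u) ≫ rr) ≫ x = (ρ ≫ rW) ≫ k ≫ x := by
      rw [← e1, Category.assoc (ρ ≫ u), hpb.w, Category.assoc (ρ ≫ u)]
    rw [Fam.mem_agree_iff _ _ ρ _ e2]
    have h1 : γ'.val ρ ((ρ ≫ u) ≫ z) e2 = c.φ (κ' α t) Ω ((ρ ≫ u) ≫ z) ((ρ ≫ u) ≫ z) (Category.comp_id _) := by
      have h2 := c'.val_eq hv ρ _ e2
      have h3 : c'.idx hv (ρ default) = κ' α t := by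
        rw [hκ' α _ hα]
        have h4 := Set.mem_iInter.1 hy α
        rw [← hw₀] at h4
        exact h4
      rw [h3] at h2
      refine h2.trans ?_
      change c.φ (κ' α t) Ω (ρ ≫ u ≫ z) ((ρ ≫ u) ≫ z) _ = _
      congr 1
    have h2 := he (fun α => κ' α t) Ω (ρ ≫ u) α hα _ rfl
    refine h1.trans (h2.symm.trans ?_)
    rw [img_val' p C _ rr z _ (ρ ≫ u) _ _ rfl e1 e3, img_val' p C _ rW (u ≫ z) _ ρ _ _ e2 e1 rfl]
    congr 1
    refine (e fun α => κ' α t).val_congr ?_ _ _ _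
    rw [Category.assoc, Category.assoc, hb.w]

end Push

end K990.CohProp
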