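import Groth.Agent.CohProp.K990.LCF

/-!
# Locally constant direct images in terms of families of germs: subsheaves; the main theorem
-/

set_option autoImplicit false
set_option linter.unusedSectionVars false
set_option linter.unusedVariables false
set_option backward.isDefEq.respectTransparency.types false
universe u

open CategoryTheory CategoryTheory.Limits AlgebraicGeometry Opposite TopologicalSpace

namespace K990.CohProp

open EtDesc Groth.Agent.Sga4A.EtStalk Groth.Agent K548.SetULA K548.Cogen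

section Sub

variable {X XV V : Scheme.{u}} {F : Sh X} {ι : Type} [Finite ι] {G : ι → Sh X} {a : ∀ i, F ⟶ G i}
  {s : XV ⟶ V} {x : XV ⟶ X} {E : ι → Type u}

theorem nonempty_lcf_sub (ha : JInj a) (c : ∀ i, LCF (G i) s x (E i))
    (H : ∀ ε : ∀ i, E i, (∀ y, y ∈ LiftSet a (fun i => (c i).e (ε i))) ∨
      (∀ v : V, ∃ y, s y = v ∧ y ∉ LiftSet a (fun i => (c i).e (ε i)))) :
    Nonempty (LCF F s x {ε : ∀ i, E i // ∀ y, y ∈ LiftSet a (fun i => (c i).e (ε i))}) := by
  choose e he using fun ε : {ε : ∀ i, E i // ∀ y, y ∈ LiftSet a (fun i => (c i).e (ε i))} =>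
    LiftSet.exists_fam ha ε.2
  refine ⟨⟨e, ?_, ?_⟩⟩
  · intro W XW w k r hk t ε ε' h
    apply Subtype.ext
    funext i
    refine (c i).inj w k r hk t _ _ fun y => ?_
    have h1 := h y
    obtain ⟨Ω, _, _, η, hη⟩ := exists_geomPoint XV (k y)
    rw [← hη, Fam.mem_agree_iff _ _ η _ rfl] at h1 ⊢
    rw [← he ε i Ω η _ rfl, ← he ε' i Ω η _ rfl, h1]
  · intro W XW w k r hk γ t
    choose O hO ε hε using fun i => (c i).surj w k r hk (γ.map (a i)) t
    let O' : W.Opens := ⟨⋂ i, (O i : Set W), isOpen_iInter_of_finite fun i => (O i).2⟩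
    have htO : t ∈ O' := Set.mem_iInter.2 hO
    have key : ∀ (i : ι) (y : XW) (hy : r y ∈ O') (Ω : Type u) [Field Ω] [IsSepClosed Ω]
        (η : Spec (.of Ω) ⟶ XW) (_ : η default = y) (ξ : Spec (.of Ω) ⟶ X) (e : η ≫ k ≫ x = ξ),
        mapStk (a i) ξ (γ.val η ξ e) = ((c i).e (ε i)).val (η ≫ k) ξ (by rw [Category.assoc, e]) := by
      rintro i _ hy Ω _ _ η rfl ξ e
      have h1 := hε i (η default) (Set.mem_iInter.1 hy i)
      rw [Fam.mem_agree_iff _ _ η ξ e] at h1
      exact h1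
    have hM : ∀ y, y ∈ LiftSet a (fun i => (c i).e (ε i)) := by
      rcases H ε with h | h
      · exact h
      · exfalso
        obtain ⟨y, hy, hy'⟩ := h (w t)
        obtain ⟨y', hy1, hy2⟩ := exists_preimage_of_isPullback hk y t hy
        apply hy'
        obtain ⟨Ω, _, _, η, rfl⟩ := exists_geomPoint XW y'
        have h2 := LiftSet.of_val (a := a) (δ := fun i => (c i).e (ε i)) (η := η ≫ k) (ξ := η ≫ k ≫ x)
          (Category.assoc _ _ _) (γ.val η _ rfl)
          (fun i => key i _ (by rw [hy2]; exact htO) Ω η rfl _ rfl)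
        rw [Scheme.Hom.comp_apply, hy1] at h2
        exact h2
    refine ⟨O', htO, ⟨ε, hM⟩, fun y hy => ?_⟩
    obtain ⟨Ω, _, _, η, rfl⟩ := exists_geomPoint XW y
    rw [Fam.mem_agree_iff _ _ η _ rfl]
    apply ha
    intro i
    rw [key i _ hy Ω η rfl _ rfl]
    exact (he ⟨ε, hM⟩ i Ω (η ≫ k) _ (Category.assoc _ _ _)).symm

/-- Over a neighbourhood of the generic point. -/
theorem exists_restrict [IrreducibleSpace V] [AlgebraicGeometry.IsNoetherian V] [LocallyOfFiniteType s]
    [QuasiCompact s] (ha : JInj a) (c : ∀ i, LCF (G i) s x (E i)) [∀ i, Finite (E i)] :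
    ∃ N : V.Opens, genericPoint V ∈ N ∧ ∃ M : Type u, Nonempty (LCF F (s ∣_ N) ((s ⁻¹ᵁ N).ι ≫ x) M) := by
  choose N hN hNi using fun ε : (∀ i, E i) =>
    exists_open_image s (LiftSet a (fun i => (c i).e (ε i)))ᶜ (LiftSet.isOpen _).isClosed_compl (genericPoint V)
  let N' : V.Opens := ⟨⋂ ε, (N ε : Set V), isOpen_iInter_of_finite fun ε => (N ε).2⟩
  refine ⟨N', Set.mem_iInter.2 hN, _, nonempty_lcf_sub ha
    (fun i => (c i).restrict (isPullback_morphismRestrict s N').flip) fun ε => ?_⟩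
  have hL : LiftSet a (fun i => ((c i).restrict (isPullback_morphismRestrict s N').flip).e (ε i)) =
      (s ⁻¹ᵁ N').ι ⁻¹' LiftSet a (fun i => (c i).e (ε i)) := LiftSet.pull _ _
  rw [hL]
  by_cases hg : genericPoint V ∈ s '' (LiftSet a (fun i => (c i).e (ε i)))ᶜ
  · right
    intro v
    obtain ⟨y, hy, hy'⟩ := (hNi ε v.1 (Set.mem_iInter.1 v.2 ε) (genericPoint_specializes _)).2 hg
    have hyN : y ∈ s ⁻¹ᵁ N' := by
      change s y ∈ N'
      rw [hy']; exact v.2
    refine ⟨⟨y, hyN⟩, ?_, hy⟩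
    apply N'.ι.isOpenEmbedding.injective
    rw [← Scheme.Hom.comp_apply, morphismRestrict_ι]
    exact hy'
  · left
    intro y
    by_contra hy
    apply hg
    have h1 : s y.1 ∈ N' := y.2
    exact (hNi ε _ (Set.mem_iInter.1 h1 ε) (genericPoint_specializes _)).1 ⟨y.1, hy, rfl⟩

end Sub

end K990.CohProp
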