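import Groth.Agent.CohProp.K990.LCF2

/-!
# Locally constant direct images: existence over étale neighbourhoods of maximal points
-/

set_option autoImplicit false
set_option linter.unusedSectionVars false
set_option linter.unusedVariables false
set_option backward.isDefEq.respectTransparency.types false
universe u

open CategoryTheory CategoryTheory.Limits AlgebraicGeometry Opposite TopologicalSpace

namespace K990.CohProp

open EtDesc Groth.Agent.Sga4A.EtStalk Groth.Agent K548.SetULA K548.Cogen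

/-- Transport between fibre products. -/
noncomputable def LCF.transport {X S XV V XV' V' : Scheme.{u}} {G : Sh X} {s : XV ⟶ V} {x : XV ⟶ X} {E : Type u}
    (c : LCF G s x E) {f : X ⟶ S} {j : V ⟶ S} (hp : IsPullback x s f j) {s' : XV' ⟶ V'} {x' : XV' ⟶ X}
    {j' : V' ⟶ S} (hp' : IsPullback x' s' f j') (h : V' ⟶ V) (e : h ≫ j = j') : LCF G s' x' E :=
  (c.restrict (h := h) (k := hp.lift x' (s' ≫ h) (by rw [hp'.w, Category.assoc, e])) (s' := s') (by
    refine IsPullback.of_right (h₁₂ := x) (v₁₃ := f) (h₂₂ := j) ?_ (hp.lift_snd _ _ _) hp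
    rw [hp.lift_fst, e]
    exact hp')).congr (hp.lift_fst _ _ _)

/-- Common étale neighbourhoods. -/
theorem exists_common {S : Scheme.{u}} {η : S} {ι : Type} [Finite ι]
    (Q : ι → ∀ (V : Scheme.{u}) (j : V ⟶ S), Prop)
    (hQ : ∀ i (V V' : Scheme.{u}) (j : V ⟶ S) (h : V' ⟶ V), Q i V j → Q i V' (h ≫ j))
    (hex : ∀ i, ∃ (V : Scheme.{u}) (j : V ⟶ S) (_ : Etale j) (v : V), j v = η ∧ Q i V j) :
    ∃ (V : Scheme.{u}) (j : V ⟶ S) (_ : Etale j) (v : V), j v = η ∧ ∀ i, Q i V j := by
  classical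
  have := Fintype.ofFinite ι
  have key : ∀ s : Finset ι, ∃ (V : Scheme.{u}) (j : V ⟶ S) (_ : Etale j) (v : V), j v = η ∧
      ∀ i ∈ s, Q i V j := by
    intro s
    induction s using Finset.induction_on with
    | empty => exact ⟨S, 𝟙 S, inferInstance, η, rfl, fun i hi => absurd hi (Finset.notMem_empty i)⟩
    | insert i s hi ih =>
      obtain ⟨V₁, j₁, h₁, v₁, hv₁, hQ₁⟩ := ih
      obtain ⟨V₂, j₂, h₂, v₂, hv₂, hQ₂⟩ := hex i
      obtain ⟨v, hv, hv'⟩ := Scheme.Pullback.exists_preimage_pullback (f := j₁) (g := j₂) v₁ v₂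
        (hv₁.trans hv₂.symm)
      refine ⟨pullback j₁ j₂, pullback.fst j₁ j₂ ≫ j₁, inferInstance, v, ?_, ?_⟩
      · rw [Scheme.Hom.comp_apply, hv, hv₁]
      · intro i' hi'
        rcases Finset.mem_insert.1 hi' with rfl | hi'
        · rw [pullback.condition]
          exact hQ _ _ _ _ _ hQ₂
        · exact hQ _ _ _ _ _ (hQ₁ i' hi')
  obtain ⟨V, j, h, v, hv, hQ'⟩ := key Finset.univ
  exact ⟨V, j, h, v, hv, fun i => hQ' i (Finset.mem_univ i)⟩

/-- **Direct images of constructible sheaves are constant over étale neighbourhoods of maximal points.** -/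
theorem exists_lcf_max {X S : Scheme.{u}} [AlgebraicGeometry.IsNoetherian S] (f : X ⟶ S)
    [LocallyOfFiniteType f] [QuasiCompact f] {η : S} (hη : ∀ s : S, s ⤳ η → s = η) {F : Sh X}
    (hF : _root_.CohProp.IsConstructibleSet F) :
    ∃ (V : Scheme.{u}) (j : V ⟶ S) (_ : Etale j) (v : V), j v = η ∧ ∃ M : Type u,
      Nonempty (LCF F (pullback.snd f j) (pullback.fst f j) M) := by
  have hX : AlgebraicGeometry.IsNoetherian X := isNoetherian_of_ft f
  obtain ⟨n, Zs, p, hp, C, I, hI, a, hch, hC, ha⟩ := exists_cogen' F hF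
  obtain ⟨V, j, hj, v, hv, hQ⟩ := exists_common (S := S) (η := η) (ι := Fin n)
    (fun i V j => ∃ (E : Type u) (_ : Finite E),
      Nonempty (LCF ((pushSh (p i)).obj (C i)) (pullback.snd f j) (pullback.fst f j) E))
    (by
      rintro i V V' j h ⟨E, hE, ⟨c⟩⟩
      exact ⟨E, hE, ⟨c.transport (IsPullback.of_hasPullback f j) (IsPullback.of_hasPullback f (h ≫ j)) h rfl⟩⟩)
    (by
      intro i
      have := hp i
      have := hI i
      obtain ⟨c⟩ := hch i
      obtain ⟨V, j, hj, v, hv, A, hA, ⟨G⟩⟩ := exists_gc hη (p i ≫ f)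
      have h1 : IsPullback (pullback.fst (pullback.fst f j) (p i)) (pullback.snd (pullback.fst f j) (p i))
        (pullback.fst f j) (p i) := IsPullback.of_hasPullback _ _
      have h2 : IsPullback (pullback.snd (pullback.fst f j) (p i))
          (pullback.fst (pullback.fst f j) (p i) ≫ pullback.snd f j) (p i ≫ f) j :=
        h1.flip.paste_vert (IsPullback.of_hasPullback f j)
      have G' := G.pull' (IsPullback.of_hasPullback (p i ≫ f) j) h2 (𝟙 V) (Category.id_comp _)
      exact ⟨V, j, hj, v, hv, A → I i, inferInstance, nonempty_lcf_push (p i) (C i) h1 c G'⟩)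
  have hVn : IsLocallyNoetherian V := LocallyOfFiniteType.isLocallyNoetherian j
  obtain ⟨N, hN, hvN, hNs⟩ := exists_irreducible_nhd v (maximal_of_etale j _ (by rw [hv]; exact hη))
  have hgen : IsGenericPoint (⟨v, hvN⟩ : N.toScheme) (Set.univ : Set N.toScheme) := by
    refine Set.eq_univ_of_forall fun x => ?_
    have h1 : N.ι (⟨v, hvN⟩ : N.toScheme) ⤳ N.ι x := hNs _ x.2
    exact specializes_iff_mem_closure.1 (N.ι.isOpenEmbedding.isInducing.specializes_iff.1 h1)
  have hirr : IrreducibleSpace N.toScheme :=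
    { isPreirreducible_univ := hgen.isIrreducible.2
      toNonempty := ⟨⟨_, hvN⟩⟩ }
  have hgp : genericPoint N.toScheme = ⟨v, hvN⟩ := (genericPoint_spec N.toScheme).eq hgen
  have hNaff : IsAffine N.toScheme := hN
  have hNn : AlgebraicGeometry.IsNoetherian N.toScheme :=
    { toIsLocallyNoetherian := inferInstance, toCompactSpace := inferInstance }
  choose E hE c using hQ
  have c' : ∀ i, LCF ((pushSh (p i)).obj (C i)) (pullback.snd f (N.ι ≫ j)) (pullback.fst f (N.ι ≫ j)) (E i) :=
    fun i => (c i).some.transport (IsPullback.of_hasPullback f j) (IsPullback.of_hasPullback f (N.ι ≫ j)) N.ι rfl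
  obtain ⟨N', hN', M, ⟨c₀⟩⟩ := exists_restrict ha c'
  refine ⟨N', N'.ι ≫ N.ι ≫ j, inferInstance, ⟨genericPoint _, hN'⟩, ?_, M,
    ⟨c₀.transport ((isPullback_morphismRestrict _ N').flip.paste_horiz (IsPullback.of_hasPullback f (N.ι ≫ j)))
      (IsPullback.of_hasPullback _ _) (𝟙 _) (Category.id_comp _)⟩⟩
  change j (N.ι (genericPoint N.toScheme)) = η
  rw [hgp]
  exact hv

end K990.CohProp
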