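import Groth.Agent.CohProp.K990.LCF3
import Groth.Agent.CohProp.K990.Chart

/-!
# Locally constant direct images: conversion to the étale site; S19810
-/

set_option autoImplicit false
set_option linter.unusedSectionVars false
set_option linter.unusedVariables false
set_option backward.isDefEq.respectTransparency.types false
universe u

open CategoryTheory CategoryTheory.Limits AlgebraicGeometry Opposite TopologicalSpace

namespace K990.CohProp

open EtDesc Groth.Agent.Sga4A.EtStalk Groth.Agent K548.SetULA K548.Cogen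
open Groth.Agent.EtpbcB Groth.Agent.Etbc.H186.BCCritSh
open Groth.Agent.Etrest.StrictLoc (spm IsStrictLoc)

theorem Adm.of_restrict_id {S : Scheme.{u}} {U : S.Opens} {A : Type u} [CommRing A]
    [IsLocalRing A] {σ : Spec (CommRingCat.of A) ⟶ U.toScheme}
    (h : Adm (𝟙 U.toScheme) Set.univ σ) : Adm (𝟙 S) U (σ ≫ U.ι) := by
  obtain ⟨T, Y', p, g, q', σ', h1, h2, h3, rfl⟩ := h
  refine ⟨T, Y', p ≫ U.ι, g ≫ U.ι, q', σ', ?_, ?_, h3, (Category.assoc _ _ _).symm⟩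
  · rintro _ ⟨x, rfl⟩
    exact (p x).2
  · exact h2.paste_horiz (IsPullback.id_vert U.ι)

theorem IsTest.of_restrict_id {X S : Scheme.{u}} {f : X ⟶ S} {U : S.Opens}
    {XA XA' : Scheme.{u}} {x : XA ⟶ (f ⁻¹ᵁ U).toScheme} {a : XA' ⟶ XA}
    (h : IsTest (𝟙 U.toScheme) Set.univ (f ∣_ U) x a) :
    IsTest (𝟙 S) U f (x ≫ (f ⁻¹ᵁ U).ι) a := by
  obtain ⟨A, A', i1, i2, i3, i4, i5, i6, φ, hφ, σ, xA, xA', h1, h2, h3, h4⟩ := h
  refine ⟨A, A', i1, i2, i3, i4, i5, i6, φ, hφ, σ ≫ U.ι, xA, xA', h1.of_restrict_id, ?_, ?_, h4⟩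
  · rw [← Category.assoc]
    exact h2.of_restrict_id
  · exact (h3.flip.paste_vert (isPullback_morphismRestrict f U)).flip

/-- From bijectivity on families to cohomological propriety over an open. -/
theorem isCohPropSet_restrict_id {X S : Scheme.{u}} {f : X ⟶ S} [QuasiCompact f]
    [QuasiSeparated f] {U : S.Opens} {F : Sh X} (h : FBijOn (𝟙 S) U f F) :
    _root_.CohProp.IsCohPropSet (𝟙 (U : Scheme.{u})) (f ∣_ U) ((pullSh (f ⁻¹ᵁ U).ι).obj F) := by
  have i1 : QuasiCompact (f ∣_ U) :=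
    MorphismProperty.of_isPullback (P := @QuasiCompact) (isPullback_morphismRestrict f _).flip inferInstance
  have i2 : QuasiSeparated (f ∣_ U) :=
    MorphismProperty.of_isPullback (P := @QuasiSeparated) (isPullback_morphismRestrict f _).flip inferInstance
  refine isCohPropSet_of_fBijOn _ _ _ ?_
  intro XA XA' x a hx
  obtain ⟨h1, h2⟩ := h _ _ hx.of_restrict_id
  exact ⟨fInj_of_bInj (bInj_pullSh (bInj_of_fInj h1)), fSurj_of_bSurj (bSurj_pullSh (bSurj_of_fSurj h2))⟩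

theorem nonempty_chart_of_lcf {X S : Scheme.{u}} (f : X ⟶ S) (F : Sh X) (U : S.Opens) {V : Scheme.{u}}
    (j : V ⟶ S) [Etale j] {M : Type u} (c : LCF F (pullback.snd f j) (pullback.fst f j) M) :
    Nonempty (Chart ((pushSh (f ∣_ U)).obj ((pullSh (f ⁻¹ᵁ U).ι).obj F))
      (Scheme.Etale.mk (j ∣_ U)) (ULift.{u + 1} M)) := by
  let T₀ : Scheme.Etale U.toScheme := Scheme.Etale.mk (j ∣_ U)
  let fU := f ∣_ U
  let g : (f ⁻¹ᵁ U).toScheme ⟶ X := (f ⁻¹ᵁ U).ι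
  let B := (EtCoh.bc fU).obj T₀
  have hpr : IsPullback (BCCalc.pr fU T₀) B.hom T₀.hom fU := BCCalc.isPullback_pr fU T₀
  have hpg : IsPullback (B.hom ≫ g) (BCCalc.pr fU T₀) f (T₀.hom ≫ U.ι) :=
    hpr.flip.paste_horiz (isPullback_morphismRestrict f U).flip
  let c₀ : LCF F (BCCalc.pr fU T₀) (B.hom ≫ g) M := c.transport (IsPullback.of_hasPullback f j) hpg
    (j ⁻¹ᵁ U).ι (morphismRestrict_ι j U).symm
  choose φ hφ using fun m : M => exists_ofPullSect (V := B) (g := g) (c₀.e m)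
  refine ⟨⟨fun m => φ m.down, ?_, ?_⟩⟩
  · intro T x t m m' h
    have hk : IsPullback ((EtCoh.bc fU).map x).left (BCCalc.pr fU T) (BCCalc.pr fU T₀) x.left :=
      EtCoh.isPullback_bc_map fU x
    refine ULift.ext _ _ (c₀.inj x.left ((EtCoh.bc fU).map x).left (BCCalc.pr fU T) hk t m.down m'.down ?_)
    intro y
    obtain ⟨Ω, _, _, η, rfl⟩ := exists_geomPoint _ y
    have e : (η ≫ ((EtCoh.bc fU).map x).left) ≫ B.hom ≫ g = η ≫ ((EtCoh.bc fU).obj T).hom ≫ g := by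
      rw [Category.assoc, ← Category.assoc _ B.hom, BCCalc.left_hom]
    rw [← Scheme.Hom.comp_apply, Fam.mem_agree_iff _ _ (η ≫ ((EtCoh.bc fU).map x).left) _ e]
    have h' : ((pullSh g).obj F).obj.map ((EtCoh.bc fU).map x).op (φ m.down) =
      ((pullSh g).obj F).obj.map ((EtCoh.bc fU).map x).op (φ m'.down) := h
    have h1 := ofPullSect_map ((EtCoh.bc fU).map x) (φ m.down) η _ rfl e
    have h2 := ofPullSect_map ((EtCoh.bc fU).map x) (φ m'.down) η _ rfl e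
    rw [h'] at h1
    exact (hφ m.down Ω _ _ e).symm.trans (h1.symm.trans (h2.trans (hφ m'.down Ω _ _ e)))
  · intro T x t s
    have hk : IsPullback ((EtCoh.bc fU).map x).left (BCCalc.pr fU T) (BCCalc.pr fU T₀) x.left :=
      EtCoh.isPullback_bc_map fU x
    have hkg : ((EtCoh.bc fU).obj T).hom ≫ g = ((EtCoh.bc fU).map x).left ≫ B.hom ≫ g := by
      rw [← Category.assoc _ B.hom, BCCalc.left_hom]
    let γ : Fam F (((EtCoh.bc fU).obj T).hom ≫ g) := Fam.ofPullSect (V := (EtCoh.bc fU).obj T) s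
    obtain ⟨O, hO, m, hm⟩ := c₀.surj x.left ((EtCoh.bc fU).map x).left (BCCalc.pr fU T) hk (γ.congr hkg) t
    have hT : Etale T.hom := T.prop
    let V' : Scheme.Etale U.toScheme := Scheme.Etale.mk (O.ι ≫ T.hom)
    let f' : V' ⟶ T := MorphismProperty.Over.homMk O.ι rfl trivial
    refine ⟨⟨m⟩, V', f', ⟨t, hO⟩, rfl, ?_⟩
    refine ofPullSect_ext (U := (EtCoh.bc fU).obj V') (g := g) fun Ω _ _ η ξ e => ?_
    have e1 : (η ≫ ((EtCoh.bc fU).map f').left) ≫ ((EtCoh.bc fU).obj T).hom ≫ g = ξ := by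
      rw [Category.assoc, ← Category.assoc _ ((EtCoh.bc fU).obj T).hom, BCCalc.left_hom, e]
    have e2 : (η ≫ ((EtCoh.bc fU).map (f' ≫ x)).left) ≫ B.hom ≫ g = ξ := by
      rw [Category.assoc, ← Category.assoc _ B.hom, BCCalc.left_hom, e]
    have e3 : (η ≫ ((EtCoh.bc fU).map f').left) ≫ ((EtCoh.bc fU).map x).left ≫ B.hom ≫ g = ξ := by
      rw [← hkg, e1]
    have h1 := ofPullSect_map (g := g) (F := F) ((EtCoh.bc fU).map f') s η ξ e e1
    have h2 := ofPullSect_map (g := g) (F := F) ((EtCoh.bc fU).map (f' ≫ x)) (φ m) η ξ e e2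
    refine h1.trans (Eq.trans ?_ h2.symm)
    have h3 := hm ((η ≫ ((EtCoh.bc fU).map f').left) default) (by
      rw [← Scheme.Hom.comp_apply, Category.assoc, BCCalc.bc_map_left_pr]
      exact ((η ≫ BCCalc.pr fU V') default).2)
    rw [Fam.mem_agree_iff _ _ (η ≫ ((EtCoh.bc fU).map f').left) ξ e3, Fam.congr_val] at h3
    refine h3.trans ?_
    rw [hφ m Ω _ _ e2]
    refine (c₀.e m).val_congr ?_ _ _ _
    rw [Category.assoc]
    congr 1
    rw [Functor.map_comp]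
    rfl

/-- **S19810.** -/
theorem exists_dense_open_push_isLocConstSet_and_isCohPropSet {X S : Scheme.{u}}
    [IsNoetherian S] (f : X ⟶ S) [LocallyOfFiniteType f] [QuasiCompact f]
    (F : Sh X) (hF : _root_.CohProp.IsConstructibleSet F) :
    ∃ U : S.Opens, Dense (U : Set S) ∧
      _root_.CohProp.IsLocConstSet ((pushSh (f ∣_ U)).obj ((pullSh (f ⁻¹ᵁ U).ι).obj F)) ∧
      _root_.CohProp.IsCohPropSet (𝟙 (U : Scheme.{u})) (f ∣_ U) ((pullSh (f ⁻¹ᵁ U).ι).obj F) := by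
  have hX : AlgebraicGeometry.IsNoetherian X := isNoetherian_of_ft f
  let Q₁ : S.Opens → Prop := fun P => FBijOn (𝟙 S) P f F
  let Q₂ : S.Opens → Prop := fun P => ∃ (V : Scheme.{u}) (j : V ⟶ S) (_ : Etale j),
    (∀ s ∈ P, ∃ v, j v = s) ∧ ∃ M : Type u, Nonempty (LCF F (pullback.snd f j) (pullback.fst f j) M)
  let U₁ : S.Opens := ⨆ i : {P : S.Opens // Q₁ P}, i.1
  let U₂ : S.Opens := ⨆ i : {P : S.Opens // Q₂ P}, i.1
  have hU₁ : Dense (U₁ : Set S) := dense_iSup fun η hη => exists_fBijOn_max f (𝟙 S) hη hF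
  have hU₂ : Dense (U₂ : Set S) := dense_iSup fun η hη => by
    obtain ⟨V, j, hj, v, hv, hM⟩ := exists_lcf_max f hη hF
    exact ⟨⟨Set.range j, j.isOpenMap.isOpen_range⟩, ⟨v, hv⟩, V, j, hj, fun s hs => hs, hM⟩
  refine ⟨U₁ ⊓ U₂, hU₁.inter_of_isOpen_left hU₂ U₁.2, ?_, ?_⟩
  · have hex : ∀ u : ((U₁ ⊓ U₂ : S.Opens) : Scheme.{u}), ∃ (V : Scheme.{u}) (j : V ⟶ S) (_ : Etale j) (v : V),
        j v = u.1 ∧ ∃ M : Type u, Nonempty (LCF F (pullback.snd f j) (pullback.fst f j) M) := by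
      intro u
      obtain ⟨⟨P, hP⟩, hu⟩ := Opens.mem_iSup.1 (show u.1 ∈ U₂ from u.2.2)
      obtain ⟨V, j, hj, hv, hM⟩ := hP
      obtain ⟨v, hv⟩ := hv _ hu
      exact ⟨V, j, hj, v, hv, hM⟩
    choose V j hj v hv M c using hex
    refine ⟨((U₁ ⊓ U₂ : S.Opens) : Scheme.{u}), fun u => Scheme.Etale.mk (j u ∣_ (U₁ ⊓ U₂)), ?_, ?_⟩
    · intro u
      refine ⟨u, (⟨v u, by
        change j u (v u) ∈ U₁ ⊓ U₂
        rw [hv]; exact u.2⟩ : (j u ⁻¹ᵁ (U₁ ⊓ U₂)).toScheme), ?_⟩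
      apply (U₁ ⊓ U₂).ι.isOpenEmbedding.injective
      change ((j u ∣_ (U₁ ⊓ U₂)) ≫ (U₁ ⊓ U₂).ι) _ = u.1
      rw [morphismRestrict_ι]
      exact hv u
    · intro u
      obtain ⟨ch⟩ := nonempty_chart_of_lcf f F (U₁ ⊓ U₂) (j u) (c u).some
      exact ⟨_, ch.nonempty_iso⟩
  · apply isCohPropSet_restrict_id
    have h1 : FBijOn (𝟙 S) U₁ f F := by
      rw [TopologicalSpace.Opens.coe_iSup]
      exact FBijOn.of_cover fun i => i.2
    exact h1.mono fun s hs => hs.1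

end K990.CohProp
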