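import Groth.Agent.EtAcyc.K548.SetULA
import Groth.Agent.CohProp.K990.RelClopen

/-!
# Lifting loci of families of germs

For morphisms `a i : F ⟶ G i` and families of germs `δ i` of `G i` along `r : Y ⟶ X`, the set
`LiftSet a δ` of points where the `δ i` come from a germ of `F`.
-/

set_option autoImplicit false
set_option linter.unusedSectionVars false
set_option linter.unusedVariables false
set_option backward.isDefEq.respectTransparency.types false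
universe u

open CategoryTheory CategoryTheory.Limits AlgebraicGeometry Opposite

namespace K990.CohProp

open EtDesc Groth.Agent.Sga4A.EtStalk Groth.Agent K548.SetULA

/-! ### Gluing families -/

section Glue

variable {X Y : Scheme.{u}} {G : Sh X} {r : Y ⟶ X}

/-- Étale gluing of families of germs. -/
theorem exists_glue (V : Y → Scheme.{u}) (j : ∀ t, V t ⟶ Y) (hj : ∀ t, Etale (j t)) (v : ∀ t, V t)
    (hv : ∀ t, j t (v t) = t) (γ : ∀ t, Fam G (j t ≫ r))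
    (h : ∀ (t t' : Y) (Ω : Type u) [Field Ω] [IsSepClosed Ω] (ζ : Spec (.of Ω) ⟶ V t)
      (ζ' : Spec (.of Ω) ⟶ V t') (_ : ζ ≫ j t = ζ' ≫ j t') (ξ : Spec (.of Ω) ⟶ X)
      (e : ζ ≫ j t ≫ r = ξ) (e' : ζ' ≫ j t' ≫ r = ξ), (γ t).val ζ ξ e = (γ t').val ζ' ξ e') :
    ∃ δ : Fam G r, ∀ (t : Y) (Ω : Type u) [Field Ω] [IsSepClosed Ω] (ζ : Spec (.of Ω) ⟶ V t)
      (ξ : Spec (.of Ω) ⟶ X) (e : (ζ ≫ j t) ≫ r = ξ) (e' : ζ ≫ j t ≫ r = ξ),
      δ.val (ζ ≫ j t) ξ e = (γ t).val ζ ξ e' := by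
  have hlift : ∀ (Ω : Type u) [Field Ω] [IsSepClosed Ω] (η : Spec (.of Ω) ⟶ Y),
      ∃ ζ : Spec (.of Ω) ⟶ V (η default), ζ ≫ j (η default) = η := fun Ω _ _ η => by
    have := hj (η default)
    obtain ⟨ζ, hζ, -⟩ := Scheme.exists_fac_of_etale_of_isSepClosed (j (η default)) η (v _) (hv _)
    exact ⟨ζ, hζ⟩
  choose lft hlft using hlift
  let val : ∀ {Ω : Type u} [Field Ω] [IsSepClosed Ω] (η : Spec (.of Ω) ⟶ Y) (ξ : Spec (.of Ω) ⟶ X)
      (_ : η ≫ r = ξ), Stk G ξ := fun {Ω} _ _ η ξ e =>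
    (γ (η default)).val (lft Ω η) ξ (by rw [← Category.assoc, hlft, e])
  have key : ∀ (t : Y) {Ω : Type u} [Field Ω] [IsSepClosed Ω] (ζ : Spec (.of Ω) ⟶ V t)
      (ξ : Spec (.of Ω) ⟶ X) (e : (ζ ≫ j t) ≫ r = ξ) (e' : ζ ≫ j t ≫ r = ξ),
      val (ζ ≫ j t) ξ e = (γ t).val ζ ξ e' := by
    intro t Ω _ _ ζ ξ e e'
    exact h _ _ Ω _ _ (hlft Ω (ζ ≫ j t)) _ _ _
  refine ⟨⟨@val, ?_⟩, fun t Ω _ _ ζ ξ e e' => key t ζ ξ e e'⟩
  intro y
  obtain ⟨W, i, hi, w, hw, U, k, hk, s, hs⟩ := (γ y).rep (v y)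
  have := hj y
  refine ⟨W, i ≫ j y, inferInstance, w, by rw [Scheme.Hom.comp_apply, hw, hv], U, k, ?_, s, ?_⟩
  · rw [hk, Category.assoc]
  · intro Ω _ _ ζ ξ e e'
    have e1 : ((ζ ≫ i) ≫ j y) ≫ r = ξ := by rw [← e]; simp only [Category.assoc]
    have e2 : (ζ ≫ i) ≫ j y ≫ r = ξ := by rw [← e]; simp only [Category.assoc]
    have h1 := key y (ζ ≫ i) ξ e1 e2
    have h2 := hs ζ ξ e2 e'
    have h3 : val (ζ ≫ i ≫ j y) ξ e = val ((ζ ≫ i) ≫ j y) ξ e1 := by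
      have : ζ ≫ i ≫ j y = (ζ ≫ i) ≫ j y := (Category.assoc _ _ _).symm
      congr 1
    exact h3.trans (h1.trans h2)

end Glue

/-! ### Lifting loci -/

section Lift

variable {X Y Y' : Scheme.{u}} {F : Sh X} {ι : Type*} {G : ι → Sh X} (a : ∀ i, F ⟶ G i) {r : Y ⟶ X}

/-- The set of points where the families come from a germ of `F`. -/
def LiftSet (δ : ∀ i, Fam (G i) r) : Set Y :=
  {t | ∃ (Ω : Type u) (_ : Field Ω) (_ : IsSepClosed Ω) (η : Spec (.of Ω) ⟶ Y)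
    (σ : Stk F (η ≫ r)), η default = t ∧ ∀ i, mapStk (a i) (η ≫ r) σ = (δ i).val η _ rfl}

variable {a}

/-- Representing a lift by a section. -/
theorem LiftSet.exists_sect {δ : ∀ i, Fam (G i) r} {t : Y} (h : t ∈ LiftSet a δ) :
    ∃ (V : Scheme.{u}) (j : V ⟶ Y) (_ : Etale j) (v : V) (_ : j v = t) (U : X.Etale)
      (k : V ⟶ U.left) (hk : k ≫ U.hom = j ≫ r) (s : sect F U), ∀ i,
      v ∈ Fam.Agree ((((Fam.ofSect s).pull k).congr hk).map (a i)) ((δ i).pull j) := by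
  obtain ⟨Ω, _, _, η, σ, rfl, hσ⟩ := h
  obtain ⟨U, l, hl, s, rfl⟩ := exists_germ F σ
  let V := pullback r U.hom
  let ζ : Spec (.of Ω) ⟶ V := pullback.lift η l hl.symm
  have h1 : ζ ≫ pullback.fst r U.hom = η := pullback.lift_fst _ _ _
  have h2 : ζ ≫ pullback.snd r U.hom = l := pullback.lift_snd _ _ _
  have hk : pullback.snd r U.hom ≫ U.hom = pullback.fst r U.hom ≫ r := pullback.condition.symm
  refine ⟨V, pullback.fst r U.hom, inferInstance, ζ default, ?_, U, pullback.snd r U.hom, hk, s, ?_⟩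
  · rw [← Scheme.Hom.comp_apply, h1]
  · intro i
    have e : ζ ≫ pullback.fst r U.hom ≫ r = η ≫ r := by rw [← Category.assoc, h1]
    rw [Fam.mem_agree_iff _ _ ζ (η ≫ r) e, Fam.map_val, Fam.congr_val]
    have e1 : (ζ ≫ pullback.snd r U.hom) ≫ U.hom = η ≫ r := by rw [h2, hl]
    have h3 : ((Fam.ofSect s).pull (pullback.snd r U.hom)).val ζ (η ≫ r) (by rw [hk, e]) =
        germ F l hl s := (Fam.ofSect s).val_congr h2 _ e1 _
    have h4 : ((δ i).pull (pullback.fst r U.hom)).val ζ (η ≫ r) e = (δ i).val η (η ≫ r) rfl :=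
      (δ i).val_congr h1 _ (by rw [h1]) _
    rw [h3, h4]
    exact hσ i

/-- The lift exists at all geometric points. -/
theorem LiftSet.exists_lift {δ : ∀ i, Fam (G i) r} {Ω : Type u} [Field Ω] [IsSepClosed Ω]
    {η : Spec (.of Ω) ⟶ Y} (h : η default ∈ LiftSet a δ) (ξ : Spec (.of Ω) ⟶ X) (e : η ≫ r = ξ) :
    ∃ σ : Stk F ξ, ∀ i, mapStk (a i) ξ σ = (δ i).val η ξ e := by
  obtain ⟨V, j, hj, v, hv, U, k, hk, s, hs⟩ := LiftSet.exists_sect h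
  obtain ⟨ζ, hζ, hζv⟩ := Scheme.exists_fac_of_etale_of_isSepClosed j η v hv
  have e1 : ζ ≫ j ≫ r = ξ := by rw [← Category.assoc, hζ, e]
  have e2 : ζ ≫ k ≫ U.hom = ξ := by rw [hk, e1]
  refine ⟨(((Fam.ofSect s).pull k).congr hk).val ζ ξ e1, fun i => ?_⟩
  have h1 := hs i
  rw [← hζv, Fam.mem_agree_iff _ _ ζ ξ e1] at h1
  refine h1.trans ?_
  exact (δ i).val_congr hζ _ _ _

theorem LiftSet.of_val {δ : ∀ i, Fam (G i) r} {Ω : Type u} [Field Ω] [IsSepClosed Ω]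
    {η : Spec (.of Ω) ⟶ Y} {ξ : Spec (.of Ω) ⟶ X} (e : η ≫ r = ξ) (σ : Stk F ξ)
    (h : ∀ i, mapStk (a i) ξ σ = (δ i).val η ξ e) : η default ∈ LiftSet a δ := by
  subst e
  exact ⟨Ω, inferInstance, inferInstance, η, σ, rfl, h⟩

/-- Lifting loci and base change. -/
theorem LiftSet.pull (δ : ∀ i, Fam (G i) r) (h : Y' ⟶ Y) :
    LiftSet a (fun i => (δ i).pull h) = h ⁻¹' LiftSet a δ := by
  ext t
  constructor
  · rintro ⟨Ω, _, _, η, σ, rfl, hσ⟩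
    have e : (η ≫ h) ≫ r = η ≫ h ≫ r := Category.assoc _ _ _
    have := LiftSet.of_val (a := a) (δ := δ) e σ fun i => (hσ i)
    exact this
  · intro ht
    obtain ⟨Ω, _, _, η, rfl⟩ := exists_geomPoint Y' t
    have e : (η ≫ h) ≫ r = η ≫ h ≫ r := Category.assoc _ _ _
    have ht' : (η ≫ h) default ∈ LiftSet a δ := ht
    obtain ⟨σ, hσ⟩ := LiftSet.exists_lift ht' _ e
    exact ⟨Ω, inferInstance, inferInstance, η, σ, rfl, hσ⟩

theorem isOpen_iInter_Agree [Finite ι] {γ δ : ∀ i, Fam (G i) r} :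
    IsOpen (⋂ i, Fam.Agree (γ i) (δ i)) :=
  isOpen_iInter_of_finite fun i => Fam.isOpen_Agree _ _

/-- Representing a lift by a section, agreeing everywhere. -/
theorem LiftSet.exists_sect' [Finite ι] {δ : ∀ i, Fam (G i) r} {t : Y} (h : t ∈ LiftSet a δ) :
    ∃ (V : Scheme.{u}) (j : V ⟶ Y) (_ : Etale j) (v : V) (_ : j v = t) (U : X.Etale)
      (k : V ⟶ U.left) (hk : k ≫ U.hom = j ≫ r) (s : sect F U), ∀ i (w : V),
      w ∈ Fam.Agree ((((Fam.ofSect s).pull k).congr hk).map (a i)) ((δ i).pull j) := by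
  obtain ⟨V, j, hj, v, hv, U, k, hk, s, hs⟩ := LiftSet.exists_sect h
  let O : V.Opens := ⟨⋂ i, Fam.Agree ((((Fam.ofSect s).pull k).congr hk).map (a i)) ((δ i).pull j),
    isOpen_iInter_Agree⟩
  have hvO : v ∈ O := Set.mem_iInter.2 hs
  refine ⟨O, O.ι ≫ j, inferInstance, ⟨v, hvO⟩, ?_, U, O.ι ≫ k, ?_, s, ?_⟩
  · exact hv
  · rw [Category.assoc, hk, Category.assoc]
  · intro i w
    have hw : w.1 ∈ Fam.Agree ((((Fam.ofSect s).pull k).congr hk).map (a i)) ((δ i).pull j) :=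
      Set.mem_iInter.1 w.2 i
    obtain ⟨Ω, _, _, ζ, hζ⟩ := exists_geomPoint O.toScheme w
    have hζ' : (ζ ≫ O.ι) default = w.1 := by
      rw [Scheme.Hom.comp_apply, hζ]; rfl
    have e1 : (ζ ≫ O.ι) ≫ j ≫ r = ζ ≫ (O.ι ≫ j) ≫ r := by simp only [Category.assoc]
    rw [← hζ', Fam.mem_agree_iff _ _ (ζ ≫ O.ι) _ e1] at hw
    rw [← hζ, Fam.mem_agree_iff _ _ ζ _ rfl]
    have e2 : ((ζ ≫ O.ι) ≫ k) ≫ U.hom = ζ ≫ (O.ι ≫ j) ≫ r := by
      simp only [Category.assoc, hk]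
    have e3 : (ζ ≫ O.ι ≫ k) ≫ U.hom = ζ ≫ (O.ι ≫ j) ≫ r := by
      simp only [Category.assoc, hk]
    have h3 : germ F ((ζ ≫ O.ι) ≫ k) e2 s = germ F (ζ ≫ O.ι ≫ k) e3 s :=
      (Fam.ofSect s).val_congr (Category.assoc _ _ _) _ e2 e3
    have h4 : (δ i).val ((ζ ≫ O.ι) ≫ j) (ζ ≫ (O.ι ≫ j) ≫ r) (by simp only [Category.assoc]) =
        (δ i).val (ζ ≫ O.ι ≫ j) (ζ ≫ (O.ι ≫ j) ≫ r) (by simp only [Category.assoc]) :=
      (δ i).val_congr (Category.assoc _ _ _) _ _ _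
    rw [Fam.map_val, Fam.congr_val] at hw ⊢
    change mapStk (a i) _ (germ F (ζ ≫ O.ι ≫ k) e3 s) = (δ i).val (ζ ≫ O.ι ≫ j) _ _
    rw [← h3, ← h4]
    exact hw

theorem LiftSet.isOpen [Finite ι] (δ : ∀ i, Fam (G i) r) : IsOpen (LiftSet a δ) := by
  rw [isOpen_iff_forall_mem_open]
  intro t ht
  obtain ⟨V, j, hj, v, hv, U, k, hk, s, hs⟩ := LiftSet.exists_sect' ht
  refine ⟨Set.range j, ?_, j.isOpenMap.isOpen_range, ⟨v, hv⟩⟩
  rintro _ ⟨w, rfl⟩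
  obtain ⟨Ω, _, _, ζ, rfl⟩ := exists_geomPoint V w
  have e : (ζ ≫ j) ≫ r = ζ ≫ j ≫ r := Category.assoc _ _ _
  refine LiftSet.of_val e ((((Fam.ofSect s).pull k).congr hk).val ζ _ rfl) fun i => ?_
  exact (Fam.mem_agree_iff _ _ ζ _ rfl).1 (hs i (ζ default))

/-- Joint injectivity on stalks. -/
def JInj (a : ∀ i, F ⟶ G i) : Prop := ∀ (Ω : Type u) [Field Ω] [IsSepClosed Ω]
  (ξ : Spec (.of Ω) ⟶ X) (σ τ : Stk F ξ), (∀ i, mapStk (a i) ξ σ = mapStk (a i) ξ τ) → σ = τ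

/-- Families lifting everywhere come from a family of `F`. -/
theorem LiftSet.exists_fam [Finite ι] (ha : JInj a) {δ : ∀ i, Fam (G i) r}
    (h : ∀ t, t ∈ LiftSet a δ) : ∃ γ : Fam F r, ∀ (i : ι) (Ω : Type u) [Field Ω] [IsSepClosed Ω]
      (η : Spec (.of Ω) ⟶ Y) (ξ : Spec (.of Ω) ⟶ X) (e : η ≫ r = ξ),
      mapStk (a i) ξ (γ.val η ξ e) = (δ i).val η ξ e := by
  choose V j hj v hv U k hk s hs using fun t => LiftSet.exists_sect' (h t)
  have key : ∀ (t : Y) (Ω : Type u) [Field Ω] [IsSepClosed Ω] (ζ : Spec (.of Ω) ⟶ V t)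
      (ξ : Spec (.of Ω) ⟶ X) (e : ζ ≫ j t ≫ r = ξ) (i : ι),
      mapStk (a i) ξ ((((Fam.ofSect (s t)).pull (k t)).congr (hk t)).val ζ ξ e) =
        (δ i).val (ζ ≫ j t) ξ (by rw [Category.assoc, e]) := by
    intro t Ω _ _ ζ ξ e i
    exact (Fam.mem_agree_iff _ _ ζ _ e).1 (hs t i (ζ default))
  obtain ⟨γ, hγ⟩ := exists_glue V j hj v hv
    (fun t => ((Fam.ofSect (s t)).pull (k t)).congr (hk t)) (by
      intro t t' Ω _ _ ζ ζ' hζ ξ e e'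
      apply ha
      intro i
      rw [key, key]
      exact (δ i).val_congr hζ _ _ _)
  refine ⟨γ, ?_⟩
  intro i Ω _ _ η ξ e
  obtain ⟨ζ, hζ, -⟩ := Scheme.exists_fac_of_etale_of_isSepClosed (j (η default)) η (v _) (hv _)
  have e1 : (ζ ≫ j (η default)) ≫ r = ξ := by rw [hζ, e]
  have e2 : ζ ≫ j (η default) ≫ r = ξ := by rw [← e1, Category.assoc]
  have h1 : γ.val η ξ e = γ.val (ζ ≫ j (η default)) ξ e1 := γ.val_congr hζ.symm _ _ _
  have h2 : (δ i).val η ξ e = (δ i).val (ζ ≫ j (η default)) ξ e1 := (δ i).val_congr hζ.symm _ _ _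
  rw [h1, h2, hγ _ Ω ζ ξ e1 e2, key]

end Lift

end K990.CohProp
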