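import Groth.Agent.CohProp.K990.ClopenExt
import Groth.Agent.EtAcyc.K548.GenGood
import Groth.Agent.S0066
import Groth.Agent.Etbc.H184.ULZA

/-!
# Nice pairs

`Nice h V`: `h : Z ⟶ T` flat, of finite presentation, with geometrically normal fibres, and `V` a fibrewise dense
open. For étale `E ⟶ Z` clopen subsets of the trace of `V` extend to `E`.
-/

set_option autoImplicit false
set_option linter.unusedSectionVars false
set_option linter.unusedVariables false
set_option backward.isDefEq.respectTransparency.types false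
universe u

open CategoryTheory CategoryTheory.Limits AlgebraicGeometry Opposite IsLocalRing TopologicalSpace

namespace K990.CohProp

open Groth.Agent.EtpbcB.StrictLoc Groth.Agent.EtpbcB.Psi Groth.Agent.EtpbcB.OshHens
open Groth.Agent.Etbc.H192.ZeroAcyc (SepGeomConnected)
open Groth.Agent.Sga4A.EtStalk (exists_geomPoint)
open Groth.Agent.Etrest.StrictLoc (spm)

/-- Geometrically normal fibres, and an open dense in all fibres. -/
structure Nice {Z T : Scheme.{u}} (h : Z ⟶ T) (V : Z.Opens) : Prop where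
  flat : Flat h
  lfp : LocallyOfFinitePresentation h
  qc : QuasiCompact V.ι
  dom : ∀ ⦃K : Type u⦄ [Field K] (k : Spec (.of K) ⟶ T) ⦃F : Scheme.{u}⦄ (a : F ⟶ Z)
    (b : F ⟶ Spec (.of K)), IsPullback a b h k → ∀ z : F, IsDomain (F.presheaf.stalk z) ∧
      IsIntegrallyClosed (F.presheaf.stalk z)
  dense : ∀ ⦃K : Type u⦄ [Field K] (k : Spec (.of K) ⟶ T) ⦃F : Scheme.{u}⦄ (a : F ⟶ Z)
    (b : F ⟶ Spec (.of K)), IsPullback a b h k → ∀ z : F, ∃ y : F, a y ∈ V ∧ y ⤳ z

theorem quasiCompact_preimage_ι {X Y : Scheme.{u}} (f : X ⟶ Y) (V : Y.Opens) (hV : QuasiCompact V.ι) :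
    QuasiCompact (f ⁻¹ᵁ V).ι :=
  MorphismProperty.of_isPullback (P := @QuasiCompact) (isPullback_morphismRestrict f V) hV

theorem Nice.of_isPullback {Z T Z₁ T₁ : Scheme.{u}} {h : Z ⟶ T} {V : Z.Opens} (H : Nice h V)
    {h₁ : Z₁ ⟶ T₁} {b' : Z₁ ⟶ Z} {b : T₁ ⟶ T} (hb : IsPullback b' h₁ h b) :
    Nice h₁ (b' ⁻¹ᵁ V) where
  flat := MorphismProperty.of_isPullback (P := @Flat) hb H.flat
  lfp := MorphismProperty.of_isPullback (P := @LocallyOfFinitePresentation) hb H.lfp
  qc := quasiCompact_preimage_ι b' V H.qc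
  dom K _ k F a c hF z := H.dom (k ≫ b) (a ≫ b') c (hF.flip.paste_vert hb.flip).flip z
  dense K _ k F a c hF z := H.dense (k ≫ b) (a ≫ b') c (hF.flip.paste_vert hb.flip).flip z

theorem Nice.comp_etale {Z T U : Scheme.{u}} {h : Z ⟶ T} {V : Z.Opens} (H : Nice h V)
    (e : U ⟶ Z) [Etale e] : Nice (e ≫ h) (e ⁻¹ᵁ V) := by
  have key : ∀ ⦃K : Type u⦄ [Field K] (k : Spec (.of K) ⟶ T) ⦃F' : Scheme.{u}⦄ (a : F' ⟶ U)
    (b : F' ⟶ Spec (.of K)), IsPullback a b (e ≫ h) k → ∃ (F : Scheme.{u}) (a₀ : F ⟶ Z)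
      (b₀ : F ⟶ Spec (.of K)) (e' : F' ⟶ F), IsPullback a₀ b₀ h k ∧ IsPullback a e' e a₀ := by
    intro K _ k F' a b hF'
    have h0 : IsPullback (pullback.fst h k) (pullback.snd h k) h k := IsPullback.of_hasPullback _ _
    let e' : F' ⟶ pullback h k := h0.lift (a ≫ e) b (by rw [Category.assoc, hF'.w])
    have he1 : e' ≫ pullback.fst h k = a ≫ e := h0.lift_fst _ _ _
    have he2 : e' ≫ pullback.snd h k = b := h0.lift_snd _ _ _
    refine ⟨_, _, _, e', h0, ?_⟩
    refine IsPullback.of_bot (v₂₁ := pullback.snd h k) (v₂₂ := h) (h₃₁ := k) ?_ he1.symm h0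
    rw [he2]
    exact hF'
  have hfl := H.flat
  have hlfp := H.lfp
  refine ⟨inferInstance, inferInstance, quasiCompact_preimage_ι e V H.qc, ?_, ?_⟩
  · intro K _ k F' a b hF' z
    obtain ⟨F, a₀, b₀, e', h0, h1⟩ := key k a b hF'
    have he' : Etale e' := MorphismProperty.of_isPullback (P := @Etale) h1 inferInstance
    have : LocallyOfFiniteType b₀ := MorphismProperty.of_isPullback (P := @LocallyOfFiniteType) h0 inferInstance
    have : IsLocallyNoetherian F := LocallyOfFiniteType.isLocallyNoetherian b₀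
    exact (Groth.Agent.S0066.result e' z).2 (H.dom k a₀ b₀ h0 _)
  · intro K _ k F' a b hF' z
    obtain ⟨F, a₀, b₀, e', h0, h1⟩ := key k a b hF'
    have he' : Etale e' := MorphismProperty.of_isPullback (P := @Etale) h1 inferInstance
    obtain ⟨y, hy, hyz⟩ := H.dense k a₀ b₀ h0 (e' z)
    obtain ⟨y', hy', hy''⟩ := Flat.generalizingMap e' hyz
    refine ⟨y', ?_, hy'⟩
    have h2 : a₀ (e' y') = e (a y') := by
      rw [← Scheme.Hom.comp_apply, ← h1.w, Scheme.Hom.comp_apply]
    change e (a y') ∈ V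
    rw [← h2, hy'']
    exact hy

theorem Nice.geometricallyReduced {Z T : Scheme.{u}} {h : Z ⟶ T} {V : Z.Opens} (H : Nice h V) :
    GeometricallyReduced h := by
  constructor
  intro K _ k F a b hF
  have : ∀ z : F, _root_.IsReduced (F.presheaf.stalk z) := fun z => by
    have := (H.dom k a b hF z).1
    infer_instance
  exact isReduced_of_isReduced_stalk F

/-- Clopen subsets of a fibrewise dense open extend. -/
theorem Nice.exists_clopen_ext {U T : Scheme.{u}} {f : U ⟶ T} {V : U.Opens} (H : Nice f V)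
    (D : Set U) (hDV : D ⊆ V) (hDo : IsOpen D) (hDc : IsOpen ((V : Set U) \ D)) :
    ∃ D' : Set U, IsClopen D' ∧ D' ∩ V = D := by
  have h1 := H.flat
  have h2 := H.lfp
  have h3 := H.qc
  have h4 := H.geometricallyReduced
  refine K990.CohProp.exists_clopen_ext f ?_ ?_ V ?_ D hDV hDo hDc
  · intro Ω _ _ ξ
    have hg := (K548.GenGood.isGood_of_flat f).isULocZeroAcyclic
    exact Groth.Agent.Etbc.H184.ULZA.sepGeomConnected_psi f (hg f (𝟙 _) (𝟙 _) (IsPullback.id_horiz f)) ξ
  · intro t z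
    exact (H.dom (T.fromSpecResidueField t) _ _ (IsPullback.of_hasPullback _ _) z).1
  · intro x
    have hx : x ∈ Set.range (f.fiberι (f x)) := by
      rw [Scheme.Hom.range_fiberι]; rfl
    obtain ⟨z, hz⟩ := hx
    obtain ⟨y, hy, hyz⟩ := H.dense (T.fromSpecResidueField (f x)) (f.fiberι (f x)) _
      (IsPullback.of_hasPullback _ _) z
    refine ⟨f.fiberι (f x) y, hy, ?_, ?_⟩
    · have : f.fiberι (f x) y ∈ Set.range (f.fiberι (f x)) := ⟨y, rfl⟩
      rw [Scheme.Hom.range_fiberι] at this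
      exact this
    · conv_rhs => rw [← hz]
      exact hyz.map (Scheme.Hom.continuous _)

end K990.CohProp
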