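import Groth.Agent.CohProp.K990.PushFam

/-!
# Direct images under finite morphisms: bijectivity in tests, closed agreement loci
-/

set_option autoImplicit false
set_option linter.unusedSectionVars false
set_option linter.unusedVariables false
set_option backward.isDefEq.respectTransparency.types false
universe u

open CategoryTheory CategoryTheory.Limits AlgebraicGeometry Opposite

namespace K990.CohProp

open EtDesc Groth.Agent.Sga4A.EtStalk Groth.Agent K548.SetULA K548.Cogen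

/-- Families of a direct image are bijective in tests. -/
theorem FBijOn.push {X Y S Z : Scheme.{u}} {q : Y ⟶ S} {P : Set S} {f : X ⟶ Y} (p : Z ⟶ X) [IsFinite p]
    (C : Sh Z) (h : FBijOn q P (p ≫ f) C) : FBijOn q P f ((pushSh p).obj C) := by
  intro XA XA' x a hx
  let rA : pullback x p ⟶ XA := pullback.fst x p
  let w : pullback x p ⟶ Z := pullback.snd x p
  have hpb : IsPullback rA w x p := IsPullback.of_hasPullback x p
  let b : pullback rA a ⟶ pullback x p := pullback.fst rA a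
  let rA' : pullback rA a ⟶ XA' := pullback.snd rA a
  have hb : IsPullback b rA' rA a := IsPullback.of_hasPullback rA a
  have hpb' : IsPullback rA' (b ≫ w) (a ≫ x) p := by
    exact (hb.paste_horiz hpb.flip).flip
  have ht : IsTest q P (p ≫ f) w b := hx.pullback hpb.flip hb
  obtain ⟨h1, h2⟩ := h w b ht
  have h1 := bInj_of_fInj h1
  have h2 := bSurj_of_fSurj h2
  constructor
  · apply fInj_of_bInj
    intro γ δ hγ t
    refine mem_agree_push p C hpb γ δ t fun w₀ _ => ?_
    refine h1 _ _ (fun y => ?_) w₀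
    refine mem_agree_img (𝟙 ((pushSh p).obj C)) γ δ rA w hpb.w _ ?_
    have h3 : rA (b y) = a (rA' y) := by
      rw [← Scheme.Hom.comp_apply, hb.w, Scheme.Hom.comp_apply]
    rw [h3]
    exact hγ _
  · apply fSurj_of_bSurj
    intro w₀
    obtain ⟨δ', hδ'⟩ := h2 (img p (𝟙 ((pushSh p).obj C)) w₀ rA' (b ≫ w) hpb'.w)
    obtain ⟨δ, hδ⟩ := exists_fam_push p C hpb δ'
    refine ⟨δ, fun y => ?_⟩
    refine mem_agree_push p C hpb' (δ.pull a) w₀ y fun u _ => ?_
    have h3 := hδ' u
    have h4 := hδ (b u)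
    obtain ⟨Ω, _, _, ρ, rfl⟩ := exists_geomPoint _ u
    have e : ρ ≫ b ≫ w = (ρ ≫ b) ≫ w := (Category.assoc _ _ _).symm
    have e2 : ((ρ ≫ b) ≫ w) ≫ p = (ρ ≫ rA') ≫ a ≫ x := by
      have h6 := congrArg (fun k => ρ ≫ k) hpb'.w
      simp only [Category.assoc] at h6 ⊢
      exact h6.symm
    have e3 : ((ρ ≫ b) ≫ rA) ≫ x = (ρ ≫ rA') ≫ a ≫ x := by
      rw [Category.assoc ρ b rA, hb.w]
      simp only [Category.assoc]
    rw [← Scheme.Hom.comp_apply, Fam.mem_agree_iff _ _ (ρ ≫ b) ((ρ ≫ b) ≫ w) rfl,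
      img_val' p C δ rA w _ (ρ ≫ b) _ _ rfl e2 e3] at h4
    rw [Fam.mem_agree_iff _ _ ρ ((ρ ≫ b) ≫ w) e] at h3 ⊢
    rw [← h3, img_val' p C (δ.pull a) rA' (b ≫ w) _ ρ _ _ e e2 rfl]
    have h5 : (δ'.pull b).val ρ ((ρ ≫ b) ≫ w) e = δ'.val (ρ ≫ b) ((ρ ≫ b) ≫ w) rfl := rfl
    rw [h5, ← h4]
    congr 1
    have e4 : (ρ ≫ rA') ≫ a = (ρ ≫ b) ≫ rA := by
      rw [Category.assoc, ← hb.w, Category.assoc]
    exact δ.val_congr e4 _ _ _

/-- Agreement loci of families of direct images are closed. -/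
theorem ca_push {X Y Z : Scheme.{u}} {r : Y ⟶ X} (p : Z ⟶ X) [IsFinite p] (C : Sh Z)
    (hC : K548.LC.IsLC C) [UniversallyOpen (pullback.fst r p)] : CA ((pushSh p).obj C) r := by
  intro Y' h γ δ
  have s : IsPullback (pullback.fst (h ≫ r) p) (pullback.snd (h ≫ r) p) (h ≫ r) p :=
    IsPullback.of_hasPullback _ _
  have t : IsPullback (pullback.fst r p) (pullback.snd r p) r p := IsPullback.of_hasPullback _ _
  let u : pullback (h ≫ r) p ⟶ pullback r p :=
    t.lift (pullback.fst (h ≫ r) p ≫ h) (pullback.snd (h ≫ r) p) (by rw [Category.assoc, s.w])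
  have hu1 : u ≫ pullback.fst r p = pullback.fst (h ≫ r) p ≫ h := t.lift_fst _ _ _
  have hu2 : u ≫ pullback.snd r p = pullback.snd (h ≫ r) p := t.lift_snd _ _ _
  have hu : IsPullback u (pullback.fst (h ≫ r) p) (pullback.fst r p) h := by
    refine IsPullback.of_right (h₁₂ := pullback.snd r p) (v₁₃ := p) (h₂₂ := r) ?_ hu1 t.flip
    rw [hu2]
    exact s.flip
  have ho : UniversallyOpen (pullback.fst (h ≫ r) p) :=
    MorphismProperty.of_isPullback (P := @UniversallyOpen) hu inferInstance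
  let A := Fam.Agree (img p (𝟙 ((pushSh p).obj C)) γ _ _ s.w) (img p (𝟙 ((pushSh p).obj C)) δ _ _ s.w)
  have hA : IsClosed A := K548.LC.isClosed_Agree hC _ _
  have key : (Fam.Agree γ δ) = (pullback.fst (h ≫ r) p '' Aᶜ)ᶜ := by
    ext y
    constructor
    · rintro hy ⟨w, hw, rfl⟩
      exact hw (mem_agree_img (𝟙 ((pushSh p).obj C)) γ δ _ _ s.w w hy)
    · intro hy
      refine mem_agree_push p C s γ δ y fun w hw => ?_
      by_contra h1
      exact hy ⟨w, h1, hw⟩
  rw [key, isClosed_compl_iff]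
  exact (pullback.fst (h ≫ r) p).isOpenMap _ hA.isOpen_compl

end K990.CohProp
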