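import Groth.Agent.CohProp.K990.BFam
import Groth.Agent.Sga4A.BCIntegral

/-!
# Families of germs of direct images under finite morphisms
-/

set_option autoImplicit false
set_option linter.unusedSectionVars false
set_option linter.unusedVariables false
set_option backward.isDefEq.respectTransparency.types false
universe u

open CategoryTheory CategoryTheory.Limits AlgebraicGeometry Opposite

namespace K990.CohProp

open EtDesc Groth.Agent.Sga4A.EtStalk Groth.Agent K548.SetULA K548.Cogen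

section Push

variable {X Y Z YZ : Scheme.{u}} (p : Z ⟶ X) (C : Sh Z) {r : Y ⟶ X} {rr : YZ ⟶ Y} {z : YZ ⟶ Z}

/-- Evaluation of a germ of the direct image at a point of the fibre. -/
noncomputable def ev {Ω : Type u} [Field Ω] [IsSepClosed Ω] (ζ : Spec (.of Ω) ⟶ Z)
    (ξ : Spec (.of Ω) ⟶ X) (e : ζ ≫ p = ξ) (σ : Stk ((pushSh p).obj C) ξ) : Stk C ζ :=
  mapStk (transp p (𝟙 ((pushSh p).obj C))) ζ (pullStk' p _ ζ ξ e σ)

theorem ev_germ {Ω : Type u} [Field Ω] [IsSepClosed Ω] (ζ : Spec (.of Ω) ⟶ Z)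
    (ξ : Spec (.of Ω) ⟶ X) (e : ζ ≫ p = ξ) {U : X.Etale} (l : Spec (.of Ω) ⟶ U.left)
    (hl : l ≫ U.hom = ξ) (b : sect ((pushSh p).obj C) U) :
    ev p C ζ ξ e (germ _ l hl b) = germ C (U := (EtCoh.bc p).obj U) (bcPt p ζ l (hl.trans e.symm))
      (bcPt_hom _ _ _ _) b := by
  unfold ev
  rw [pullStk'_germ, mapStk_germ, transp_pullSect]
  rfl

theorem img_val' {W W' : Scheme.{u}} {h : W ⟶ X} (γ : Fam ((pushSh p).obj C) h) (q : W' ⟶ W) (h' : W' ⟶ Z)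
    (w : q ≫ h = h' ≫ p) {Ω : Type u} [Field Ω] [IsSepClosed Ω] (η : Spec (.of Ω) ⟶ W')
    (ζ : Spec (.of Ω) ⟶ Z) (ξ : Spec (.of Ω) ⟶ X) (e : η ≫ h' = ζ) (e₂ : ζ ≫ p = ξ)
    (e₃ : (η ≫ q) ≫ h = ξ) :
    (img p (𝟙 _) γ q h' w).val η ζ e = ev p C ζ ξ e₂ (γ.val (η ≫ q) ξ e₃) :=
  img_val p _ γ q h' w η ζ ξ e e₂ e₃

/-- Families of germs of a direct image are determined by evaluations. -/
theorem mem_agree_push [IsFinite p] (hpb : IsPullback rr z r p) (γ δ : Fam ((pushSh p).obj C) r) (t : Y)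
    (H : ∀ w : YZ, rr w = t → w ∈ Fam.Agree (img p (𝟙 _) γ rr z hpb.w) (img p (𝟙 _) δ rr z hpb.w)) :
    t ∈ Fam.Agree γ δ := by
  refine mem_agree (n := 1) (Y := fun _ => Z) (p := fun _ => p) (C := fun _ => C)
    (fun _ => 𝟙 ((pushSh p).obj C)) (fun _ => inferInstance) ?_ γ δ t ?_
  · intro U s t h
    exact h 0
  · intro _ w hw
    obtain ⟨Ω, _, _, ζ, rfl⟩ := exists_geomPoint _ w
    let ζ' : Spec (.of Ω) ⟶ YZ := hpb.lift (ζ ≫ pullback.fst r p) (ζ ≫ pullback.snd r p)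
      (by rw [Category.assoc, pullback.condition, Category.assoc])
    have h1 : ζ' ≫ rr = ζ ≫ pullback.fst r p := hpb.lift_fst _ _ _
    have h2 : ζ' ≫ z = ζ ≫ pullback.snd r p := hpb.lift_snd _ _ _
    have h3 := H (ζ' default) (by
      rw [← Scheme.Hom.comp_apply, h1]
      exact hw)
    have e2 : (ζ ≫ pullback.snd r p) ≫ p = (ζ ≫ pullback.fst r p) ≫ r := by
      rw [Category.assoc, ← pullback.condition, Category.assoc]
    rw [Fam.mem_agree_iff _ _ ζ' (ζ ≫ pullback.snd r p) h2,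
      img_val' p C γ rr z _ ζ' _ _ h2 e2 (by rw [h1]),
      img_val' p C δ rr z _ ζ' _ _ h2 e2 (by rw [h1])] at h3
    rw [Fam.mem_agree_iff _ _ ζ (ζ ≫ pullback.snd r p) rfl,
      img_val' p C γ _ _ _ ζ _ _ rfl e2 rfl, img_val' p C δ _ _ _ ζ _ _ rfl e2 rfl]
    rw [γ.val_congr h1 _ _ rfl, δ.val_congr h1 _ _ rfl] at h3
    exact h3

/-- Stalks of direct images are determined by evaluations. -/
theorem ev_ext [IsFinite p] {Ω : Type u} [Field Ω] [IsSepClosed Ω] (ξ : Spec (.of Ω) ⟶ X) 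
    {U : X.Etale} (l : Spec (.of Ω) ⟶ U.left) (hl : l ≫ U.hom = ξ)
    {U' : X.Etale} (l' : Spec (.of Ω) ⟶ U'.left) (hl' : l' ≫ U'.hom = ξ)
    (b : sect ((pushSh p).obj C) U) (b' : sect ((pushSh p).obj C) U')
    (H : ∀ (Ω' : Type u) [Field Ω'] [IsSepClosed Ω'] (α : Spec (.of Ω') ⟶ Spec (.of Ω))
      (ζ : Spec (.of Ω') ⟶ Z) (e : ζ ≫ p = α ≫ ξ),
      germ C (U := (EtCoh.bc p).obj U) (bcPt p ζ (α ≫ l) (by rw [Category.assoc, hl, e]))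
        (bcPt_hom _ _ _ _) b =
      germ C (U := (EtCoh.bc p).obj U') (bcPt p ζ (α ≫ l') (by rw [Category.assoc, hl', e]))
        (bcPt_hom _ _ _ _) b') :
    germ ((pushSh p).obj C) l hl b = germ ((pushSh p).obj C) l' hl' b' := by
  have h1 := mem_agree_push p C (IsPullback.of_hasPullback ξ p)
    (((Fam.ofSect b).pull l).congr hl) (((Fam.ofSect b').pull l').congr hl') default (by
      intro w _
      obtain ⟨Ω', _, _, ζ, rfl⟩ := exists_geomPoint _ w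
      have e2 : (ζ ≫ pullback.snd ξ p) ≫ p = (ζ ≫ pullback.fst ξ p) ≫ ξ := by
        rw [Category.assoc, ← pullback.condition, Category.assoc]
      rw [Fam.mem_agree_iff _ _ ζ (ζ ≫ pullback.snd ξ p) rfl,
        img_val' p C _ _ _ _ ζ _ _ rfl e2 rfl, img_val' p C _ _ _ _ ζ _ _ rfl e2 rfl,
        Fam.congr_val, Fam.congr_val]
      have h3 := H Ω' (ζ ≫ pullback.fst ξ p) (ζ ≫ pullback.snd ξ p) e2
      rw [← ev_germ p C (ζ ≫ pullback.snd ξ p) ((ζ ≫ pullback.fst ξ p) ≫ ξ) e2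
          ((ζ ≫ pullback.fst ξ p) ≫ l) (by rw [Category.assoc, hl]) b,
        ← ev_germ p C (ζ ≫ pullback.snd ξ p) ((ζ ≫ pullback.fst ξ p) ≫ ξ) e2
          ((ζ ≫ pullback.fst ξ p) ≫ l') (by rw [Category.assoc, hl']) b'] at h3
      exact h3)
  have h2 : (𝟙 (Spec (.of Ω)) : Spec (.of Ω) ⟶ _) default = default := Subsingleton.elim _ _
  rw [← h2, Fam.mem_agree_iff _ _ (𝟙 _) ξ (Category.id_comp _), Fam.congr_val, Fam.congr_val] at h1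
  have h3 : germ ((pushSh p).obj C) (𝟙 _ ≫ l) (by rw [Category.id_comp, hl]) b =
      germ ((pushSh p).obj C) l hl b := (Fam.ofSect b).val_congr (Category.id_comp _) _ _ _
  have h4 : germ ((pushSh p).obj C) (𝟙 _ ≫ l') (by rw [Category.id_comp, hl']) b' =
      germ ((pushSh p).obj C) l' hl' b' := (Fam.ofSect b').val_congr (Category.id_comp _) _ _ _
  rw [← h3, ← h4]
  exact h1

end Push

section Exists

variable {X Y Z YZ : Scheme.{u}} (p : Z ⟶ X) (C : Sh Z) {r : Y ⟶ X} {rr : YZ ⟶ Y} {z : YZ ⟶ Z}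

/-- Local existence. -/
theorem exists_local_push [IsFinite p] (hpb : IsPullback rr z r p) (δ' : Fam C z) (t : Y) :
    ∃ (V : Scheme.{u}) (j : V ⟶ Y) (_ : Etale j) (v : V) (_ : j v = t) (U : X.Etale)
      (k : V ⟶ U.left) (hk : k ≫ U.hom = j ≫ r) (b : sect C ((EtCoh.bc p).obj U)),
      ∀ (Ω : Type u) [Field Ω] [IsSepClosed Ω] (ζ : Spec (.of Ω) ⟶ V) (ρ : Spec (.of Ω) ⟶ YZ)
        (h : ζ ≫ j = ρ ≫ rr) (h' : (ζ ≫ k) ≫ U.hom = (ρ ≫ z) ≫ p),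
        germ C (U := (EtCoh.bc p).obj U) (bcPt p (ρ ≫ z) (ζ ≫ k) h') (bcPt_hom _ _ _ _) b =
          δ'.val ρ (ρ ≫ z) rfl := by
  obtain ⟨Ω, _, _, η, rfl⟩ := exists_geomPoint Y t
  let ξ : Spec (.of Ω) ⟶ X := η ≫ r
  let m : pullback p ξ ⟶ YZ := hpb.lift (pullback.snd p ξ ≫ η) (pullback.fst p ξ) (by
    rw [Category.assoc, pullback.condition])
  have hm1 : m ≫ rr = pullback.snd p ξ ≫ η := hpb.lift_fst _ _ _
  have hm2 : m ≫ z = pullback.fst p ξ := hpb.lift_snd _ _ _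
  obtain ⟨U, l, hl, b, hb⟩ := Groth.Agent.Sga4A.BCIntegral.bcsurj_of_isIntegralHom p C Ω ξ ((δ'.pull m).congr hm2)
  let V := pullback r U.hom
  let j : V ⟶ Y := pullback.fst r U.hom
  let k : V ⟶ U.left := pullback.snd r U.hom
  have hk : k ≫ U.hom = j ≫ r := pullback.condition.symm
  let κ : Spec (.of Ω) ⟶ V := pullback.lift η l hl.symm
  have hκ1 : κ ≫ j = η := pullback.lift_fst _ _ _
  have hκ2 : κ ≫ k = l := pullback.lift_snd _ _ _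
  -- the two families
  let VZ := pullback j rr
  let pr1 : VZ ⟶ V := pullback.fst j rr
  let pr2 : VZ ⟶ YZ := pullback.snd j rr
  have hpr : pr1 ≫ j = pr2 ≫ rr := pullback.condition
  have hc : (pr1 ≫ k) ≫ U.hom = (pr2 ≫ z) ≫ p := by
    rw [Category.assoc, hk, ← Category.assoc, hpr, Category.assoc, hpb.w, Category.assoc]
  let κ' : VZ ⟶ ((EtCoh.bc p).obj U).left := pullback.lift (pr1 ≫ k) (pr2 ≫ z) hc
  have hκ'1 : κ' ≫ bcFst p U = pr1 ≫ k := pullback.lift_fst _ _ _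
  have hκ'2 : κ' ≫ ((EtCoh.bc p).obj U).hom = pr2 ≫ z := pullback.lift_snd _ _ _
  let γ₁ : Fam C (pr2 ≫ z) := ((Fam.ofSect (U := (EtCoh.bc p).obj U) b).pull κ').congr hκ'2
  let γ₂ : Fam C (pr2 ≫ z) := δ'.pull pr2
  have hγ₁ : ∀ (Ω : Type u) [Field Ω] [IsSepClosed Ω] (ρ : Spec (.of Ω) ⟶ VZ) (ζ : Spec (.of Ω) ⟶ V)
      (_ : ρ ≫ pr1 = ζ) (ρ' : Spec (.of Ω) ⟶ YZ) (_ : ρ ≫ pr2 = ρ')
      (h' : (ζ ≫ k) ≫ U.hom = (ρ' ≫ z) ≫ p) (e : ρ ≫ pr2 ≫ z = ρ' ≫ z), γ₁.val ρ (ρ' ≫ z) e =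
        germ C (U := (EtCoh.bc p).obj U) (bcPt p (ρ' ≫ z) (ζ ≫ k) h') (bcPt_hom _ _ _ _) b := by
    intro Ω _ _ ρ ζ hζ ρ' hρ' h' e
    have e1 : (ρ ≫ κ') ≫ ((EtCoh.bc p).obj U).hom = ρ' ≫ z := by rw [Category.assoc, hκ'2, e]
    have e2 : ρ ≫ κ' = bcPt p (ρ' ≫ z) (ζ ≫ k) h' := by
      apply hom_ext_bc
      · rw [bcPt_fst, Category.assoc, hκ'1, ← hζ, Category.assoc]
      · rw [bcPt_hom, e1]
    have h9 : γ₁.val ρ (ρ' ≫ z) e = (Fam.ofSect (U := (EtCoh.bc p).obj U) b).val (ρ ≫ κ') (ρ' ≫ z) e1 :=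
      Fam.congr_val _ hκ'2 ρ (ρ' ≫ z) e
    rw [h9]
    exact (Fam.ofSect (U := (EtCoh.bc p).obj U) b).val_congr e2 _ e1 (bcPt_hom _ _ _ _)
  let A : Set VZ := Fam.Agree γ₁ γ₂
  have hA : IsOpen A := Fam.isOpen_Agree _ _
  have hAv : ∀ w : VZ, pr1 w = κ default → w ∈ A := by
    intro w hw
    obtain ⟨y, hy1, hy2⟩ := Scheme.Pullback.exists_preimage_pullback (f := κ) (g := pr1) default w hw.symm
    obtain ⟨Ω', _, _, ρ₀, rfl⟩ := exists_geomPoint _ y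
    let α : Spec (.of Ω') ⟶ Spec (.of Ω) := ρ₀ ≫ pullback.fst κ pr1
    let ρ : Spec (.of Ω') ⟶ VZ := ρ₀ ≫ pullback.snd κ pr1
    have hρα : ρ ≫ pr1 = α ≫ κ := by
      change (ρ₀ ≫ pullback.snd κ pr1) ≫ pr1 = (ρ₀ ≫ pullback.fst κ pr1) ≫ κ
      rw [Category.assoc, ← pullback.condition, Category.assoc]
    have hρw : ρ default = w := hy2
    have e1 : (ρ ≫ pr2) ≫ rr = α ≫ η := by
      rw [Category.assoc, ← hpr, ← Category.assoc, hρα, Category.assoc, hκ1]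
    have h1 : (α ≫ ξ : Spec (.of Ω') ⟶ X) = ((ρ ≫ pr2) ≫ z) ≫ p := by
      have e2 : (α ≫ ξ : Spec (.of Ω') ⟶ X) = (α ≫ η) ≫ r := (Category.assoc _ _ _).symm
      rw [e2, ← e1, Category.assoc (ρ ≫ pr2), hpb.w, Category.assoc (ρ ≫ pr2)]
    have h2 : ((α ≫ l)) ≫ U.hom = ((ρ ≫ pr2) ≫ z) ≫ p := by rw [Category.assoc, hl, h1]
    have h3 : ((α ≫ κ) ≫ k) ≫ U.hom = ((ρ ≫ pr2) ≫ z) ≫ p := by
      rw [Category.assoc α, hκ2, h2]
    rw [← hρw, Fam.mem_agree_iff _ _ ρ ((ρ ≫ pr2) ≫ z) (Category.assoc _ _ _).symm,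
      hγ₁ Ω' ρ (α ≫ κ) hρα (ρ ≫ pr2) rfl h3 (Category.assoc _ _ _).symm]
    let ζ₀ : Spec (.of Ω') ⟶ pullback p ξ := pullback.lift ((ρ ≫ pr2) ≫ z) α h1.symm
    have hζ1 : ζ₀ ≫ pullback.fst p ξ = (ρ ≫ pr2) ≫ z := pullback.lift_fst _ _ _
    have hζ2 : ζ₀ ≫ pullback.snd p ξ = α := pullback.lift_snd _ _ _
    have hζm : ζ₀ ≫ m = ρ ≫ pr2 := by
      apply hpb.hom_ext
      · rw [Category.assoc, hm1, ← Category.assoc, hζ2, e1]
      · rw [Category.assoc, hm2, hζ1]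
    have h4 : (ζ₀ ≫ pullback.snd p ξ ≫ l) = α ≫ l := by rw [← Category.assoc, hζ2]
    have h5 := hb ζ₀ ((ρ ≫ pr2) ≫ z) hζ1 (by rw [h4, h2])
    rw [Fam.congr_val] at h5
    have h6 : (δ'.pull m).val ζ₀ ((ρ ≫ pr2) ≫ z) (by rw [hm2, hζ1]) =
        γ₂.val ρ ((ρ ≫ pr2) ≫ z) (Category.assoc _ _ _).symm := by
      exact δ'.val_congr hζm _ _ _
    rw [← h6, h5]
    have h7 : (α ≫ κ) ≫ k = ζ₀ ≫ pullback.snd p ξ ≫ l := by
      rw [h4, Category.assoc, hκ2]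
    have h8 : bcPt p ((ρ ≫ pr2) ≫ z) ((α ≫ κ) ≫ k) h3 =
        bcPt p ((ρ ≫ pr2) ≫ z) (ζ₀ ≫ pullback.snd p ξ ≫ l) (by rw [h4, h2]) := by
      apply hom_ext_bc
      · rw [bcPt_fst, bcPt_fst, h7]
      · rw [bcPt_hom, bcPt_hom]
    exact (Fam.ofSect (U := (EtCoh.bc p).obj U) b).val_congr h8 _ _ _
  -- shrinking
  have hfin : IsFinite rr := MorphismProperty.of_isPullback (P := @IsFinite) hpb.flip inferInstance
  have hfin' : IsFinite pr1 := inferInstance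
  let O : V.Opens := ⟨(pr1 '' Aᶜ)ᶜ, (pr1.isClosedMap _ hA.isClosed_compl).isOpen_compl⟩
  have hκO : κ default ∈ O := by
    rintro ⟨w, hw, hw'⟩
    exact hw (hAv w hw')
  refine ⟨O, O.ι ≫ j, inferInstance, ⟨κ default, hκO⟩, ?_, U, O.ι ≫ k, ?_, b, ?_⟩
  · change j (κ default) = η default
    rw [← Scheme.Hom.comp_apply, hκ1]
  · rw [Category.assoc, hk, Category.assoc]
  · intro Ω' _ _ ζ ρ h h'
    let ρ₁ : Spec (.of Ω') ⟶ VZ := pullback.lift (ζ ≫ O.ι) ρ (by rw [Category.assoc, h])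
    have h1 : ρ₁ ≫ pr1 = ζ ≫ O.ι := pullback.lift_fst _ _ _
    have h2 : ρ₁ ≫ pr2 = ρ := pullback.lift_snd _ _ _
    have h3 : ρ₁ default ∈ A := by
      by_contra hA'
      have h4 : (ζ ≫ O.ι) default ∈ O := (ζ default).2
      apply h4
      refine ⟨ρ₁ default, hA', ?_⟩
      rw [← Scheme.Hom.comp_apply, h1]
    have h4 : ((ζ ≫ O.ι) ≫ k) ≫ U.hom = (ρ ≫ z) ≫ p := by
      rw [← h']; simp only [Category.assoc]
    have e : ρ₁ ≫ pr2 ≫ z = ρ ≫ z := by rw [← Category.assoc, h2]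
    rw [Fam.mem_agree_iff _ _ ρ₁ (ρ ≫ z) e, hγ₁ Ω' ρ₁ (ζ ≫ O.ι) h1 ρ h2 h4 e] at h3
    have h5 : γ₂.val ρ₁ (ρ ≫ z) e = δ'.val ρ (ρ ≫ z) rfl := δ'.val_congr h2 _ _ _
    rw [← h5, ← h3]
    have h8 : bcPt p (ρ ≫ z) (ζ ≫ O.ι ≫ k) h' = bcPt p (ρ ≫ z) ((ζ ≫ O.ι) ≫ k) h4 := by
      apply hom_ext_bc
      · rw [bcPt_fst, bcPt_fst, Category.assoc]
      · rw [bcPt_hom, bcPt_hom]
    exact (Fam.ofSect (U := (EtCoh.bc p).obj U) b).val_congr h8 _ _ _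

/-- **Existence of families of a direct image.** -/
theorem exists_fam_push [IsFinite p] (hpb : IsPullback rr z r p) (δ' : Fam C z) :
    ∃ δ : Fam ((pushSh p).obj C) r, ∀ w : YZ,
      w ∈ Fam.Agree (img p (𝟙 ((pushSh p).obj C)) δ rr z hpb.w) δ' := by
  choose V j hj v hv U k hk b hb using fun t => exists_local_push p C hpb δ' t
  obtain ⟨δ, hδ⟩ := exists_glue V j hj v hv
    (fun t => ((Fam.ofSect (F := (pushSh p).obj C) (U := U t) (b t)).pull (k t)).congr (hk t)) (by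
      intro t t' Ω _ _ ζ ζ' hζ ξ e e'
      rw [Fam.congr_val, Fam.congr_val]
      refine ev_ext p C ξ (ζ ≫ k t) _ (ζ' ≫ k t') _ (b t) (b t') ?_
      intro Ω' _ _ α ζ₀ e₀
      have h1 : ((α ≫ ζ) ≫ j t) ≫ r = ζ₀ ≫ p := by
        rw [e₀, ← e]; simp only [Category.assoc]
      let ρ : Spec (.of Ω') ⟶ YZ := hpb.lift ((α ≫ ζ) ≫ j t) ζ₀ h1
      have hρ1 : ρ ≫ rr = (α ≫ ζ) ≫ j t := hpb.lift_fst _ _ _
      have hρ2 : ρ ≫ z = ζ₀ := hpb.lift_snd _ _ _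
      have hρ1' : ρ ≫ rr = (α ≫ ζ') ≫ j t' := by rw [hρ1, Category.assoc, hζ, Category.assoc]
      have h2 : ∀ (t : Y) (ζ : Spec (.of Ω) ⟶ V t) (h : ρ ≫ rr = (α ≫ ζ) ≫ j t)
          (h' : (α ≫ ζ ≫ k t) ≫ (U t).hom = ζ₀ ≫ p),
          germ C (U := (EtCoh.bc p).obj (U t)) (bcPt p ζ₀ (α ≫ ζ ≫ k t) h') (bcPt_hom _ _ _ _) (b t) =
          δ'.val ρ ζ₀ hρ2 := by
        intro t ζ h h'
        have h'' : ((α ≫ ζ) ≫ k t) ≫ (U t).hom = (ρ ≫ z) ≫ p := by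
          rw [hρ2, ← h']; simp only [Category.assoc]
        have h3 := hb t Ω' (α ≫ ζ) ρ h.symm h''
        have h4 : ∀ (ζ₁ : Spec (.of Ω') ⟶ Z) (e : ρ ≫ z = ζ₁) (h'' : ((α ≫ ζ) ≫ k t) ≫ (U t).hom = ζ₁ ≫ p),
          germ C (U := (EtCoh.bc p).obj (U t)) (bcPt p ζ₁ ((α ≫ ζ) ≫ k t) h'') (bcPt_hom _ _ _ _) (b t) =
          δ'.val ρ ζ₁ e := by
          rintro ζ₁ rfl h''
          exact h3
        have h5 := h4 ζ₀ hρ2 (by rw [← h']; simp only [Category.assoc])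
        rw [← h5]
        have h8 : bcPt p ζ₀ (α ≫ ζ ≫ k t) h' = bcPt p ζ₀ ((α ≫ ζ) ≫ k t)
            (by rw [← h']; simp only [Category.assoc]) := by
          apply hom_ext_bc
          · rw [bcPt_fst, bcPt_fst, Category.assoc]
          · rw [bcPt_hom, bcPt_hom]
        exact (Fam.ofSect (U := (EtCoh.bc p).obj (U t)) (b t)).val_congr h8 _ _ _
      rw [h2 t ζ hρ1, h2 t' ζ' hρ1'])
  refine ⟨δ, fun w => ?_⟩
  obtain ⟨Ω, _, _, ρ, rfl⟩ := exists_geomPoint YZ w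
  let t : Y := (ρ ≫ rr) default
  have := hj t
  obtain ⟨ζ, hζ, -⟩ := Scheme.exists_fac_of_etale_of_isSepClosed (j t) (ρ ≫ rr) (v t) (hv t)
  have e₂ : (ρ ≫ z) ≫ p = (ρ ≫ rr) ≫ r := by rw [Category.assoc, ← hpb.w, Category.assoc]
  rw [Fam.mem_agree_iff _ _ ρ (ρ ≫ z) rfl, img_val' p C δ rr z _ ρ _ _ rfl e₂ rfl]
  have e1 : (ζ ≫ j t) ≫ r = (ρ ≫ rr) ≫ r := by rw [hζ]
  have e2 : ζ ≫ j t ≫ r = (ρ ≫ rr) ≫ r := by rw [← e1, Category.assoc]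
  have e3 : (ζ ≫ k t) ≫ (U t).hom = (ρ ≫ rr) ≫ r := by rw [Category.assoc, hk, e2]
  have h1 : δ.val (ρ ≫ rr) ((ρ ≫ rr) ≫ r) rfl = germ ((pushSh p).obj C) (ζ ≫ k t) e3 (b t) :=
    (δ.val_congr hζ.symm _ _ e1).trans ((hδ t Ω ζ _ e1 e2).trans (Fam.congr_val _ _ _ _ _))
  rw [h1, ev_germ]
  exact hb t Ω ζ ρ hζ _

end Exists

end K990.CohProp
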