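import Groth.Agent.CohProp.K990.Chart
import Groth.Agent.Etbase.FLCRep
import Groth.Agent.Etbase.FinEtSplit
import Groth.Agent.EtpbcA.Germ
import Groth.Agent.Etcore.PullRepr

/-!
# Finite locally constant sheaves of sets and finite étale schemes
-/

set_option autoImplicit false
universe u

open CategoryTheory CategoryTheory.Limits AlgebraicGeometry Opposite

namespace K990.CohProp

open EtDesc Groth.Agent.Etbase.EtSite

variable {X : Scheme.{u}}

/-- The representable presheaf. -/
noncomputable abbrev repPre (U : X.Etale) : (X.Etale)ᵒᵖ ⥤ Type (u + 1) :=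
  yoneda.obj U ⋙ uliftFunctor.{u + 1, u}

/-- The sheafification map. -/
noncomputable def repMap (U : X.Etale) : repPre U ⟶ (repSh U).obj :=
  toSheafify X.smallEtaleTopology (repPre U)

instance (U : X.Etale) : Presheaf.IsLocallyInjective X.smallEtaleTopology (repMap U) :=
  Presheaf.isLocallyInjective_toSheafify' _ _

instance (U : X.Etale) : Presheaf.IsLocallySurjective X.smallEtaleTopology (repMap U) :=
  Presheaf.isLocallySurjective_toSheafify' _ _

theorem exists_chart_fin {F : Sh X} (hF : _root_.CohProp.IsFinLocConstSet F) (x : X) :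
    ∃ (U : X.Etale) (y : U.left) (_ : U.hom y = x) (n : ℕ),
      Nonempty (Chart F U (ULift.{u + 1} (Fin n))) := by
  obtain ⟨ι, U, hU, h⟩ := hF
  obtain ⟨i, y, hy⟩ := hU x
  obtain ⟨M, hM, ⟨e⟩⟩ := h i
  obtain ⟨c⟩ := nonempty_chart_of_iso e
  obtain ⟨n, ⟨k⟩⟩ := Finite.exists_equiv_fin M
  exact ⟨U i, y, hy, n, ⟨c.congr (Equiv.ulift.trans k.symm)⟩⟩

/-- A finite locally constant sheaf of sets is representable by a finite étale scheme. -/
theorem exists_finite_repSh_iso (F : Sh X) (hF : _root_.CohProp.IsFinLocConstSet F) :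
    ∃ (U : X.Etale) (_ : IsFinite U.hom), Nonempty (F ≅ repSh U) := by
  have hsh : Presieve.IsSheaf X.smallEtaleTopology F.obj :=
    (isSheaf_iff_isSheaf_of_type _ _).1 F.property
  obtain ⟨U, η, hU, hη⟩ := Groth.Agent.Etbase.FLCRep.exists_rep_of_locallyConstant hsh (fun x => by
    obtain ⟨U, y, hy, n, ⟨c⟩⟩ := exists_chart_fin hF x
    refine ⟨U, y, hy, Fin n, inferInstance, fun m => c.φ (ULift.up m), ?_, ?_⟩
    · intro T k t m m' h
      exact ULift.up_injective (c.inj T k t _ _ h)
    · intro T k t s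
      obtain ⟨m, V, f, t', ht', h⟩ := c.surj T k t s
      exact ⟨m.down, V, f, t', ht', h⟩)
  refine ⟨U, hU, ?_⟩
  let a : repPre U ⟶ F.obj :=
    { app := fun T => TypeCat.ofHom fun f => F.obj.map f.down.op η
      naturality := by
        intro T T' k
        ext f
        change F.obj.map (k.unop ≫ f.down).op η = F.obj.map k (F.obj.map f.down.op η)
        rw [← Functor.map_comp_apply]
        rfl }
  have ha : ∀ T, Function.Bijective (a.app T) := by
    intro T
    exact (hη T.unop).comp (Equiv.ulift.bijective)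
  have h1 : Presheaf.IsLocallyInjective X.smallEtaleTopology a := by
    apply Presheaf.isLocallyInjective_of_injective
    intro T
    exact (ha T).1
  have h2 : Presheaf.IsLocallySurjective X.smallEtaleTopology a := by
    apply Presheaf.isLocallySurjective_of_surjective
    intro T
    exact (ha T).2
  exact nonempty_iso_of_locBij _ a (repMap U) h1 h2 inferInstance inferInstance

open Groth.Agent.EtpbcA.Germ hiding mem_iff
open Groth.Agent.Etbase.FinEtSplit

/-- Two morphisms of étale `X`-schemes agreeing at a geometric point agree near it. -/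
theorem exists_eq_near {Ω : Type u} [Field Ω] [IsSepClosed Ω] (ξ : Spec (CommRingCat.of Ω) ⟶ X)
    {T U : X.Etale} (a b : T ⟶ U) (t : Fib ξ T) (h : fmap ξ a t = fmap ξ b t) :
    ∃ (V : X.Etale) (f : V ⟶ T) (v : Fib ξ V), fmap ξ f v = t ∧ f ≫ a = f ≫ b := by
  let Φ := Scheme.pointSmallEtale ξ
  let W₀ : Φ.fiber.Elements := Φ.fiber.elementsMk T t
  let U₀ : Φ.fiber.Elements := Φ.fiber.elementsMk U (Φ.fiber.map a t)
  let a₀ : W₀ ⟶ U₀ := ⟨a, rfl⟩
  let b₀ : W₀ ⟶ U₀ := ⟨b, h.symm⟩
  exact ⟨(IsCofiltered.eq a₀ b₀).1, (IsCofiltered.eqHom a₀ b₀).1, (IsCofiltered.eq a₀ b₀).2,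
    (IsCofiltered.eqHom a₀ b₀).2, congrArg Subtype.val (IsCofiltered.eq_condition a₀ b₀)⟩

/-- The sheaf of a finite étale scheme has finite charts near every point. -/
theorem exists_chart_repSh (U : X.Etale) [IsFinite U.hom] (x : X) :
    ∃ (V : X.Etale) (y : V.left) (_ : V.hom y = x) (n : ℕ),
      Nonempty (Chart (repSh U) V (ULift.{u + 1} (Fin n))) := by
  obtain ⟨Ω, _, _, η, hη⟩ := exists_geomPt_aux X x
  have hUe : Etale U.hom := U.prop
  obtain ⟨V₀, g, hg, v, hv, n, s, hs⟩ := exists_isSplit U.hom η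
  let V : X.Etale := Scheme.Etale.mk g
  let t₀ : Fib η V := Over.homMk v hv
  let σ : Fin n → (V ⟶ U) := fun j => MorphismProperty.Over.homMk (s j) (hs.w j) trivial
  have hnat : ∀ {T T' : X.Etale} (k : T' ⟶ T) (z : (repPre U).obj (op T)),
      (repSh U).obj.map k.op ((repMap U).app (op T) z) =
        (repMap U).app (op T') ((repPre U).map k.op z) := fun k z =>
    (ConcreteCategory.congr_hom ((repMap U).naturality k.op) z).symm
  refine ⟨V, pt η t₀, (hom_pt η t₀).trans hη, n, ⟨⟨fun j => (repMap U).app (op V) (ULift.up (σ j.down)),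
    ?_, ?_⟩⟩⟩
  · intro T k t m m' h
    rw [hnat, hnat] at h
    have h4 := Presheaf.equalizerSieve_mem X.smallEtaleTopology (repMap U) (X := op T) _ _ h
    rw [mem_iff] at h4
    obtain ⟨W, l, w, e, -⟩ := h4 t
    have e' : (l ≫ k) ≫ σ m.down = (l ≫ k) ≫ σ m'.down := by
      have e2 : l ≫ k ≫ σ m.down = l ≫ k ≫ σ m'.down := congrArg ULift.down e
      exact (Category.assoc _ _ _).trans (e2.trans (Category.assoc _ _ _).symm)
    obtain ⟨Ω', _, _, ξ, z, hz⟩ := exists_geomPt w
    have h1 : (fmap ξ (l ≫ k) z).left ≫ s m.down = (fmap ξ (l ≫ k) z).left ≫ s m'.down := by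
      have := congrArg (fun q => (fmap ξ q z : Fib ξ U)) e'
      rw [fmap_comp, fmap_comp] at this
      exact congrArg (fun k : Fib ξ U => (k.left : Spec (CommRingCat.of Ω') ⟶ U.left)) this
    have ht : ((fmap ξ (l ≫ k) z).left : Spec (CommRingCat.of Ω') ⟶ V.left) ≫ g = ξ :=
      Over.w (fmap ξ (l ≫ k) z)
    obtain ⟨j, -, hj⟩ := hs.existsUnique Ω' (fmap ξ (l ≫ k) z).left
      ((fmap ξ (l ≫ k) z).left ≫ s m.down)
      ((Category.assoc _ _ _).trans (congrArg (fun z => _ ≫ z) (hs.w m.down)))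
    have : m.down = m'.down := (hj _ rfl).trans (hj _ h1).symm
    exact ULift.down_injective this
  · intro T k t z
    have h4 : Presheaf.imageSieve (repMap U) z ∈ X.smallEtaleTopology T :=
      Presheaf.imageSieve_mem _ _ _
    rw [mem_iff] at h4
    obtain ⟨W, l, w, ⟨a, ha⟩, hw⟩ := h4 t
    obtain ⟨Ω', _, _, ξ, y, hy⟩ := exists_geomPt w
    have ht : ((fmap ξ (l ≫ k) y).left : Spec (CommRingCat.of Ω') ⟶ V.left) ≫ g = ξ :=
      Over.w (fmap ξ (l ≫ k) y)
    have hyU : ((fmap ξ a.down y).left : Spec (CommRingCat.of Ω') ⟶ U.left) ≫ U.hom = ξ :=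
      Over.w (fmap ξ a.down y)
    obtain ⟨j, hj, -⟩ := hs.existsUnique Ω' (fmap ξ (l ≫ k) y).left (fmap ξ a.down y).left
      (hyU.trans ht.symm)
    obtain ⟨W', f, w', hw', e⟩ := exists_eq_near ξ a.down ((l ≫ k) ≫ σ j) y (by
      rw [fmap_comp]
      apply Over.OverMorphism.ext
      exact hj)
    refine ⟨ULift.up j, W', f ≫ l, pt ξ w', ?_, ?_⟩
    · have h1 : f.left (pt ξ w') = w := by
        rw [← pt_fmap, hw', hy]
      have h2 : (f ≫ l).left (pt ξ w') = l.left (f.left (pt ξ w')) := rfl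
      rw [h2, h1, hw]
    · rw [op_comp, Functor.map_comp_apply, ← ha, hnat]
      have h3 := hnat ((f ≫ l) ≫ k) (ULift.up (σ j))
      refine Eq.trans ?_ h3.symm
      congr 1
      apply ULift.down_injective
      change f ≫ a.down = ((f ≫ l) ≫ k) ≫ σ j
      rw [e]
      simp only [Category.assoc]

theorem isFinLocConstSet_of_charts (F : Sh X) (h : ∀ x : X, ∃ (V : X.Etale) (y : V.left)
    (_ : V.hom y = x) (M : Type (u + 1)) (_ : Finite M), Nonempty (Chart F V M)) :
    _root_.CohProp.IsFinLocConstSet F := by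
  choose V y hy M hM c using h
  exact ⟨X, V, fun x => ⟨x, y x, hy x⟩, fun x => ⟨M x, hM x, (c x).some.nonempty_iso⟩⟩

theorem isFinLocConstSet_repSh (U : X.Etale) [IsFinite U.hom] :
    _root_.CohProp.IsFinLocConstSet (repSh U) :=
  isFinLocConstSet_of_charts _ fun x => by
    obtain ⟨V, y, hy, n, c⟩ := exists_chart_repSh U x
    exact ⟨V, y, hy, _, inferInstance, c⟩

end K990.CohProp
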