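import Groth.Agent.CohProp.K990.Cogen2
import Groth.Agent.S0414

/-!
# Strata for constructible sheaves of sets
-/

set_option autoImplicit false
set_option linter.unusedSectionVars false
set_option linter.unusedVariables false
set_option backward.isDefEq.respectTransparency.types false
universe u

open CategoryTheory CategoryTheory.Limits AlgebraicGeometry Opposite TopologicalSpace

namespace K990.CohProp

open EtDesc Groth.Agent.Sga4A.EtStalk

theorem finGen_of_isFinLocConstSet {X T : Scheme.{u}} (g : T ⟶ X) {F : Sh X}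
    (h : _root_.CohProp.IsFinLocConstSet ((pullSh g).obj F)) : FinGen F g := by
  obtain ⟨ι, U, hU, h⟩ := h
  intro t
  obtain ⟨i, y, hy⟩ := hU t
  obtain ⟨M, hM, ⟨e⟩⟩ := h i
  let c := ((constChart T M (U i)).ofOverIso e.symm).toK548
  refine ⟨(U i).left, (U i).hom, (U i).prop, y, hy, M, hM,
    fun m => (Fam.ofSect (F := (pullSh g).obj F) (c.e m)).fromPull, ?_⟩
  intro Ω _ _ η ξ h σ
  have e2 : (η ≫ (U i).hom) ≫ g = ξ := by rw [Category.assoc, h]
  obtain ⟨m, hm⟩ := c.exists_germ η rfl (pullStk' g F (η ≫ (U i).hom) ξ e2 σ)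
  refine ⟨m, ?_⟩
  refine (Fam.fromPull_val _ η _ ξ rfl e2 h).trans ?_
  exact (congrArg (pullStk' g F (η ≫ (U i).hom) ξ e2).symm hm).trans (Equiv.symm_apply_apply _ _)

theorem exists_open_finGen {X R : Scheme.{u}} [IsIntegral R] (i : R ⟶ X) {F : Sh X}
    (hF : _root_.CohProp.IsConstructibleSet F) :
    ∃ O : R.Opens, genericPoint R ∈ O ∧ FinGen F (O.ι ≫ i) := by
  obtain ⟨U, hU, hxU, -⟩ := exists_isAffineOpen_mem_and_subset (X := X) (x := i (genericPoint R))
    (U := ⊤) trivial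
  obtain ⟨n, T, g, h1, -, -, h4, h5⟩ := hF U hU
  have hx : i (genericPoint R) ∈ ⋃ k, Set.range (g k) := by rw [h4]; exact hxU
  obtain ⟨k, t, ht⟩ := Set.mem_iUnion.1 hx
  have := h1 k
  let h : pullback (g k) i ⟶ R := pullback.snd (g k) i
  have hi : IsImmersion h := inferInstance
  obtain ⟨y, -, hy⟩ := Scheme.Pullback.exists_preimage_pullback (f := g k) (g := i) t (genericPoint R) ht
  have hlc : IsLocallyClosed (Set.range h) := IsImmersion.isLocallyClosed_range (f := h)
  obtain ⟨O₁, K, hO₁, hK, hOK⟩ := hlc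
  have hgK : genericPoint R ∈ O₁ ∩ K := by
    rw [← hOK]; exact ⟨y, hy⟩
  have hKu : K = Set.univ := by
    refine Set.eq_univ_of_univ_subset ?_
    have h2 := (genericPoint_spec R)
    rw [← h2.def]
    exact closure_minimal (by rintro _ rfl; exact hgK.2) hK
  let O : R.Opens := ⟨O₁, hO₁⟩
  have hOr : (O : Set R) = Set.range h := by
    rw [hOK, hKu, Set.inter_univ]; rfl
  have hsurj : Surjective (h ∣_ O) := by
    refine ⟨fun x => ?_⟩
    have hx : x.1 ∈ Set.range h := by rw [← hOr]; exact x.2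
    obtain ⟨z, hz⟩ := hx
    refine ⟨⟨z, ?_⟩, ?_⟩
    · change h z ∈ O
      rw [hz]; exact x.2
    · apply O.ι.isOpenEmbedding.injective
      rw [← Scheme.Hom.comp_apply, (isPullback_morphismRestrict h O).w]
      exact hz
  have himm : IsImmersion (h ∣_ O) :=
    MorphismProperty.of_isPullback (P := @IsImmersion) (isPullback_morphismRestrict h O).flip inferInstance
  have hcl : IsClosedImmersion (h ∣_ O) := IsClosedImmersion.of_isPreimmersion _ (by
    rw [hsurj.surj.range_eq]; exact isClosed_univ)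
  have hred : IsReduced O.toScheme := inferInstance
  have hiso : IsIso (h ∣_ O) := isIso_of_isClosedImmersion_of_surjective _
  refine ⟨O, hgK.1, ?_⟩
  let s : O.toScheme ⟶ T k := inv (h ∣_ O) ≫ (h ⁻¹ᵁ O).ι ≫ pullback.fst (g k) i
  have hs : s ≫ g k = O.ι ≫ i := by
    have h6 : inv (h ∣_ O) ≫ (h ⁻¹ᵁ O).ι ≫ h = O.ι := by
      rw [IsIso.inv_comp_eq, (isPullback_morphismRestrict h O).w]
    calc s ≫ g k = inv (h ∣_ O) ≫ (h ⁻¹ᵁ O).ι ≫ (pullback.fst (g k) i ≫ g k) := by
          simp only [s, Category.assoc]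
      _ = inv (h ∣_ O) ≫ (h ⁻¹ᵁ O).ι ≫ (h ≫ i) := by rw [pullback.condition]
      _ = (inv (h ∣_ O) ≫ (h ⁻¹ᵁ O).ι ≫ h) ≫ i := by simp only [Category.assoc]
      _ = O.ι ≫ i := by rw [h6]
  rw [← hs]
  exact (finGen_of_isFinLocConstSet (g k) (h5 k)).comp s

theorem exists_open_ca {X R Z : Scheme.{u}} [IsIntegral R] (i : R ⟶ X) (p : Z ⟶ X) [IsFinite p]
    (C : Sh Z) (hC : K548.LC.IsLC C) :
    ∃ O : R.Opens, genericPoint R ∈ O ∧ CA ((pushSh p).obj C) (O.ι ≫ i) := by
  obtain ⟨O, hO, h1, h2⟩ := Groth.Agent.S0414.result (pullback.fst i p)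
  have hg : genericPoint R ∈ O := by
    obtain ⟨x, -, hx⟩ := hO.inter_open_nonempty Set.univ isOpen_univ ⟨genericPoint R, trivial⟩
    exact ((genericPoint_spec R).specializes trivial : genericPoint R ⤳ x).mem_open O.2 ‹_›
  refine ⟨O, hg, ?_⟩
  have s : IsPullback (pullback.fst (O.ι ≫ i) p) (pullback.snd (O.ι ≫ i) p) (O.ι ≫ i) p :=
    IsPullback.of_hasPullback _ _
  have t : IsPullback (pullback.fst i p) (pullback.snd i p) i p := IsPullback.of_hasPullback _ _
  let u : pullback (O.ι ≫ i) p ⟶ pullback i p :=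
    t.lift (pullback.fst (O.ι ≫ i) p ≫ O.ι) (pullback.snd (O.ι ≫ i) p) (by rw [Category.assoc, s.w])
  have hu1 : u ≫ pullback.fst i p = pullback.fst (O.ι ≫ i) p ≫ O.ι := t.lift_fst _ _ _
  have hu2 : u ≫ pullback.snd i p = pullback.snd (O.ι ≫ i) p := t.lift_snd _ _ _
  have hu : IsPullback u (pullback.fst (O.ι ≫ i) p) (pullback.fst i p) O.ι := by
    refine IsPullback.of_right (h₁₂ := pullback.snd i p) (v₁₃ := p) (h₂₂ := i) ?_ hu1 t.flip
    rw [hu2]
    exact s.flip
  let e := hu.flip.isoIsPullback _ _ (isPullback_morphismRestrict (pullback.fst i p) O)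
  have he : e.hom ≫ (pullback.fst i p ∣_ O) = pullback.fst (O.ι ≫ i) p :=
    hu.flip.isoIsPullback_hom_fst _ _ (isPullback_morphismRestrict (pullback.fst i p) O)
  have ho : UniversallyOpen (pullback.fst (O.ι ≫ i) p) := by
    rw [← he]
    infer_instance
  exact ca_push p C hC

end K990.CohProp
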